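import Mathlib
import Cfsg.Agent.H11.OLang2
import Cfsg.Agent.H10.AutPSp2

/-!
# Tools for local balance in classical groups
-/

set_option autoImplicit false

namespace Cfsg.Agent.H11

open Module

section groups

variable {Γ K : Type*} [Group Γ] [Group K] {p : ℕ}

theorem bal_of_sub (hZ : Function.Injective (MulAut.conj : K →* _)) {Φ : Γ →* MulAut K}
    (hs : Function.Surjective Φ) (L : Subgroup Γ) {γ : Γ} (hL : ∀ l ∈ L, Φ l ∈ Inn K)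
    (h1 : ∀ l ∈ L, Commute l γ)
    (h2 : ∀ M ≤ L, (∀ l ∈ L, ∀ a ∈ M, l * a * l⁻¹ ∈ M) →
      (∀ a ∈ M, Φ a = 1) ∨ ∃ a ∈ M, orderOf (Φ a) = p)
    (h3 : ∀ k, Φ k ∈ Inn K → Commute (Φ k) (Φ γ) → ∀ l ∈ L, k * l * k⁻¹ ∈ L)
    (h4 : ∀ θ, (∀ l ∈ L, Commute (Φ θ) (Φ l)) → ∃ n, Φ θ ^ p ^ n = 1) : H10.Bal p (Φ γ) := by
  have k : ∀ {θ : MulAut K} {y}, Commute (MulAut.conj y) θ ↔ θ y = y := fun {θ y} =>
    Subgroup.mem_centralizer_singleton_iff.symm.trans (H10.conj_mem_centralizer_iff hZ)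
  refine ⟨(L.map Φ).comap MulAut.conj, ?_, fun M hM hn => ?_, ?_, fun θ hθ => ?_⟩
  · rintro y ⟨l, hl, e⟩
    exact k.mp (e ▸ (h1 l hl).map Φ)
  · refine (h2 ((M.map MulAut.conj).comap Φ ⊓ L) inf_le_right ?_).imp (fun H => ?_) ?_
    · rintro l hl a ⟨⟨y, hy, e⟩, ha⟩
      obtain ⟨z, hz⟩ := hL l hl
      exact ⟨⟨_, hn z ⟨l, hl, hz.symm⟩ y hy, by simp [hz, e]⟩,
        L.mul_mem (L.mul_mem hl ha) (L.inv_mem hl)⟩
    · refine eq_bot_iff.mpr fun y hy => hZ ?_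
      obtain ⟨l, hl, e⟩ := hM hy
      rw [map_one, ← e, H l ⟨⟨y, hy, e.symm⟩, hl⟩]
    · rintro ⟨a, ⟨⟨y, hy, e⟩, -⟩, ha⟩
      exact ⟨y, hy, by rw [← ha, ← e, orderOf_injective _ hZ]⟩
  · rintro y hy z ⟨l, hl, e⟩
    obtain ⟨g, hg⟩ := hs (MulAut.conj y)
    exact ⟨_, h3 g ⟨y, hg.symm⟩ (hg ▸ k.mpr hy) l hl, by simp [hg, e]⟩
  · obtain ⟨θ, rfl⟩ := hs θ
    refine h4 θ fun l hl => ?_
    obtain ⟨z, hz⟩ := hL l hl
    exact hz ▸ (k.mpr (hθ z ⟨l, hl, hz.symm⟩)).symm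

theorem balance_iff' [Finite K] [Fact p.Prime] (hZ : Function.Injective (MulAut.conj : K →* _))
    {A : Subgroup (MulAut K)} (hinn : ∀ k, MulAut.conj k ∈ A) {x : MulAut K}
    (hk : ∃ k ∈ Inn K, k ≠ 1 ∧ Commute k x)
    (hB : ∀ y ∈ Inn K, Commute y x → orderOf y = p → H10.Bal p x) {P : Prop}
    (hP : P ∨ H10.Bal p x) : pPrimeCore p ↥(A ⊓ Subgroup.centralizer {x}) ≠ ⊥ ↔
      P ∧ p.Coprime (Nat.card (x.toMonoidHom.eqLocus (MonoidHom.id K))) := by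
  have k : ∀ {y}, Commute (MulAut.conj y) x ↔ x y = y := fun {y} =>
    Subgroup.mem_centralizer_singleton_iff.symm.trans (H10.conj_mem_centralizer_iff hZ)
  obtain ⟨_, ⟨y, rfl⟩, h1, h2⟩ := hk
  have := H10.balance_iff hZ hinn 1 (k := y) (by rintro rfl; simp at h1) (k.mp h2)
    fun y hy hy' => hB _ ⟨y, rfl⟩ (k.mpr hy) (by rw [orderOf_injective _ hZ, hy'])
  rw [one_mul, inv_one, mul_one] at this
  rcases hP with hP | hP
  · rw [and_iff_right hP, this]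
  · exact iff_of_false (fun h => h (hP.core_eq_bot hZ hinn))
      fun h => this.mpr h.2 (hP.core_eq_bot hZ hinn)

theorem exists_orderOf_two {M : Subgroup Γ} (Φ : Γ →* K) {g : Γ} (hg : g ∈ M) (h1 : Φ g ≠ 1)
    (h4 : Φ g ^ 4 = 1) : ∃ a ∈ M, orderOf (Φ a) = 2 := by
  by_cases h2 : Φ g ^ 2 = 1
  · exact ⟨g, hg, orderOf_eq_prime h2 h1⟩
  · exact ⟨g ^ 2, pow_mem hg 2, orderOf_eq_prime (by rw [map_pow, ← pow_mul, h4]) (by rwa [map_pow])⟩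

theorem mem_of_pow_four {M : Subgroup Γ} {m a₁ a₂ a₃ : Γ} {r : ℕ} (hr : Odd r) (hm : m ∈ M)
    (h1 : ∀ x ∈ M, a₁ * x * a₁⁻¹ ∈ M) (h2 : ∀ x ∈ M, a₂ * x * a₂⁻¹ ∈ M)
    (h3 : ∀ x ∈ M, a₃ * x * a₃⁻¹ ∈ M) (ha : (a₁ * a₂ * a₃) ^ r = 1)
    (h4 : (a₁ * (m * a₂ * m⁻¹) * a₃) ^ 4 = 1) : a₁ * (m * a₂ * m⁻¹) * a₃ ∈ M := by
  have e : a₁ * (m * a₂ * m⁻¹) * a₃ * (a₁ * a₂ * a₃)⁻¹ ∈ M := by
    convert h1 _ (mul_mem hm (h2 _ (inv_mem hm))) using 1; group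
  have hn : ∀ x ∈ M, (a₁ * a₂ * a₃) * x * (a₁ * a₂ * a₃)⁻¹ ∈ M := fun x hx => by
    convert h1 _ (h2 _ (h3 _ hx)) using 1; group
  generalize a₁ * (m * a₂ * m⁻¹) * a₃ = g at e h4
  generalize a₁ * a₂ * a₃ = a at e hn ha
  have key : ∀ k : ℕ, g ^ k * (a ^ k)⁻¹ ∈ M := fun k => by
    induction k with
    | zero => simp
    | succ k ih => convert mul_mem e (hn _ ih) using 1; group
  have h5 := key r
  rw [ha, inv_one, mul_one] at h5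
  exact Subgroup.zpowers_le.mpr h5 (mem_zpowers_pow_iff.mpr (Nat.Coprime.coprime_dvd_right
    (orderOf_dvd_of_pow_eq_one h4) ((Nat.coprime_two_right.mpr hr).pow_right 2)))

end groups

variable {F : Type*} [Field F] {F₀ : Type*} [Field F₀] {j : F₀ →+* F}

section generic

variable {σ : F →+* F} {σ₀ : F₀ →+* F₀} {V : Type*} [AddCommGroup V] [Module F V]
  {V₀ : Type*} [AddCommGroup V₀] [Module F₀ V₀] {B₀ : V₀ →ₛₗ[σ₀] V₀ →ₗ[F₀] F₀} {Q₀ : V₀ → F₀}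
  {B : V →ₛₗ[σ] V →ₗ[F] F} {Q : V → F} {t : V₀ →ₛₗ[j] V} {μ : F}
  {ε κ : F} {τ : F →+ F} {κ₀ : F₀} {τ₀ : F₀ →+ F₀} {A : Type*} [Group A]

theorem IsForm.commute_semiScal (h : IsForm ε κ τ B Q) {l : SemiSim B Q} (hl : l ∈ Sim B Q)
    (a : Fˣ) : Commute (h.semiScal a) l :=
  Subtype.ext (Prod.ext (Equiv.ext fun x => by
    simpa [mem_Sim.mp hl] using (SemiSim.map_smul l a x).symm) (by simp))

theorem IsForm.commute_of_unip [Nontrivial V] (h : IsForm ε κ τ B Q) {Φ : SemiSim B Q →* A}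
    (hΦ : ∀ γ, Φ γ = 1 ↔ ∃ a, γ = h.semiScal a) {r : ℕ} [Fact r.Prime] [CharP F r]
    {θ l : SemiSim B Q} (hl : l ∈ Sim B Q) {k : ℕ} (hk : l ^ r ^ k = 1)
    (hc : Commute (Φ θ) (Φ l)) : Commute θ l := by
  obtain ⟨c, e⟩ := (hΦ (θ * l * θ⁻¹ * l⁻¹)).mp (by simp [hc.eq])
  rw [mul_inv_eq_iff_eq_mul] at e
  have h1 := congrArg (· ^ r ^ k) e
  simp only [conj_pow, (h.commute_semiScal hl c).mul_pow, hk, mul_one, mul_inv_cancel,
    ← map_pow] at h1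
  obtain ⟨x, hx⟩ := exists_ne (0 : V)
  have h2 : ((c : F) - 1) ^ r ^ k • x = 0 := by
    rw [sub_pow_char_pow, one_pow, sub_smul, one_smul, sub_eq_zero]
    rw [← Units.val_pow_eq_pow_val]
    exact (congrArg (fun γ : SemiSim B Q => γ.1.1 x) h1).symm
  obtain rfl : c = 1 := Units.ext (sub_eq_zero.mp (pow_eq_zero_iff (pow_ne_zero _
    (Fact.out : r.Prime).ne_zero) |>.mp ((smul_eq_zero_iff_left hx).mp h2)))
  rwa [map_one, one_mul, mul_inv_eq_iff_eq_mul] at e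

theorem SemiSim.fix_of_commute {δ g : SemiSim B Q} (hc : Commute δ g) {u w x : V}
    (hx : g.1.1 x - x = u) (hr : ∀ v, g.1.1 v - v ∈ Submodule.span F {u, w})
    (hs : ∀ a b : F, Q (a • u + b • w) = 0 → b = 0) (hu : Q u = 0) : ∃ c : F, δ.1.1 u = c • u := by
  obtain ⟨a, b, e⟩ := Submodule.mem_span_pair.mp (hr (δ.1.1 x))
  rw [show g.1.1 (δ.1.1 x) = δ.1.1 (g.1.1 x) from
    (congrArg (fun γ : SemiSim B Q => γ.1.1 x) hc.eq).symm, ← SemiSim.map_sub, hx] at e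
  exact ⟨a, by rw [← e, hs a b (by rw [e, SemiSim.Q_eq_zero, hu]), zero_smul, add_zero]⟩

theorem IsForm.emb_fix (h : IsForm 1 κ₀ τ₀ B₀ Q₀) (hB : B₀.SeparatingLeft)
    (ht : ∀ x y, B (t x) (t y) = μ * j (B₀ x y)) (hμ : μ ≠ 0) {u f : V₀} (hu : Q₀ u = 0)
    (hf : Q₀ f = 0) (huf : B₀ u f = 1) [Nontrivial (hperp B₀ u f)]
    (hc : ∃ (w : hperp B₀ u f) (c : F₀), c ≠ 0 ∧ Q₀ (f - w - c • u) = 0) (γ : SemiSim B Q)
    (hγ : ∀ x, Q₀ x = 0 → ∃ c : F, γ.1.1 (t x) = c • t x) :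
    ∃ a : Fˣ, (∀ x, γ.1.1 (t x) = (a : F) • t x) ∧ ∀ b, γ.1.2 (j b) = j b := by
  have h0 : ∀ {x}, t x = 0 → x = 0 := fun {x} hx => hB x fun y => by
    simpa [hx, hμ] using (ht x y).symm
  obtain ⟨a, ha⟩ := hγ u hu
  obtain ⟨b, hb⟩ := hγ f hf
  have ha0 : a ≠ 0 := by rintro rfl; simp [SemiSim.map_eq_zero] at ha; simp [h0 ha] at huf
  have hb0 : b ≠ 0 := by rintro rfl; simp [SemiSim.map_eq_zero] at hb; simp [h0 hb] at huf
  have key : ∀ (w : hperp B₀ u f) (c : F₀), Q₀ (f - w - c • u) = 0 →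
      γ.1.1 (t w) = b • t w ∧ γ.1.2 (j c) * a = b * j c := fun w c hc => by
    obtain ⟨d, hd⟩ := hγ _ hc
    have e1 : B (t u) (γ.1.1 (t w)) = 0 := by
      simpa [ha, ha0] using (SemiSim.B_eq_zero γ (x := t u) (y := t w)).mpr
        (by simp [ht, mem_hperp.mp w.2])
    have e2 : B (t f) (γ.1.1 (t w)) = 0 := by
      simpa [hb, hb0] using (SemiSim.B_eq_zero γ (x := t f) (y := t w)).mpr
        (by simp [ht, mem_hperp.mp w.2])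
    rw [map_sub t, map_sub t, t.map_smulₛₗ, SemiSim.map_sub, SemiSim.map_sub, SemiSim.map_smul, ha,
      hb] at hd
    have e3 := congrArg (B (t u)) hd
    have e4 := congrArg (B (t f)) hd
    simp [ht, hμ, e1, e2, huf, h.flip_one huf, h.diag_zero hu, h.diag_zero hf, mem_hperp.mp w.2,
      ← mul_assoc] at e3 e4
    subst e3
    refine ⟨?_, e4⟩
    rw [smul_smul, e4, ← sub_eq_zero] at hd
    rw [← sub_eq_zero, ← neg_eq_zero, ← hd]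
    module
  have hw : ∀ w : hperp B₀ u f, γ.1.1 (t w) = b • t w := fun w =>
    (key w _ (h.exists_valid hu huf w).choose_spec).1
  obtain ⟨x, hx⟩ := exists_ne (0 : hperp B₀ u f)
  have hρ : ∀ s, γ.1.2 (j s) = j s := fun s => by
    have := hw (s • x)
    rw [Submodule.coe_smul, t.map_smulₛₗ, SemiSim.map_smul, hw, smul_comm b, smul_smul,
      smul_smul] at this
    exact mul_right_cancel₀ hb0 (smul_left_injective F (fun e => hx (by simpa using h0 e)) this)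
  obtain ⟨w, c, hc0, hc⟩ := hc
  obtain rfl : a = b := mul_left_cancel₀ ((map_ne_zero j).mpr hc0)
    (by simpa [hρ, mul_comm b] using (key w c hc).2)
  refine ⟨Units.mk0 a ha0, fun x => ?_, hρ⟩
  obtain ⟨c, y, h1, h2, h3⟩ := h.exists_decomp_pair hu hf huf x
  rw [h3]
  simp only [map_add, t.map_smulₛₗ, SemiSim.map_add, SemiSim.map_smul, ha, hb, hρ,
    hw ⟨y, mem_hperp.mpr ⟨h1, h2⟩⟩, Units.val_mk0]
  module

theorem RForm.pow_eq_scal [Finite F] [FiniteDimensional F₀ V₀] (H : RForm B₀ Q₀ B Q t μ)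
    (h : IsForm ε κ τ B Q) {Φ : SemiSim B Q →* A} (hΦ : ∀ γ, Φ γ = 1 ↔ ∃ a, γ = h.semiScal a)
    {ρ : RingAut F} (hj : ∀ a, ρ a = a ↔ ∃ b, j b = a) {θ : SemiSim B Q}
    (hθ : ∃ a : Fˣ, (∀ x, θ.1.1 (t x) = (a : F) • t x) ∧ ∀ b, θ.1.2 (j b) = j b) :
    Φ θ ^ orderOf ρ = 1 := by
  obtain ⟨a, h1, h2⟩ := hθ
  have := H.pow_eq_one (γ := h.semiScal a⁻¹ * θ) (fun x => by
    change ((a⁻¹ : Fˣ) : F) • θ.1.1 _ = _
    rw [h1, smul_smul, Units.inv_mul, one_smul]) (k := orderOf ρ)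
    (H10.pow_orderOf_eq_one_of_fix fun b hb => by
      obtain ⟨b, rfl⟩ := (hj b).mp hb
      exact h2 b)
  simpa [(hΦ _).mpr ⟨_, rfl⟩] using congrArg Φ this

end generic

end Cfsg.Agent.H11
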