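import Mathlib
import Cfsg.Agent.H11.OLang2
import Cfsg.Agent.H11.Exc3
import Cfsg.Agent.H10.Wall1
import Cfsg.Agent.H10.SpTv

/-!
# Projective similarity groups of symmetric and alternating bilinear forms
-/

set_option autoImplicit false

namespace Cfsg.Agent.H11

open Module
open scoped Matrix

variable {K : Type*} [Field K] {V V' V'' : Type*} [AddCommGroup V] [Module K V]
  [AddCommGroup V'] [Module K V'] [AddCommGroup V''] [Module K V'']
  {B : V →ₗ[K] V →ₗ[K] K} {B' : V' →ₗ[K] V' →ₗ[K] K} {B'' : V'' →ₗ[K] V'' →ₗ[K] K}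
  {Y Y' : Type*} [Group Y] [Group Y']

/-- The linear similarities of a bilinear form. -/
def simE (B : V →ₗ[K] V →ₗ[K] K) : Subgroup (V ≃ₗ[K] V) where
  carrier := {g | ∃ c : K, c ≠ 0 ∧ ∀ x y, B (g x) (g y) = c * B x y}
  one_mem' := ⟨1, one_ne_zero, fun _ _ => (one_mul _).symm⟩
  mul_mem' := by
    rintro a b ⟨c, hc, h1⟩ ⟨d, hd, h2⟩
    exact ⟨c * d, mul_ne_zero hc hd, fun x y => by simp [h1, h2, mul_assoc]⟩
  inv_mem' := by
    rintro a ⟨c, hc, h1⟩
    refine ⟨c⁻¹, inv_ne_zero hc, fun x y => ?_⟩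
    have := h1 (a.symm x) (a.symm y)
    simp only [LinearEquiv.apply_symm_apply] at this
    simp [this, hc]

/-- Similar bilinear forms. -/
def Similar (B : V →ₗ[K] V →ₗ[K] K) (B' : V' →ₗ[K] V' →ₗ[K] K) : Prop :=
  ∃ (e : V ≃ₗ[K] V') (c : K), c ≠ 0 ∧ ∀ x y, B' (e x) (e y) = c * B x y

theorem Similar.symm (h : Similar B B') : Similar B' B := by
  obtain ⟨e, c, hc, h⟩ := h
  refine ⟨e.symm, c⁻¹, inv_ne_zero hc, fun x y => ?_⟩
  have := h (e.symm x) (e.symm y)
  simp only [LinearEquiv.apply_symm_apply] at this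
  simp [this, hc]

theorem Similar.trans (h : Similar B B') (h' : Similar B' B'') : Similar B B'' := by
  obtain ⟨e, c, hc, h⟩ := h
  obtain ⟨e', c', hc', h'⟩ := h'
  exact ⟨e.trans e', c' * c, mul_ne_zero hc' hc, fun x y => by simp [h, h', mul_assoc]⟩

theorem Similar.of_isom (h : ∃ e : V ≃ₗ[K] V', ∀ x y, B' (e x) (e y) = B x y) : Similar B B' :=
  h.imp fun _ h => ⟨1, one_ne_zero, by simpa using h⟩

theorem Similar.isAlt (h : Similar B B') (h' : B'.IsAlt) : B.IsAlt := fun x => by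
  obtain ⟨e, c, hc, h⟩ := h
  exact (mul_eq_zero.mp ((h x x).symm.trans (h' _))).resolve_left hc

/-- `Y` is the projective similarity group of `B`. -/
def IsPSim (B : V →ₗ[K] V →ₗ[K] K) (Y : Type*) [Group Y] : Prop :=
  ∃ Ψ : simE B →* Y, Function.Surjective Ψ ∧ ∀ g, Ψ g = 1 ↔ ∃ c : K, ∀ x, g.1 x = c • x

theorem IsPSim.congr (h : IsPSim B Y) (hs : Similar B B') : IsPSim B' Y := by
  obtain ⟨Ψ, h1, h2⟩ := h
  obtain ⟨e, c, hc, he⟩ := hs
  let φ : simE B' →* simE B := MonoidHom.mk' (fun g => ⟨e.trans (g.1.trans e.symm), by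
    obtain ⟨d, hd, h⟩ := g.2
    refine ⟨d, hd, fun x y => mul_left_cancel₀ hc ?_⟩
    rw [← he]
    simp [h, he, mul_left_comm]⟩) fun a b => Subtype.ext (LinearEquiv.ext fun x => by simp)
  refine ⟨Ψ.comp φ, h1.comp fun g => ⟨⟨e.symm.trans (g.1.trans e), ?_⟩,
    Subtype.ext (LinearEquiv.ext fun x => by simp [φ])⟩, fun g => (h2 _).trans
      (exists_congr fun a => ⟨fun H x => ?_, fun H x => by simp [φ, H]⟩)⟩
  · obtain ⟨d, hd, h⟩ := g.2
    refine ⟨d, hd, fun x y => ?_⟩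
    obtain ⟨x, rfl⟩ := e.surjective x
    obtain ⟨y, rfl⟩ := e.surjective y
    simp [h, he, mul_left_comm]
  · simpa [φ] using congrArg e (H (e.symm x))

theorem IsPSim.equiv (h : IsPSim B Y) (h' : IsPSim B' Y') (hs : Similar B B') :
    Nonempty (Y ≃* Y') := by
  obtain ⟨Ψ, h1, h2⟩ := h.congr hs
  obtain ⟨Ψ', h1', h2'⟩ := h'
  exact ⟨(exists_equiv_of_ker Ψ h1 Ψ' h1' fun g => (h2 g).trans (h2' g).symm).choose⟩

section matrix

variable {ι : Type} [Fintype ι] [DecidableEq ι] {B : (ι → K) →ₗ[K] (ι → K) →ₗ[K] K}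

theorem isPSim_of_hom {H : Subgroup (GL ι K)} (hH : ∀ g, g ∈ H ↔ glEquiv ι K g ∈ simE B)
    (Ψ : H →* Y) (h1 : Function.Surjective Ψ) (h2 : ∀ g, Ψ g = 1 ↔ g.1 ∈ Geo.scalars ι K) :
    IsPSim B Y := by
  let e := subgroupEquivOfIff _ _ _ hH
  refine ⟨Ψ.comp e.symm.toMonoidHom, h1.comp e.symm.surjective, fun g => ?_⟩
  obtain ⟨g, rfl⟩ := e.surjective g
  rw [MonoidHom.comp_apply, MulEquiv.coe_toMonoidHom, e.symm_apply_apply, h2, Geo.mem_scalars_iff]
  simp only [matrix_eq_iff_mulVec, Matrix.smul_mulVec, Matrix.one_mulVec]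
  refine ⟨fun ⟨c, h⟩ => ⟨c, h⟩, fun ⟨c, h⟩ => ?_⟩
  by_cases hc : c = 0
  · exact ⟨1, fun v => (h v).trans (by
      rw [show v = 0 from (e g).1.map_eq_zero_iff.mp (by rw [h, hc, zero_smul]), smul_zero,
        smul_zero])⟩
  · exact ⟨Units.mk0 c hc, h⟩

theorem isPSim_projQuot {H : Subgroup (GL ι K)} (hH : ∀ g, g ∈ H ↔ glEquiv ι K g ∈ simE B) :
    IsPSim B (projQuot H) :=
  isPSim_of_hom hH (QuotientGroup.mk' _) (QuotientGroup.mk'_surjective _) fun g =>
    QuotientGroup.eq_one_iff g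

theorem IsQuad.isPSim {Q : (ι → K) → K} (h : IsQuad B Q) (h2 : (2 : K) ≠ 0) : IsPSim B (PGO K Q) :=
  isPSim_projQuot fun g => ⟨fun ⟨c, H⟩ => ⟨c, c.ne_zero, fun x y => by
    have h1 := h.add (g.1 *ᵥ x) (g.1 *ᵥ y)
    rw [← Matrix.mulVec_add, H, H, H, h.add] at h1
    simp only [AddMonoidHom.id_apply] at h1
    simp only [glEquiv_apply]
    linear_combination -h1⟩, fun ⟨c, hc, H⟩ => ⟨Units.mk0 c hc, fun x => mul_left_cancel₀ h2 (by
      have := H x x
      rw [h.diag, h.diag, glEquiv_apply] at this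
      rw [this, Units.val_mk0, mul_left_comm])⟩⟩

theorem isPSim_pgsp (m : ℕ) : IsPSim (H10.spBilin (Fin m) K) (PGSp m K) :=
  isPSim_projQuot fun _ => ⟨fun ⟨c, H⟩ => ⟨c, c.ne_zero, by
    simpa only [H10.spBilin_eq_sympForm, glEquiv_apply] using H⟩, fun ⟨c, hc, H⟩ =>
      ⟨Units.mk0 c hc, by
        simpa only [H10.spBilin_eq_sympForm, glEquiv_apply, Units.val_mk0] using H⟩⟩

theorem nonempty_pgo_char_two [Finite K] [CharP K 2] {Q : (ι → K) → K} (h : IsQuad B Q)
    {u : ι → K} (hu : Q u ≠ 0) : Nonempty (isometryGroup K Q ≃* PGO K Q) := by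
  have hle : isometryGroup K Q ≤ Geo.quadSimilarityGroup (F := K) Q := fun g hg =>
    ⟨1, by simpa using mem_isometryGroup.mp hg⟩
  refine ⟨MulEquiv.ofBijective ((QuotientGroup.mk' _).comp (Subgroup.inclusion hle))
    ⟨(injective_iff_map_eq_one _).mpr fun g hg => ?_, fun y => ?_⟩⟩
  · obtain ⟨c, hc⟩ := (Geo.mem_scalars_iff _).mp
      ((QuotientGroup.eq_one_iff (Subgroup.inclusion hle g)).mp hg)
    have hc' : g.1.1 = (c : K) • 1 := hc
    have h3 := mem_isometryGroup.mp g.2 u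
    rw [hc', Matrix.smul_mulVec, Matrix.one_mulVec, h.smul] at h3
    have : (c : K) = 1 := (frobenius_inj K 2) (mul_right_cancel₀ hu (by
      simp only [frobenius_def, RingHom.id_apply] at h3 ⊢; linear_combination h3))
    exact Subtype.ext (Units.ext (by simp [hc', this]))
  · obtain ⟨⟨g, c, H⟩, rfl⟩ := QuotientGroup.mk'_surjective _ y
    obtain ⟨a, ha⟩ := (frobeniusEquiv K 2).surjective c
    have h0 : a ≠ 0 := by rintro rfl; exact c.ne_zero (by simp [← ha])
    refine ⟨⟨g * Matrix.GeneralLinearGroup.scalar ι (Units.mk0 a h0)⁻¹,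
      mem_isometryGroup.mpr fun v => ?_⟩, QuotientGroup.eq.mpr ((Geo.mem_scalars_iff _).mpr
        ⟨Units.mk0 a h0, ?_⟩)⟩
    · rw [Units.val_mul, ← Matrix.mulVec_mulVec, H, H10.scalar_val, Matrix.smul_mulVec,
        Matrix.one_mulVec, h.smul, ← ha]
      simp [frobenius_def, sq, h0]
      field_simp
    · change ((g * _)⁻¹ * g).1 = _
      rw [mul_inv_rev, inv_mul_cancel_right, map_inv, inv_inv, H10.scalar_val]

end matrix

theorem exists_mult [Nontrivial V] (hB : B.SeparatingLeft) :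
    ∃ μ : simE B →* Kˣ, ∀ g x y, B (g.1 x) (g.1 y) = μ g * B x y := by
  obtain ⟨u, hu⟩ := exists_ne (0 : V)
  obtain ⟨v, hv⟩ := not_forall.mp (mt (hB u) hu)
  choose c hc h using fun g : simE B => g.2
  exact ⟨MonoidHom.mk' (fun g => Units.mk0 _ (hc g)) fun a b => Units.ext (mul_right_cancel₀ hv (by
    simp only [Units.val_mk0, Units.val_mul, mul_assoc, ← h]; rfl)), h⟩

/-- The scalar similarities. -/
def scalE (B : V →ₗ[K] V →ₗ[K] K) : Kˣ →* simE B :=
  MonoidHom.mk' (fun a => ⟨LinearEquiv.smulOfUnit a, a * a, by simp, fun x y => by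
    simp [LinearEquiv.smulOfUnit, Units.smul_def, mul_assoc]⟩) fun a b =>
      Subtype.ext (LinearEquiv.ext fun x => by simp [LinearEquiv.smulOfUnit, mul_smul])

theorem scalE_apply (a : Kˣ) (x : V) : (scalE B a).1 x = (a : K) • x := rfl

theorem isomGroup_le_simE : H10.isomGroup B ≤ simE B := fun _ hg =>
  ⟨1, one_ne_zero, fun x y => (hg x y).trans (one_mul _).symm⟩

theorem IsPSim.card [Finite K] [Nontrivial V] (h : IsPSim B Y) (hB : B.SeparatingLeft)
    (hs : ∀ c : K, c ≠ 0 → ∃ g : V ≃ₗ[K] V, ∀ x y, B (g x) (g y) = c * B x y) :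
    Nat.card Y = Nat.card (H10.isomGroup B) := by
  obtain ⟨Ψ, h1, h2⟩ := h
  obtain ⟨μ, hμ⟩ := exists_mult hB
  obtain ⟨u, hu⟩ := exists_ne (0 : V)
  obtain ⟨v, hv⟩ := not_forall.mp (mt (hB u) hu)
  have e1 := μ.ker.card_mul_index
  have e2 := Ψ.ker.card_mul_index
  rw [Subgroup.index_ker, MonoidHom.range_eq_top.mpr fun c => by
    obtain ⟨g, hg⟩ := hs c c.ne_zero
    exact ⟨⟨g, c, c.ne_zero, hg⟩, Units.ext (mul_right_cancel₀ hv (by rw [← hμ, hg]))⟩,
    Subgroup.card_top, show μ.ker = (H10.isomGroup B).subgroupOf (simE B) from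
      Subgroup.ext fun g => ⟨fun H x y => (hμ g x y).trans (by rw [H, Units.val_one, one_mul]),
        fun H => Units.ext (mul_right_cancel₀ hv ((hμ g u v).symm.trans ((H u v).trans
          (one_mul _).symm)))⟩,
    Nat.card_congr (Subgroup.subgroupOfEquivOfLe isomGroup_le_simE).toEquiv] at e1
  rw [Subgroup.index_ker, MonoidHom.range_eq_top.mpr h1, Subgroup.card_top,
    show Ψ.ker = (scalE B).range from Subgroup.ext fun g => (h2 g).trans ⟨fun ⟨c, H⟩ =>
      ⟨Units.mk0 c fun hc => hu (g.1.map_eq_zero_iff.mp (by rw [H, hc, zero_smul])),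
        Subtype.ext (LinearEquiv.ext fun x => (H x).symm)⟩, fun ⟨a, e⟩ => ⟨a, fun x => e ▸ rfl⟩⟩,
    ← Nat.card_congr (MonoidHom.ofInjective (f := scalE B) fun a b e => Units.ext
      (smul_left_injective K hu (congrArg (fun g : simE B => g.1 u) e))).toEquiv, ← e1,
    mul_comm] at e2
  exact Nat.eq_of_mul_eq_mul_right Nat.card_pos e2

theorem IsPSim.equiv_isom [Finite K] [CharP K 2] [Nontrivial V] (h : IsPSim B Y)
    (hB : B.SeparatingLeft) : Nonempty (H10.isomGroup B ≃* Y) := by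
  obtain ⟨Ψ, h1, h2⟩ := h
  obtain ⟨u, hu⟩ := exists_ne (0 : V)
  obtain ⟨v, hv⟩ := not_forall.mp (mt (hB u) hu)
  refine ⟨MulEquiv.ofBijective (Ψ.comp (Subgroup.inclusion isomGroup_le_simE))
    ⟨(injective_iff_map_eq_one _).mpr fun g hg => ?_, fun y => ?_⟩⟩
  · obtain ⟨c, hc⟩ := (h2 _).mp hg
    have hc' : ∀ x, g.1 x = c • x := hc
    have h3 := g.2 u v
    simp only [hc', map_smul, LinearMap.smul_apply, smul_eq_mul] at h3
    have : c = 1 := (frobenius_inj K 2) (mul_right_cancel₀ hv (by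
      simp only [frobenius_def]; linear_combination h3))
    exact Subtype.ext (LinearEquiv.ext fun x => by simp [hc', this])
  · obtain ⟨g, rfl⟩ := h1 y
    obtain ⟨c, hc, H⟩ := g.2
    obtain ⟨a, rfl⟩ := (frobeniusEquiv K 2).surjective c
    have ha : a ≠ 0 := by rintro rfl; simp at hc
    refine ⟨⟨((scalE B (Units.mk0 a ha))⁻¹ * g).1, fun x y => ?_⟩, ?_⟩
    · simp [← map_inv, scalE_apply, H, frobenius_def, sq, ha]
      field_simp
    · change Ψ (_ * g) = _
      rw [map_mul, map_inv, (h2 _).mpr ⟨_, scalE_apply _⟩, inv_one, one_mul]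

/-- Nondegenerate symmetric or alternating forms. -/
structure Good (B : V →ₗ[K] V →ₗ[K] K) : Prop where
  sep : B.SeparatingLeft
  symm : (∀ x y, B x y = B y x) ∨ B.IsAlt

theorem Good.of_skew (hB : B.SeparatingLeft)
    (h : (∀ x y, B x y = B y x) ∨ ∀ x y, B x y = -B y x) : Good B := by
  refine ⟨hB, h.elim Or.inl fun h => ?_⟩
  by_cases h2 : (2 : K) = 0
  · exact Or.inl fun x y => by linear_combination h x y - B y x * h2
  · exact Or.inr fun x => mul_left_cancel₀ h2 (by linear_combination h x x)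

theorem Good.skew (h : Good B) : ∃ ε : K, ε * ε = 1 ∧ ∀ x y, B x y = ε * B y x :=
  h.symm.elim (fun h => ⟨1, one_mul _, by simpa using h⟩) fun h =>
    ⟨-1, by simp, fun x y => by simpa using (h.neg y x).symm⟩

theorem Good.symm_of_two (h : Good B) (h2 : (2 : K) = 0) (x y : V) : B x y = B y x :=
  h.symm.elim (fun h => h x y) fun h => by linear_combination -h.neg y x + B y x * h2 - 2 * h2 * B y x

theorem alt_nondeg (hB : B.SeparatingLeft) (hA : B.IsAlt) : LinearMap.BilinForm.Nondegenerate B :=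
  hA.isRefl.nondegenerate_iff_separatingLeft.mpr hB

theorem IsQuad.good {Q : V → K} (h : IsQuad B Q) (hB : B.SeparatingLeft) : Good B :=
  ⟨hB, Or.inl fun x y => by simpa using h.symm y x⟩

theorem good_sp (m : ℕ) : Good (H10.spBilin (Fin m) K) :=
  ⟨H10.spBilin_nondegenerate.1, Or.inr H10.spBilin_isAlt⟩

theorem not_isAlt_of_symm [Nontrivial V] (hB : B.SeparatingLeft) (h2 : (2 : K) ≠ 0)
    (hS : ∀ x y, B x y = B y x) : ¬ B.IsAlt := fun hA => by
  obtain ⟨u, hu⟩ := exists_ne (0 : V)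
  exact hu (hB u fun y => mul_left_cancel₀ h2 (by linear_combination hS u y - hA.neg u y))

theorem charP_two_of (h2 : (2 : K) = 0) : CharP K 2 :=
  CharTwo.of_one_ne_zero_of_two_eq_zero one_ne_zero h2

theorem Good.exists_form (h : Good B) (hn : finrank K V' = finrank K V) [FiniteDimensional K V]
    [FiniteDimensional K V'] : ∃ B' : V' →ₗ[K] V' →ₗ[K] K, Good B' ∧ Similar B' B := by
  obtain ⟨e⟩ := FiniteDimensional.nonempty_linearEquiv_of_finrank_eq hn
  refine ⟨pull B e.toLinearMap, ⟨fun x hx => e.map_eq_zero_iff.mp (h.sep _ fun y => ?_),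
    h.symm.imp (fun h x y => h _ _) fun h x => h _⟩, .of_isom ⟨e, fun _ _ => rfl⟩⟩
  simpa using hx (e.symm y)

variable [Finite K] [FiniteDimensional K V] [FiniteDimensional K V']

theorem Good.symm_of_odd (h : Good B) (ho : Odd (finrank K V)) : ∀ x y, B x y = B y x :=
  h.symm.resolve_right fun hA => Nat.not_even_iff_odd.mpr ho
    (H10.even_finrank_of_alt (alt_nondeg h.sep hA) hA)

theorem Good.similar_of_odd (h : Good B) (h' : Good B') (ho : Odd (finrank K V))
    (hn : finrank K V = finrank K V') : Similar B B' := by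
  have h1 := h.symm_of_odd ho
  have h1' := h'.symm_of_odd (hn ▸ ho)
  by_cases h2 : (2 : K) = 0
  · have := charP_two_of h2
    obtain ⟨w, H⟩ := H10.exists_chV h.sep h1
    obtain ⟨w', H'⟩ := H10.exists_chV h'.sep h1'
    refine .of_isom (H.exists_equiv H' hn (iff_of_false ?_ ?_))
    · rintro rfl
      exact Nat.not_even_iff_odd.mpr ho (H.even_iff.mpr (by simp))
    · rintro rfl
      exact Nat.not_even_iff_odd.mpr (hn ▸ ho) (H'.even_iff.mpr (by simp))
  · obtain ⟨c, e, h3, h4, -⟩ := (IsQuad.of_symm h2 h1).exists_equiv_of_odd h.sep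
      (IsQuad.of_symm h2 h1') h'.sep ho hn
    exact ⟨e, c, h3, h4⟩

omit [Finite K] in
theorem similar_of_alt (h : Good B) (h' : Good B') (hA : B.IsAlt) (hA' : B'.IsAlt)
    (hn : finrank K V = finrank K V') : Similar B B' :=
  .of_isom (H10.alt_isometric (alt_nondeg h.sep hA) hA (alt_nondeg h'.sep hA') hA' hn)

omit [Finite K] in
theorem nonempty_isom_ker [CharP K 2] {w : V} (H : H10.ChV B w) (h1 : B w w = 1) :
    Nonempty (H10.isomGroup B ≃* H10.isomGroup (pull B (LinearMap.ker (B w)).subtype)) := by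
  have hw : ∀ k : H10.isomGroup B, k.1 w = w := fun k => H.map_eq H k.1 k.2
  have hk : ∀ (k : H10.isomGroup B) x, B w (k.1 x) = B w x := fun k x => by rw [← k.2 w x, hw]
  have hm : ∀ k : H10.isomGroup B, (LinearMap.ker (B w)).map k.1.toLinearMap =
      LinearMap.ker (B w) := fun k =>
    le_antisymm (by rintro _ ⟨x, hx, rfl⟩; exact (hk k x).trans hx) fun x hx =>
      ⟨k.1.symm x, (hk k _).symm.trans (by simpa using hx), by simp⟩
  refine ⟨MulEquiv.ofBijective (MonoidHom.mk' (fun k => ⟨k.1.ofSubmodules _ _ (hm k),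
    fun a b => k.2 a b⟩) fun _ _ => rfl) ⟨(injective_iff_map_eq_one _).mpr fun g hg =>
      H10.isom_ext fun x => ?_, fun g => ?_⟩⟩
  · have h2 : g.1 (x - B w x • w) = x - B w x • w := congrArg
      (fun k : H10.isomGroup (pull B (LinearMap.ker (B w)).subtype) =>
        (k.1 ⟨x - B w x • w, by simp [h1]⟩ : V)) hg
    rw [map_sub, map_smul, hw] at h2
    exact sub_left_injective h2
  · obtain ⟨e, e1, e2⟩ := H.exists_ext H h1 h1 g.1 g.2
    exact ⟨⟨e, e1⟩, H10.isom_ext fun x => Subtype.ext (e2 x)⟩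

theorem IsPSim.equiv_odd (hY : IsPSim B Y) (h : Good B) {m : ℕ} (hn : finrank K V = 2 * m + 1) :
    Nonempty (Y ≃* PGO K (quadFormOdd m K)) := by
  have ho : Odd (finrank K V) := ⟨m, hn⟩
  by_cases h2 : (2 : K) = 0
  · have := charP_two_of h2
    have := finrank_pos_iff.mp (show 0 < finrank K V by omega)
    obtain ⟨w, H⟩ := H10.exists_chV h.sep (h.symm_of_odd ho)
    have h1 : B w w = 1 := H.diag.resolve_left (H.even_iff.not.mp (by simp [hn]))
    obtain ⟨e1⟩ := hY.equiv_isom h.sep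
    obtain ⟨e2⟩ := nonempty_isom_ker H h1
    obtain ⟨e3⟩ := H10.nonempty_sp_equiv_isom (l := Fin m) (H.ker_nondeg h1) H.ker_isAlt
      (Nat.succ_injective ((H10.ChV.finrank_ker (χ := B) (w := w) ⟨w, by simp [h1]⟩).trans
        (by simpa using hn)))
    obtain ⟨e4⟩ := nonempty_isom_odd_char_two (F := K) m
    obtain ⟨e5⟩ := nonempty_pgo_char_two (isQuad_odd m K) (u := Pi.single (.inl ()) 1)
      (by simp [quadFormOdd])
    exact ⟨e1.symm.trans (e2.trans (e3.symm.trans (e4.symm.trans e5)))⟩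
  · exact hY.equiv ((isQuad_odd m K).isPSim h2) (h.similar_of_odd
      ((isQuad_odd m K).good (bOdd_sep m h2)) ho (by simp [hn]; ring))

theorem IsQuad.eq_half {Q : V → K} (h : IsQuad B Q) (h2 : (2 : K) ≠ 0) :
    Q = fun x => B x x / 2 := funext fun x => by rw [h.diag]; field_simp

theorem similar_of_wittIdx {Q : V → K} {Q' : V' → K} (h : IsQuad B Q) (h' : IsQuad B' Q')
    (hB : B.SeparatingLeft) (hB' : B'.SeparatingLeft) (h2 : (2 : K) ≠ 0)
    (he : Even (finrank K V)) (hn : finrank K V = finrank K V') {ν ν' : ℕ} (hν : WittIdx B Q ν)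
    (hν' : WittIdx B' Q' ν') : Similar B B' ↔ ν = ν' := by
  refine ⟨fun ⟨e, c, hc, H⟩ => h'.wittIdx_unique hB' (WittIdx.congr e H (fun x => ?_)
    (IsQuad.wittIdx_smul hc hν)) hν', fun e => ?_⟩
  · rw [h.eq_half h2, h'.eq_half h2]
    simp only [H, mul_div_assoc]
  · obtain ⟨e, h1, -⟩ := h.exists_equiv_of_wittIdx hB h' hB' he hn hν (e ▸ hν')
    exact .of_isom ⟨e, h1⟩

theorem Good.trichotomy (h : Good B) (h2 : (2 : K) ≠ 0) {m : ℕ} (hn : finrank K V = 2 * (m + 1))
    {a b : K} (hab : ∀ z₁ z₂ : K, z₁ ^ 2 + a * z₁ * z₂ + b * z₂ ^ 2 = 0 → z₁ = 0 ∧ z₂ = 0) :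
    Similar B (H10.spBilin (Fin (m + 1)) K) ∨ Similar B (bPlus (m + 1) K) ∨
      Similar B (bMinus m K a b) := by
  rcases h.symm with hS | hA
  · have hQ := IsQuad.of_symm h2 hS
    exact Or.inr ((hQ.wittIdx_even_cases h.sep hn).imp
      (fun hν => (similar_of_wittIdx hQ (isQuad_plus _ K) h.sep (bPlus_sep _ K) h2
        (hn ▸ even_two_mul _) (hn.trans (finrank_plus _).symm) hν (wittIdx_plus _ K)).mpr rfl)
      fun hν => (similar_of_wittIdx hQ (isQuad_minus _ K a b) h.sep (bMinus_sep _ hab) h2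
        (hn ▸ even_two_mul _) (hn.trans (finrank_minus _).symm) hν (wittIdx_minus _ hab)).mpr rfl)
  · exact Or.inl (similar_of_alt h (good_sp _) hA H10.spBilin_isAlt
      (by rw [hn, H10.finrank_sp_space, Fintype.card_fin]))

theorem IsPSim.equiv_cent [CharP K 2] (hY : IsPSim B Y) (h : Good B) (hA : ¬ B.IsAlt) {m : ℕ}
    (hn : finrank K V = 2 * m) : ∃ t : Matrix.symplecticGroup (Fin m) K, IsTransvection t.1 ∧
      Nonempty (Y ≃* Subgroup.centralizer ({t} : Set (Matrix.symplecticGroup (Fin m) K))) := by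
  obtain ⟨w, H⟩ := H10.exists_chV h.sep (h.symm_of_two (CharTwo.two_eq_zero))
  have hw : w ≠ 0 := H.isAlt_iff.not.mp hA
  have := nontrivial_of_ne _ _ hw
  have h0 : B w w = 0 := H.even_iff.mp (hn ▸ even_two_mul _)
  obtain ⟨e1⟩ := hY.equiv_isom h.sep
  obtain ⟨e, he⟩ := H10.exists_isometry_std (l := Fin m) (H.alt_nondeg h0) H.alt_isAlt
    (by simpa using hn)
  obtain ⟨v, rfl⟩ := e.surjective w
  have hv : v ≠ 0 := by rintro rfl; simp at hw
  let e2 := H10.spEquiv.trans (H10.isomGroupCongr e he)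
  have h2 : ∀ g x, (e2 g).1 (e x) = e (g.1 *ᵥ x) := fun g x => by
    simp [e2, H10.isomGroupCongr_apply, H10.spEquiv_apply]
  have hle : H10.isomGroup B ≤ H10.isomGroup (H10.ChV.alt B (e v)) := fun g hg a b => by
    rw [H10.ChV.alt_apply, H10.ChV.alt_apply, hg, ← hg (e v) a, ← hg (e v) b, H.map_eq H _ hg]
  refine ⟨H10.stv v 1, ⟨?_, ?_⟩, ⟨e1.symm.trans ((Subgroup.subgroupOfEquivOfLe hle).symm.trans
    (subgroupEquivOfIff e2 _ _ fun g => ?_).symm)⟩⟩
  · rw [H10.stv_val, add_sub_cancel_left, one_smul]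
    refine le_antisymm (Matrix.rank_vecMulVec_le _ _) (Nat.one_le_iff_ne_zero.mpr fun h0 => ?_)
    obtain ⟨x, hx⟩ := H10.exists_spB_eq_one hv
    refine hv ((Submodule.finrank_eq_zero.mp h0).le ⟨x, ?_⟩)
    rw [Matrix.mulVecLin_apply, Matrix.vecMulVec_mulVec, dotProduct_comm, ← H10.spBilin_apply, hx]
    simp
  · rw [H10.stv_val, add_sub_cancel_left, one_smul, Matrix.vecMulVec_mul_vecMulVec,
      dotProduct_comm, ← H10.spBilin_apply, H10.spB_self]
    simp
  · rw [Subgroup.mem_centralizer_singleton_iff, Subgroup.mem_subgroupOf]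
    refine ⟨fun hg a b => ?_, fun hg => (H10.commute_stv_of_fix (e.injective ?_) 1).eq⟩
    · have h3 := (h2 g v).trans (congrArg e
        (H10.fix_of_commute_stv CharTwo.two_eq_zero one_ne_zero hg))
      have h1 : ∀ a, B (e v) ((e2 g).1 a) = B (e v) a := fun a => by
        rw [← H10.ChV.alt_left h0, ← H10.ChV.alt_left h0, ← (e2 g).2 (e v) a, h3]
      have := (e2 g).2 a b
      rw [H10.ChV.alt_apply, H10.ChV.alt_apply, h1, h1] at this
      simpa using this
    · rw [← h2]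
      exact H.map_eq H _ hg

end Cfsg.Agent.H11
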