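import Mathlib
import Cfsg.Agent.H11.GForm
import Cfsg.Agent.H10.AutPSp

/-!
# Involutions classified by bilinear forms
-/

set_option autoImplicit false

namespace Cfsg.Agent.H11

open Module
open scoped Matrix

variable {K : Type*} [Field K] {V : Type*} [AddCommGroup V] [Module K V] [FiniteDimensional K V]
  {B : V →ₗ[K] V →ₗ[K] K} {Y : Type*} [Group Y]

theorem det_of_alt (hB : B.SeparatingLeft) (hA : B.IsAlt) {m : ℕ} (hn : finrank K V = 2 * m)
    {g : V ≃ₗ[K] V} {c : K} (hc : c ≠ 0) (hg : ∀ x y, B (g x) (g y) = c * B x y) :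
    LinearMap.det (g : V →ₗ[K] V) = c ^ m := by
  obtain ⟨e, he⟩ := H10.exists_isometry_std (l := Fin m) (alt_nondeg hB hA) hA (by simpa using hn)
  let A := LinearMap.toMatrix' (e.symm.toLinearMap ∘ₗ g.toLinearMap ∘ₗ e.symm.symm.toLinearMap)
  have h1 := SymplecticGroup.det_eq_one (H10.mem_symplecticGroup_iff_form.mpr fun u v =>
    show H10.spBilin _ K ((Matrix.diagonal (Sum.elim (fun _ => c⁻¹) fun _ => 1) * A) *ᵥ u) (_ *ᵥ v) = _ by
      rw [← Matrix.mulVec_mulVec, ← Matrix.mulVec_mulVec, H10.dsp_aux, ← he, ← he]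
      simp [A, hg, hc])
  rw [Matrix.det_mul, LinearMap.det_toMatrix', LinearMap.det_conj, Matrix.det_diagonal] at h1
  simp only [Fintype.prod_sum_type, Sum.elim_inl, Sum.elim_inr, Finset.prod_const, one_pow,
    Finset.card_univ, Fintype.card_fin, mul_one, inv_pow] at h1
  exact ((inv_mul_eq_one₀ (pow_ne_zero _ hc)).mp h1).symm

theorem det_sim_cases (hB : B.SeparatingLeft) {g : V ≃ₗ[K] V} {c d : K}
    (hg : ∀ x y, B (g x) (g y) = c * B x y) (hd : c ^ finrank K V = d * d) :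
    LinearMap.det (g : V →ₗ[K] V) = d ∨ LinearMap.det (g : V →ₗ[K] V) = -d :=
  mul_self_eq_mul_self_iff.mp ((det_isom (σ := RingHom.id K) (fun _ => rfl) hB _ c hg).trans hd)

variable [Finite K]

theorem Good.exists_sim (h : Good B) (h2 : (2 : K) ≠ 0) (he : Even (finrank K V)) {c : K}
    (hc : c ≠ 0) : ∃ g : V ≃ₗ[K] V, ∀ x y, B (g x) (g y) = c * B x y := by
  rcases h.symm with hS | hA
  · have hQ := IsQuad.of_symm h2 hS
    obtain ⟨ν, hν⟩ := hQ.exists_wittIdx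
    obtain ⟨e, h1, -⟩ := (hQ.smul_form c).exists_equiv_of_wittIdx (IsQuad.sep_smul h.sep hc) hQ
      h.sep he rfl (IsQuad.wittIdx_smul hc hν) hν
    exact ⟨e, h1⟩
  · have hA' : (c • B).IsAlt := fun x => by simp [hA.self_eq_zero]
    exact H10.alt_isometric (alt_nondeg (IsQuad.sep_smul h.sep hc) hA') hA' (alt_nondeg h.sep hA)
      hA rfl

theorem exists_sim_det (hB : B.SeparatingLeft) (hS : ∀ x y, B x y = B y x) (h2 : (2 : K) ≠ 0)
    {m : ℕ} (hn : finrank K V = 2 * (m + 1)) {c d : K} (hc : c ≠ 0)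
    (hd : d = c ^ (m + 1) ∨ d = -c ^ (m + 1)) :
    ∃ g : V ≃ₗ[K] V, (∀ x y, B (g x) (g y) = c * B x y) ∧ LinearMap.det (g : V →ₗ[K] V) = d := by
  obtain ⟨g, hg⟩ := Good.exists_sim ⟨hB, Or.inl hS⟩ h2 (hn ▸ even_two_mul _) hc
  have hQ := IsQuad.of_symm h2 hS
  obtain ⟨v, hv⟩ := hQ.exists_eq hB (by omega) 1
  rcases det_sim_cases hB hg (d := d) (by
    rw [hn]; rcases hd with rfl | rfl <;> ring) with h | h
  · exact ⟨g, hg, h⟩
  · refine ⟨g * (hQ.reflO v).1, fun x y => (hg _ _).trans (congrArg _ ((hQ.reflO v).2.1 x y)), ?_⟩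
    rw [LinearEquiv.coe_toLinearMap_mul, map_mul, h, hQ.det_reflO (by simp [hv])]
    ring

theorem not_pgsp_of_symm (hY : IsPSim B Y) (hB : B.SeparatingLeft) (hS : ∀ x y, B x y = B y x)
    (h2 : (2 : K) ≠ 0) {m : ℕ} (hn : finrank K V = 2 * (m + 1)) (hm : 1 ≤ m) :
    ¬ Nonempty (Y ≃* PGSp (m + 1) K) := fun ⟨e⟩ => by
  have := Fintype.ofFinite K
  have := finrank_pos_iff.mp (show 0 < finrank K V by omega)
  have hQ := IsQuad.of_symm h2 hS
  have h1 := hY.card hB fun c => Good.exists_sim ⟨hB, Or.inl hS⟩ h2 (hn ▸ even_two_mul _)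
  have h3 := (isPSim_pgsp (K := K) (m + 1)).card (good_sp _).sep fun c =>
    (good_sp _).exists_sim h2 (by rw [H10.finrank_sp_space]; exact even_two_mul _)
  rw [← Nat.card_congr e.toEquiv, h1, H10.card_isom_alt (B := H10.spBilin _ K)
    H10.spBilin_nondegenerate H10.spBilin_isAlt (m := m + 1)
    (by rw [H10.finrank_sp_space, Fintype.card_fin]),
    show H10.isomGroup B = Isom B fun x => B x x / 2 from Subgroup.ext fun g =>
      ⟨fun H => ⟨H, fun x => congrArg (· / 2) (H x x)⟩, fun H => H.1⟩] at h3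
  have hq : 2 ≤ Fintype.card K := Fintype.one_lt_card
  have h4 := congrArg (Nat.cast : ℕ → ℤ) h3
  rw [Nat.cast_mul, cast_prod_pow_sub_one _ _ (by omega), Finset.prod_range_succ, Nat.cast_pow,
    ← Nat.card_eq_fintype_card] at h4
  rw [← Nat.card_eq_fintype_card] at hq
  have hq' : (2 : ℤ) ≤ Nat.card K := by exact_mod_cast hq
  have hx : (4 : ℤ) ≤ (Nat.card K : ℤ) ^ (m + 1) :=
    le_trans (by nlinarith) (pow_le_pow_right₀ (by linarith) (show 2 ≤ m + 1 by omega))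
  have hP : 0 < (Nat.card K : ℤ) ^ ((m + 1) * m) *
      ∏ i ∈ Finset.range m, ((Nat.card K : ℤ) ^ (2 * (i + 1)) - 1) :=
    mul_pos (by positivity) (Finset.prod_pos fun i _ => sub_pos.mpr
      (one_lt_pow₀ (by linarith) (by omega)))
  rw [show (m + 1) ^ 2 = (m + 1) * m + (m + 1) by ring, pow_add, two_mul (m + 1), pow_add _ (m + 1)]
    at h4
  have hx3 : 0 < (Nat.card K : ℤ) ^ (m + 1) * ((Nat.card K : ℤ) ^ (m + 1) *
      (Nat.card K : ℤ) ^ (m + 1) - 1) - 2 * ((Nat.card K : ℤ) ^ (m + 1) + 1) := by nlinarith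
  rcases hQ.wittIdx_even_cases hB hn with hν | hν
  · rw [IsQuad.card_isom_plus m hQ hB hν hn] at h4
    nlinarith [mul_pos hP hx3]
  · rw [IsQuad.card_isom_minus m hQ hB hν hn] at h4
    nlinarith [mul_pos hP hx3]

theorem index_sq_comap {M : Type*} [CommGroup M] [Finite M] [IsCyclic M] (he : Even (Nat.card M))
    (m : ℕ) : ((powMonoidHom (2 * m) : M →* M).range.comap (powMonoidHom 2)).index * 2 =
      Nat.gcd (2 * m) (Nat.card M) := by
  have := Subgroup.relIndex_mul_index (H := (powMonoidHom (2 * m) : M →* M).range)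
    (K := (powMonoidHom 2 : M →* M).range) (by
      rintro _ ⟨a, rfl⟩; exact ⟨a ^ m, by simp [← pow_mul, mul_comm]⟩)
  rwa [IsCyclic.index_powMonoidHom_range, IsCyclic.index_powMonoidHom_range,
    Nat.gcd_eq_right he.two_dvd, Nat.gcd_comm, ← Subgroup.index_comap] at this

theorem split_abstract {F : Type*} [Field F] (j : K →+* F) (M : Subgroup Fˣ) [Finite M]
    (R : K → F → Prop) (r0 : ∀ c a, R c a → a ≠ 0 ∧ ∃ u : M, j c = u.1 * a ^ 2)
    (r1 : ∀ b a, R (b * b) a → ∃ v : M, j b = v.1 * a)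
    (r2 : ∀ u : M, ∃ c a, c ≠ 0 ∧ R c a ∧ j c = u.1 * a ^ 2) (r3 : R 1 1) (hM : -1 ∈ M)
    {n : ℕ} (W : M → Prop) (hW : ∀ s, W s ↔ ∃ (g : V ≃ₗ[K] V) (c : K) (a : F), c ≠ 0 ∧
      (∀ x y, B (g x) (g y) = c * B x y) ∧ R c a ∧
        s.1 * a ^ n = j (LinearMap.det (g : V →ₗ[K] V))) {k : ℕ}
    (H : ∀ S : Subgroup M, (∀ s, W s → s ∈ (powMonoidHom n : M →* M).range ⊔ S) →
      (∀ s ∈ S, W s) → k = Nat.gcd n S.index)
    (h : Good B) (hY : IsPSim B Y) (hn : finrank K V = n) (h3 : 3 ≤ n) :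
    (Even n ∧ (2 : K) ≠ 0 ∧ Nonempty (Y ≃* PGSp (n / 2) K) → k = Nat.gcd (n / 2) (Nat.card M)) ∧
    (Even n ∧ (2 : K) ≠ 0 ∧ ¬ Nonempty (Y ≃* PGSp (n / 2) K) → k = Nat.gcd n (Nat.card M) / 2) ∧
    (¬ (Even n ∧ (2 : K) ≠ 0) → k = Nat.gcd n (Nat.card M)) := by
  have key : ∀ {s u : M} {a : F} {c : K} (m : ℕ), n = 2 * m → a ≠ 0 → j c = u.1 * a ^ 2 →
      (s.1 * a ^ n = j (c ^ m) ↔ s = u ^ m) ∧
        (s.1 * a ^ n = j (-c ^ m) ↔ s = ⟨-1, hM⟩ * u ^ m) := fun m e ha hc => by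
    simp only [Subtype.ext_iff, Units.ext_iff, map_neg, map_pow, hc, mul_pow, ← pow_mul, e,
      ← neg_mul, mul_left_inj' (pow_ne_zero _ ha)]
    simp
  refine ⟨fun ⟨⟨m, e⟩, h2, hp⟩ => ?_, fun ⟨⟨m, e⟩, h2, hp⟩ => ?_, fun h0 => ?_⟩
  · obtain ⟨m, rfl⟩ : ∃ k, m = k + 1 := ⟨m - 1, by omega⟩
    rw [← two_mul] at e
    rw [show n / 2 = m + 1 by omega] at hp ⊢
    have hA := h.symm.resolve_left fun hS =>
      not_pgsp_of_symm hY h.sep hS h2 (hn.trans e) (by omega) hp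
    rw [H (powMonoidHom (m + 1)).range, IsCyclic.index_powMonoidHom_range, Nat.gcd_comm _ (m + 1),
      Nat.gcd_eq_right ((Nat.gcd_dvd_left _ _).trans ⟨2, by omega⟩)]
    · intro s hs
      obtain ⟨g, c, a, hc, hg, hR, hs⟩ := (hW s).mp hs
      obtain ⟨ha, u, hu⟩ := r0 c a hR
      rw [det_of_alt h.sep hA (hn.trans e) hc hg] at hs
      exact Subgroup.mem_sup_right ⟨u, ((key _ e ha hu).1.mp hs).symm⟩
    · rintro _ ⟨u, rfl⟩
      obtain ⟨c, a, hc, hR, hu⟩ := r2 u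
      obtain ⟨g, hg⟩ := h.exists_sim h2 (by rw [hn, e]; exact even_two_mul _) hc
      exact (hW _).mpr ⟨g, c, a, hc, hg, hR, by
        rw [det_of_alt h.sep hA (hn.trans e) hc hg]
        exact (key _ e (r0 c a hR).1 hu).1.mpr rfl⟩
  · obtain ⟨m, rfl⟩ : ∃ k, m = k + 1 := ⟨m - 1, by omega⟩
    rw [← two_mul] at e
    rw [show n / 2 = m + 1 by omega] at hp
    have hS := h.symm.resolve_right fun hA => hp (hY.equiv (isPSim_pgsp _) (similar_of_alt h
      (good_sp _) hA H10.spBilin_isAlt (by rw [hn, e, H10.finrank_sp_space, Fintype.card_fin])))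
    have hi := index_sq_comap (M := M) (even_iff_two_dvd.mpr (by
      rw [← orderOf_eq_prime (x := (⟨-1, hM⟩ : M)) (p := 2) (Subtype.ext (by simp)) fun e' =>
        (map_ne_zero j).mpr h2 (by
          have := congrArg (fun x : M => (x.1 : F)) e'
          simp only [Units.val_neg, Units.val_one, OneMemClass.coe_one] at this
          rw [map_ofNat]; linear_combination -this)]
      exact orderOf_dvd_natCard _)) (m + 1)
    rw [← e] at hi
    rw [H ((powMonoidHom n).range.comap (powMonoidHom 2)), ← hi, Nat.mul_div_cancel _ two_pos,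
      Nat.gcd_eq_right ((Dvd.intro _ hi).trans (Nat.gcd_dvd_left _ _))]
    · intro s hs
      obtain ⟨g, c, a, hc, hg, hR, hs⟩ := (hW s).mp hs
      obtain ⟨ha, u, hu⟩ := r0 c a hR
      refine Subgroup.mem_sup_right ⟨u, ?_⟩
      rcases det_sim_cases h.sep hg (d := c ^ (m + 1)) (by rw [hn, e]; ring) with h1 | h1 <;>
        rw [h1] at hs
      · simp [(key _ e ha hu).1.mp hs, e, ← pow_mul, mul_comm]
      · simp [(key _ e ha hu).2.mp hs, e, ← pow_mul, mul_pow, Subtype.ext_iff, mul_comm]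
    · rintro s ⟨u, hs⟩
      obtain ⟨c, a, hc, hR, hu⟩ := r2 u
      have h1 : (s.1 : F) * s.1 = (u ^ (m + 1)).1 * (u ^ (m + 1)).1 := by
        have := congrArg (fun x : M => (x.1 : F)) hs
        simp only [powMonoidHom_apply, SubmonoidClass.coe_pow, Units.val_pow_eq_pow_val, e] at this ⊢
        linear_combination -this
      rcases mul_self_eq_mul_self_iff.mp h1 with h1 | h1
      · obtain ⟨g, hg, hd⟩ := exists_sim_det h.sep hS h2 (hn.trans e) hc (Or.inl rfl)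
        exact (hW _).mpr ⟨g, c, a, hc, hg, hR, hd ▸ (key _ e (r0 c a hR).1 hu).1.mpr
          (Subtype.ext (Units.ext h1))⟩
      · obtain ⟨g, hg, hd⟩ := exists_sim_det h.sep hS h2 (hn.trans e) hc (Or.inr rfl)
        exact (hW _).mpr ⟨g, c, a, hc, hg, hR, hd ▸ (key _ e (r0 c a hR).1 hu).2.mpr
          (Subtype.ext (Units.ext (by simpa using h1)))⟩
  · rw [H ⊥, Subgroup.index_bot]
    · intro s hs
      obtain ⟨g, c, a, hc, hg, hR, hs⟩ := (hW s).mp hs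
      have h1 := det_isom (σ := RingHom.id K) (fun _ => rfl) h.sep _ c hg
      obtain ⟨b, rfl⟩ : IsSquare c := by
        by_cases h2 : (2 : K) = 0
        · exact FiniteField.isSquare_of_char_two (ringChar_eq_two_of h2) c
        · obtain ⟨m, e⟩ := Nat.not_even_iff_odd.mp fun he => h0 ⟨he, h2⟩
          refine ⟨LinearMap.det (g : V →ₗ[K] V) / c ^ m, ?_⟩
          rw [hn, e, RingHom.id_apply] at h1
          field_simp
          linear_combination -h1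
      obtain ⟨v, hv⟩ := r1 b a hR
      have ha := (r0 _ a hR).1
      refine Subgroup.mem_sup_left ?_
      rcases det_sim_cases h.sep hg (d := b ^ n) (by rw [hn, mul_pow]) with h1 | h1 <;>
        rw [h1] at hs
      · exact ⟨v, Subtype.ext (Units.ext (mul_right_cancel₀ (pow_ne_zero n ha) (by
          simp [hs, hv, mul_pow])))⟩
      · refine ⟨⟨-1, hM⟩ * v, Subtype.ext (Units.ext (mul_right_cancel₀ (pow_ne_zero n ha) ?_))⟩
        by_cases h2 : (2 : K) = 0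
        · have := charP_two_of (K := F) (by rw [← map_ofNat j, h2, map_zero])
          simp [hs, hv, mul_pow, CharTwo.neg_eq]
        · simp [hs, hv, mul_pow, (Nat.not_even_iff_odd.mp fun he => h0 ⟨he, h2⟩).neg_pow]
    · rintro s hs
      exact (hW _).mpr ⟨1, 1, 1, one_ne_zero, by simp, r3, by simp [Subgroup.mem_bot.mp hs]⟩

/-- A set of elements of `X` whose `G`-classes and centralizers are governed by bilinear forms. -/
structure GSys {X : Type*} [Group X] (G : Subgroup X) (P : X → Prop)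
    (R : X → (V →ₗ[K] V →ₗ[K] K) → Prop) : Prop where
  ex : ∀ γ, P γ → ∃ B, R γ B
  good : ∀ {γ B}, R γ B → P γ ∧ Good B
  ex' : ∀ B, Good B → ∃ γ, R γ B
  cent : ∀ {γ B}, R γ B → IsPSim B ↥(G ⊓ Subgroup.centralizer {γ})
  conj : ∀ {γ γ' B B'}, R γ B → R γ' B' → (IsConjUnder G γ γ' ↔ Similar B B')

namespace GSys

variable {X : Type*} [Group X] {G : Subgroup X} {P : X → Prop}
  {R : X → (V →ₗ[K] V →ₗ[K] K) → Prop} (S : GSys G P R)
include S

theorem odd {m : ℕ} (hn : finrank K V = 2 * m + 1) {γ γ' : X} (h : P γ) (h' : P γ') :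
    Nonempty (↥(G ⊓ Subgroup.centralizer {γ}) ≃* PGO K (quadFormOdd m K)) ∧ IsConjUnder G γ γ' := by
  obtain ⟨B, H⟩ := S.ex γ h
  obtain ⟨B', H'⟩ := S.ex γ' h'
  exact ⟨(S.cent H).equiv_odd (S.good H).2 hn,
    (S.conj H H').mpr ((S.good H).2.similar_of_odd (S.good H').2 ⟨m, hn⟩ rfl)⟩

omit [Finite K] in
theorem exists_similar {V' : Type*} [AddCommGroup V'] [Module K V'] [FiniteDimensional K V']
    {B' : V' →ₗ[K] V' →ₗ[K] K} (h : Good B') (hn : finrank K V = finrank K V') :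
    ∃ γ B, R γ B ∧ Similar B B' := by
  obtain ⟨B, h1, h2⟩ := h.exists_form hn
  obtain ⟨γ, h3⟩ := S.ex' B h1
  exact ⟨γ, B, h3, h2⟩

theorem even_odd (h2 : (2 : K) ≠ 0) {m : ℕ} (hm : 1 ≤ m) (hn : finrank K V = 2 * m) :
    ∃ (γ₁ γ₂ γ₃ : X) (a b : K),
      (∀ z₁ z₂ : K, z₁ ^ 2 + a * z₁ * z₂ + b * z₂ ^ 2 = 0 → z₁ = 0 ∧ z₂ = 0) ∧ P γ₁ ∧ P γ₂ ∧ P γ₃ ∧
      ¬ IsConjUnder G γ₁ γ₂ ∧ ¬ IsConjUnder G γ₁ γ₃ ∧ ¬ IsConjUnder G γ₂ γ₃ ∧
      (∀ γ, P γ → IsConjUnder G γ₁ γ ∨ IsConjUnder G γ₂ γ ∨ IsConjUnder G γ₃ γ) ∧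
      Nonempty (↥(G ⊓ Subgroup.centralizer {γ₁}) ≃* PGSp m K) ∧
      Nonempty (↥(G ⊓ Subgroup.centralizer {γ₂}) ≃* PGO K (quadFormPlus m K)) ∧
      Nonempty (↥(G ⊓ Subgroup.centralizer {γ₃}) ≃* PGO K (quadFormMinus (m - 1) K a b)) := by
  obtain ⟨m, rfl⟩ : ∃ k, m = k + 1 := ⟨m - 1, by omega⟩
  obtain ⟨a, b, hab⟩ := exists_aniso K
  obtain ⟨γ₁, B₁, h₁, s₁⟩ := S.exists_similar (good_sp (m + 1))
    (by rw [hn, H10.finrank_sp_space, Fintype.card_fin])
  obtain ⟨γ₂, B₂, h₂, s₂⟩ := S.exists_similar ((isQuad_plus (m + 1) K).good (bPlus_sep _ K))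
    (hn.trans (finrank_plus _).symm)
  obtain ⟨γ₃, B₃, h₃, s₃⟩ := S.exists_similar ((isQuad_minus m K a b).good (bMinus_sep _ hab))
    (hn.trans (finrank_minus _).symm)
  refine ⟨γ₁, γ₂, γ₃, a, b, hab, (S.good h₁).1, (S.good h₂).1, (S.good h₃).1, fun h => ?_,
    fun h => ?_, fun h => ?_, fun γ h => ?_, (S.cent h₁).equiv (isPSim_pgsp _) s₁,
    (S.cent h₂).equiv ((isQuad_plus _ K).isPSim h2) s₂,
    (S.cent h₃).equiv ((isQuad_minus _ K a b).isPSim h2) s₃⟩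
  · exact not_isAlt_of_symm (bPlus_sep _ K) h2 (fun x y => by simpa using (isQuad_plus _ K).symm y x)
      ((s₂.symm.trans (((S.conj h₁ h₂).mp h).symm.trans s₁)).isAlt H10.spBilin_isAlt)
  · exact not_isAlt_of_symm (bMinus_sep _ hab) h2
      (fun x y => by simpa using (isQuad_minus _ K a b).symm y x)
      ((s₃.symm.trans (((S.conj h₁ h₃).mp h).symm.trans s₁)).isAlt H10.spBilin_isAlt)
  · exact absurd ((similar_of_wittIdx (isQuad_plus _ K) (isQuad_minus _ K a b) (bPlus_sep _ K)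
      (bMinus_sep _ hab) h2 (finrank_plus (F := K) (m + 1) ▸ even_two_mul _)
      ((finrank_plus _).trans (finrank_minus _).symm) (wittIdx_plus _ K) (wittIdx_minus _ hab)).mp
      (s₂.symm.trans (((S.conj h₂ h₃).mp h).trans s₃))) (by omega)
  · obtain ⟨B, H⟩ := S.ex γ h
    exact ((S.good H).2.trichotomy h2 hn hab).imp (fun s => (S.conj h₁ H).mpr (s₁.trans s.symm))
      (Or.imp (fun s => (S.conj h₂ H).mpr (s₂.trans s.symm))
        fun s => (S.conj h₃ H).mpr (s₃.trans s.symm))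

theorem even_two [CharP K 2] {m : ℕ} (hm : 1 ≤ m) (hn : finrank K V = 2 * m) :
    ∃ (γ₁ γ₃ : X) (t : Matrix.symplecticGroup (Fin m) K), IsTransvection t.1 ∧ P γ₁ ∧ P γ₃ ∧
      ¬ IsConjUnder G γ₁ γ₃ ∧ (∀ γ, P γ → IsConjUnder G γ₁ γ ∨ IsConjUnder G γ₃ γ) ∧
      Nonempty (↥(G ⊓ Subgroup.centralizer {γ₁}) ≃* Matrix.symplecticGroup (Fin m) K) ∧
      Nonempty (↥(G ⊓ Subgroup.centralizer {γ₃}) ≃*
        Subgroup.centralizer ({t} : Set (Matrix.symplecticGroup (Fin m) K))) := by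
  have := finrank_pos_iff.mp (show 0 < finrank K V by omega)
  obtain ⟨γ₁, B₁, h₁, s₁⟩ := S.exists_similar (good_sp m)
    (by rw [hn, H10.finrank_sp_space, Fintype.card_fin])
  obtain ⟨γ₃, B₃, h₃, s₃⟩ := S.exists_similar (B' := hermB (Fin (2 * m)) (RingHom.id K))
    ⟨hermB_sep _, Or.inl fun x y => by simp [hermB_apply, mul_comm]⟩ (by simp [hn])
  have a₁ := s₁.isAlt H10.spBilin_isAlt
  have a₃ : ¬ B₃.IsAlt := fun h => by
    simpa [hermB_single] using s₃.symm.isAlt h (Pi.single ⟨0, by omega⟩ 1)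
  obtain ⟨t, ht, e⟩ := (S.cent h₃).equiv_cent (S.good h₃).2 a₃ hn
  obtain ⟨e1⟩ := (S.cent h₁).equiv_isom (S.good h₁).2.sep
  obtain ⟨e2⟩ := H10.nonempty_sp_equiv_isom (l := Fin m) (alt_nondeg (S.good h₁).2.sep a₁) a₁
    (by simpa using hn)
  refine ⟨γ₁, γ₃, t, ht, (S.good h₁).1, (S.good h₃).1,
    fun h => a₃ (((S.conj h₁ h₃).mp h).symm.isAlt a₁), fun γ h => ?_, ⟨e1.symm.trans e2.symm⟩, e⟩
  obtain ⟨B, H⟩ := S.ex γ h
  by_cases hA : B.IsAlt
  · exact Or.inl ((S.conj h₁ H).mpr (similar_of_alt (S.good h₁).2 (S.good H).2 a₁ hA rfl))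
  · obtain ⟨w, W⟩ := H10.exists_chV (S.good h₃).2.sep ((S.good h₃).2.symm_of_two CharTwo.two_eq_zero)
    obtain ⟨w', W'⟩ := H10.exists_chV (S.good H).2.sep ((S.good H).2.symm_of_two CharTwo.two_eq_zero)
    exact Or.inr ((S.conj h₃ H).mpr (.of_isom (W.exists_equiv W' rfl
      (iff_of_false (W.isAlt_iff.not.mp a₃) (W'.isAlt_iff.not.mp hA)))))

end GSys

omit [FiniteDimensional K V] in
theorem similar_dot (h2 : (2 : K) ≠ 0) {m n : ℕ} (hn : n = 2 * (m + 1)) {a b : K}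
    (hab : ∀ z₁ z₂ : K, z₁ ^ 2 + a * z₁ * z₂ + b * z₂ ^ 2 = 0 → z₁ = 0 ∧ z₂ = 0) :
    (IsSquare ((-1 : K) ^ (m + 1)) → Similar (hermB (Fin n) (RingHom.id K)) (bPlus (m + 1) K)) ∧
    (¬ IsSquare ((-1 : K) ^ (m + 1)) → Similar (hermB (Fin n) (RingHom.id K)) (bMinus m K a b)) := by
  have hQ := IsQuad.of_symm (B := hermB (Fin n) (RingHom.id K)) h2 fun x y => by
    simp [hermB_apply, mul_comm]
  have h1 : finrank K (Fin n → K) = 2 * (m + 1) := by simp [hn]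
  have h3 := hQ.wittIdx_iff_disc (hermB_sep _) h2 h1 (Pi.basisFun K _)
  rw [show gram (hermB (Fin n) (RingHom.id K)) (Pi.basisFun K (Fin n)) = 1 from by
    ext i j; simp [gram_apply, hermB_single, Matrix.one_apply, Pi.single_apply], Matrix.det_one,
    mul_one] at h3
  exact ⟨fun h => (similar_of_wittIdx hQ (isQuad_plus _ K) (hermB_sep _) (bPlus_sep _ K) h2
    (h1 ▸ even_two_mul _) (h1.trans (finrank_plus _).symm) (h3.mpr h) (wittIdx_plus _ K)).mpr rfl,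
    fun h => (similar_of_wittIdx hQ (isQuad_minus _ K a b) (hermB_sep _) (bMinus_sep _ hab) h2
      (h1 ▸ even_two_mul _) (h1.trans (finrank_minus _).symm)
      ((hQ.wittIdx_even_cases (hermB_sep _) h1).resolve_left (h3.not.mpr h))
      (wittIdx_minus _ hab)).mpr rfl⟩

end Cfsg.Agent.H11
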