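import Mathlib
import Cfsg.Agent.H11.OLang2

/-!
# Field automorphisms of unitary groups
-/

set_option autoImplicit false

namespace Cfsg.Agent.H11

open Module
open scoped Matrix

variable {F : Type*} [Field F] {F₀ : Type*} [Field F₀] {j : F₀ →+* F} {σ : F →+* F}
  {σ₀ : F₀ →+* F₀}

section abstract

variable {V : Type*} [AddCommGroup V] [Module F V] {V₀ : Type*} [AddCommGroup V₀] [Module F₀ V₀]
  {B : V →ₛₗ[σ] V →ₗ[F] F} {t : V₀ →ₛₗ[j] V}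

theorem RForm.exists_herm {B₀ : V₀ →ₛₗ[σ₀] V₀ →ₗ[F₀] F₀} {Q₀ : V₀ → F₀} {μ : F}
    (H : RForm B₀ Q₀ B (fun x => B x x) t μ) (h : IsHerm B) (hσ : ∀ a, j (σ₀ a) = σ (j a))
    (hσ₀ : σ₀ ≠ RingHom.id F₀) {γ : SemiSim B fun x => B x x}
    (hj : ∀ a, γ.1.2 a = a ↔ ∃ b, j b = a) (ht : ∀ x, γ.1.1 (t x) = t x) {u v : V₀}
    (huv : B₀ u v ≠ 0) : ∃ (μ : F) (B₀ : V₀ →ₛₗ[σ₀] V₀ →ₗ[F₀] F₀), IsHerm B₀ ∧
      RForm B₀ (fun x => B₀ x x) B (fun x => B x x) t μ := by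
  obtain ⟨w, hw⟩ : ∃ w, B (t u) (t w) + B (t w) (t u) ≠ 0 := by
    by_contra H'
    push Not at H'
    obtain ⟨θ, hθ⟩ := exists_ne_conj hσ₀
    have h1 := H' (θ • v)
    simp only [t.map_smulₛₗ, map_smul, LinearMap.map_smulₛₗ, LinearMap.smul_apply, smul_eq_mul,
      ← hσ, RingHom.id_apply] at h1
    exact mul_ne_zero (mul_ne_zero H.ne ((map_ne_zero j).mpr huv))
      ((map_ne_zero j).mpr (sub_ne_zero.mpr hθ)) (by
        rw [map_sub, ← H.hB]; linear_combination j (σ₀ θ) * H' v - h1)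
  obtain ⟨B₁, Q₁, H₁⟩ := exists_rform hσ hj ht H.span H.rank hw (by
    rw [map_add, mul_add, ← SemiSim.map_B, ← SemiSim.map_B, ht, ht])
  have k : ∀ {a b : F₀}, _ * j a = _ * j b → a = b := fun e => j.injective (mul_left_cancel₀ hw e)
  obtain rfl : Q₁ = fun x => B₁ x x := funext fun x => k (by rw [← H₁.hQ, ← H₁.hB])
  exact ⟨_, B₁, ⟨hσ₀, fun a => j.injective (by rw [hσ, hσ, h.invol]), fun x y => k (by
    rw [← H₁.hB y x, ← h.symm (t x) (t y), H₁.hB x y, map_mul, map_add, h.symm, h.symm, hσ,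
      add_comm])⟩, H₁⟩

theorem RForm.exists_isom_det [FiniteDimensional F₀ V₀] {B₀ : V₀ →ₛₗ[σ₀] V₀ →ₗ[F₀] F₀}
    {Q₀ : V₀ → F₀} {Q : V → F} {μ : F} (H : RForm B₀ Q₀ B Q t μ) (hQ : SpanExt B Q B Q) {u v : V₀}
    (huv : B₀ u v ≠ 0) (g₀ : Isom B₀ Q₀) : ∃ g, (H.simMap hQ ⟨ofIsom _ _ g₀, rfl⟩).1 = ofIsom B Q g ∧
      detI B Q g = Units.map j (detI B₀ Q₀ g₀) := by
  obtain ⟨g, e⟩ := exists_eq_ofIsom (γ := (H.simMap hQ ⟨ofIsom _ _ g₀, rfl⟩).1)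
    (mem_Sim.mp (Subtype.prop _))
    (by rw [H.mult_simMap hQ huv, mult_ofIsom huv, map_one])
  refine ⟨g, e, Units.ext ?_⟩
  rw [detI_coe, Units.coe_map, detI_coe]
  exact H.det_eq fun x => (congrArg (fun γ : SemiSim B Q => γ.1.1 (t x)) e).symm.trans
    (H.simMap_apply hQ ⟨ofIsom _ _ g₀, rfl⟩ x)

end abstract

theorem QConj.map_conj {q q₀ r : ℕ} (hq : QConj σ q) (hq₀ : QConj σ₀ q₀) (h : q = q₀ ^ r)
    (ho : Odd r) (j : F₀ →+* F) (a : F₀) : j (σ₀ a) = σ (j a) := by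
  obtain ⟨k, rfl⟩ := ho
  rw [hq.eq, ← map_pow, h]
  congr 1
  clear h
  induction k with
  | zero => simp [hq₀.eq]
  | succ k ih => rw [show 2 * (k + 1) + 1 = 2 * k + 1 + 1 + 1 by ring, pow_succ, pow_succ, pow_mul,
      pow_mul, ← ih, ← hq₀.eq, ← hq₀.eq, hq₀.invol]

theorem exists_subfieldU [Fintype F] {p f : ℕ} [Fact p.Prime] (hF : Fintype.card F = (p ^ f) ^ 2)
    {ρ : RingAut F} {r : ℕ} (hr : orderOf ρ = r) (ho : Odd r) :
    r ∣ f ∧ Nat.card (H10.fixS ρ) = (p ^ (f / r)) ^ 2 := by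
  obtain ⟨h1, h2⟩ := H10.dvd_and_card_fixS (hF.trans (pow_mul p f 2).symm) hr
  have h3 : r ∣ f := (Nat.coprime_two_right.mpr ho).dvd_of_dvd_mul_right h1
  exact ⟨h3, by rw [h2, ← pow_mul, mul_comm f, Nat.mul_div_assoc _ h3, mul_comm]⟩

theorem rform_herm {ι : Type} [Fintype ι] [DecidableEq ι] (hσ : ∀ a, j (σ₀ a) = σ (j a)) :
    RForm (hermB ι σ₀) (fun x => hermB ι σ₀ x x) (hermB ι σ) (fun x => hermB ι σ x x)
      (coordMap ι j) 1 :=
  ⟨span_coordMap, by simp, one_ne_zero, fun x y => by simp [hermB_apply, hσ],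
    fun x => by simp [hermB_apply, hσ]⟩

namespace QConj

variable {q n : ℕ} (hq : QConj σ q) (hn : 3 ≤ n) (h : ¬ (n = 3 ∧ q = 2))

theorem range_eq : ((hq.psuBar hn h).comp (ofIsom _ _)).range =
    (⊤ : Subgroup (Sim _ _)).map ((hq.psuBar hn h).comp (Sim _ _).subtype) := by
  have := hq.finite
  refine le_antisymm (by rintro _ ⟨g, rfl⟩; exact ⟨⟨_, rfl⟩, trivial, rfl⟩) ?_
  rintro _ ⟨γ, -, rfl⟩
  obtain ⟨a, g, e⟩ := (hq.isHerm _).exists_eq_scal_mul (hermB_sep _) (by simp; omega) γ.2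
  exact ⟨g, by simp [e, (hq.psuBar_eq_one hn h).mpr ⟨a, rfl⟩]⟩

theorem normal_range : ((hq.psuBar hn h).comp (ofIsom _ _)).range.Normal := by
  obtain ⟨π, -, e⟩ := hq.exists_autType hn h
  exact e ▸ inferInstance

theorem psuBar_mem_inn {γ} : hq.psuBar hn h γ ∈ Inn (PSU n F q) ↔
    ∃ a, ∃ g ∈ SIsom (hermB (Fin n) σ), γ = (hq.isHerm _).form.semiScal a * ofIsom _ _ g :=
  IsForm.matBar_mem_inn _ fun γ => (hq.isHerm _).eq_semiScal hq (hermB_sep _) (by simpa) γ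

theorem of_fieldClass {x : MulAut (PSU n F q)} (hx : IsFieldAutClassPSU x) {r : ℕ} (hr : r.Prime)
    (hxr : orderOf x = r) : ∃ α ρ, ρ ≠ 1 ∧ orderOf ρ = r ∧ Odd r ∧
      α * x * α⁻¹ = hq.psuBar hn h (hq.fieldU n ρ) := by
  obtain ⟨α, φ, ρ, h1, h2, h3, h4⟩ := hx
  rw [(hq.isFieldAut_iff hn h).mp h3] at h4
  have := (hq.isHerm _).form.orderOf_field (fun _ => hq.psuBar_eq_one hn h) (γ := hq.fieldU n ρ)
    h1 hr (by rw [← h4, conj_pow, ← hxr]; simp)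
  exact ⟨α, ρ, h1, this, this ▸ h2, h4⟩

theorem lang {q₀ : ℕ} (hq₀ : QConj σ₀ q₀) (hσ : ∀ a, j (σ₀ a) = σ (j a)) {γ}
    (hj : ∀ a, γ.1.2 a = a ↔ ∃ b, j b = a) (hk : hq.psuBar hn h γ ^ orderOf γ.1.2 = 1) {δ}
    (hδ : δ ∈ ((hq.psuBar hn h).comp (ofIsom _ _)).range)
    (hk' : (δ * hq.psuBar hn h γ) ^ orderOf γ.1.2 = 1) :
    IsConjUnder ((hq.psuBar hn h).comp (ofIsom _ _)).range (hq.psuBar hn h γ)
      (δ * hq.psuBar hn h γ) := by
  have := hq.finite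
  have := hq₀.finite
  have hH := hq.isHerm (Fin n)
  have key : ∀ γ' : SemiSim _ _, γ'.1.2 = γ.1.2 → hq.psuBar hn h γ' ^ orderOf γ.1.2 = 1 →
      ∃ (c : Fˣ) (t : (Fin n → F₀) →ₛₗ[j] (Fin n → F)) (μ : F)
      (B₀ : (Fin n → F₀) →ₛₗ[σ₀] (Fin n → F₀) →ₗ[F₀] F₀), IsHerm B₀ ∧ RForm B₀ (fun x => B₀ x x)
        (hermB (Fin n) σ) (fun x => hermB (Fin n) σ x x) t μ ∧ ∀ x, (hH.form.semiScal c * γ').1.1 (t x) = t x := fun γ' e hk => by
    obtain ⟨u, hu⟩ := hH.exists_self_eq (hermB_sep _) (by simp; omega) (map_one σ)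
    obtain ⟨c, t, μ, B₀, Q₀, H, ht⟩ := exists_rform_of_pow hH.form hσ (x := u) (y := u)
      (by simp [hu]) (γ := γ') (e ▸ hj) ((hq.psuBar_eq_one hn h).mp (by rw [map_pow, e, hk]))
    have : Nonempty (Fin n) := ⟨⟨0, by omega⟩⟩
    obtain ⟨x, hx⟩ := exists_ne (0 : Fin n → F₀)
    obtain ⟨y, hy⟩ := not_forall.mp (mt (H.sep₀ (hermB_sep _) x) hx)
    obtain ⟨μ, B₀, h1, h2⟩ := H.exists_herm hH hσ hq₀.ne_id (γ := hH.form.semiScal c * γ')
      (e ▸ hj) ht hy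
    exact ⟨c, t, μ, B₀, h1, h2, ht⟩
  obtain ⟨g, rfl⟩ := hδ
  obtain ⟨c, t, μ, B₀, h1, H, ht⟩ := key γ rfl hk
  obtain ⟨c', t', μ', B₀', h1', H', ht'⟩ := key (ofIsom _ _ g * γ) (one_mul _) (by rwa [map_mul])
  obtain ⟨e, he⟩ := h1.exists_equiv (H.sep₀ (hermB_sep _)) h1' (H'.sep₀ (hermB_sep _)) rfl
  obtain ⟨ε, h2, -⟩ := H.exists_conj H' (spanExt_diag _ _) (by simp) ht ht' e one_ne_zero
    (by simpa using he) (by simp [he])
  rw [hq.range_eq]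
  exact ⟨_, ⟨ε, trivial, rfl⟩, by
    simpa [(hq.psuBar_eq_one hn h).mpr ⟨_, rfl⟩] using congrArg (hq.psuBar hn h) h2⟩

variable {q₀ : ℕ} (hq₀ : QConj σ₀ q₀) (hσ : ∀ a, j (σ₀ a) = σ (j a)) {ρ : RingAut F}
  (hj : ∀ a, ρ a = a ↔ ∃ b, j b = a)
include hq₀ hj

theorem inf_centralizer : ((hq.psuBar hn h).comp (ofIsom _ _)).range ⊓
    Subgroup.centralizer {hq.psuBar hn h (hq.fieldU n ρ)} = ((hq.psuBar hn h).comp
      ((Sim _ _).subtype.comp (((rform_herm hσ).simMap (spanExt_diag _ _)).comp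
        ((ofIsom _ _).codRestrict _ fun _ => rfl)))).range := by
  have := hq₀.finite
  have hH := hq₀.isHerm (Fin n)
  obtain ⟨u, hu⟩ := hH.exists_self_eq (hermB_sep _) (by simp; omega) (map_one σ₀)
  rw [hq.range_eq, (rform_herm hσ).inf_centralizer (spanExt_diag _ _) _
    (fun _ => hq.psuBar_eq_one hn h) (γ := hq.fieldU n ρ) hj (fun x => (Matrix.one_mulVec _).trans
      (funext fun i => (hj _).mpr ⟨_, rfl⟩)) (x := u) (y := u) (by simp [hu]) (S := ⊤)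
    fun _ => trivial]
  refine le_antisymm ?_ (by rintro _ ⟨g, rfl⟩; exact ⟨_, trivial, rfl⟩)
  rintro _ ⟨δ, -, rfl⟩
  obtain ⟨a, g, e⟩ := hH.exists_eq_scal_mul (hermB_sep _) (by simp; omega) δ.2
  refine ⟨g, ?_⟩
  rw [show δ = ⟨hH.form.semiScal a, rfl⟩ * ⟨ofIsom _ _ g, rfl⟩ from Subtype.ext e, map_mul]
  exact (one_mul _).symm.trans (congrArg (· * _) ((hq.psuBar_eq_one hn h).mpr
    ⟨_, (rform_herm hσ).simMap_scal _ _ hH.form rfl⟩).symm)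

include hσ

theorem centralizer_equiv : Nonempty (↥(((hq.psuBar hn h).comp (ofIsom _ _)).range ⊓
    Subgroup.centralizer {hq.psuBar hn h (hq.fieldU n ρ)}) ≃* PGU n F₀ q₀) := by
  have : Nonempty (Fin n) := ⟨⟨0, by omega⟩⟩
  refine H10.nonempty_equiv_of_range_ker (MonoidHom.comp _ (guEquiv hq₀ n).toMonoidHom)
    ((MonoidHom.range_comp _ _).trans (by
      rw [MonoidHom.range_eq_top.mpr (guEquiv hq₀ n).surjective, ← MonoidHom.range_eq_map]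
      exact (hq.inf_centralizer hn h hq₀ hσ hj).symm)) (Subgroup.ext fun g => ?_)
  rw [Subgroup.mem_subgroupOf, Geo.mem_scalars_iff]
  refine (hq.psuBar_eq_one hn h).trans (Iff.trans ⟨fun ⟨_, e⟩ => (rform_herm hσ).exists_scal_of_simMap
    (spanExt_diag _ _) _ (hq₀.isHerm _).form e, fun ⟨_, e⟩ =>
      ⟨_, (rform_herm hσ).simMap_scal (spanExt_diag _ _) _ _ e⟩⟩
      (exists_congr fun a => ?_))
  rw [matrix_eq_iff_mulVec]
  simp only [Matrix.smul_mulVec, Matrix.one_mulVec]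
  exact ⟨fun e v => congrArg (fun γ : SemiSim _ _ => γ.1.1 v) e,
    fun e => Subtype.ext (Prod.ext (Equiv.ext e) rfl)⟩

theorem splitClassCount_eq : splitClassCount ((hq.psuBar hn h).comp (ofIsom _ _)).range (Inn _)
    (hq.psuBar hn h (hq.fieldU n ρ)) = Nat.gcd n ((q + 1) / (q₀ + 1)) := by
  have := hq.finite
  have := hq₀.finite
  have hH := hq.isHerm (Fin n)
  have hH₀ := hq₀.isHerm (Fin n)
  have hr := hH.range_detI (hermB_sep _) (by simp; omega)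
  have hr₀ := hH₀.range_detI (hermB_sep _) (by simp; omega)
  obtain ⟨u, hu⟩ := hH₀.exists_self_eq (hermB_sep _) (by simp; omega) (map_one σ₀)
  let d : UIsom (hermB (Fin n) σ) →* normOne σ := (detI _ _).codRestrict _ fun g => hr.le ⟨g, rfl⟩
  let i : normOne σ₀ →* normOne σ := ((Units.map j).comp (normOne σ₀).subtype).codRestrict _
    fun a => by simpa [mem_normOne, hσ] using congrArg j (mem_normOne.mp a.2)
  have k : ∀ {g g' : UIsom (hermB (Fin n) σ)},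
      hq.psuBar hn h (ofIsom _ _ g) = hq.psuBar hn h (ofIsom _ _ g') →
      d (g * g'⁻¹) ∈ (powMonoidHom n : normOne σ →* normOne σ).range := fun {g g'} e => by
    obtain ⟨a, ha⟩ := (hq.ker_psuBar_ofIsom hn h).le ((MonoidHom.mem_ker (x := g * g'⁻¹)).mpr (by
      rw [map_mul, map_inv, mul_inv_eq_one]; exact e))
    exact ⟨a, Subtype.ext (by rw [← ha]; simp [d, IsHerm.det_scalU])⟩
  rw [H10.splitClassCount_eq_index ((hq.psuBar hn h).comp (ofIsom _ _)) inn_le_range_matBar _ d (fun a => by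
      obtain ⟨g, hg⟩ := hr.ge a.2
      exact ⟨g, Subtype.ext hg⟩) ((powMonoidHom n).range ⊔ i.range), H10.index_pow_sup,
    H10.index_eq_div, hq.card_normOne, ← hq₀.card_normOne,
    Nat.card_congr (MonoidHom.ofInjective (f := i) fun a b e => Subtype.ext
      (Units.map_injective j.injective (congrArg Subtype.val e))).toEquiv]
  · intro g hg
    obtain ⟨a, g', h1, e⟩ := (hq.psuBar_mem_inn hn h).mp hg
    have := k (g := g) (g' := g') (by rw [e, map_mul, (hq.psuBar_eq_one hn h).mpr ⟨a, rfl⟩, one_mul])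
    rw [map_mul, map_inv, show d g' = 1 from Subtype.ext h1, inv_one, mul_one] at this
    exact Subgroup.mem_sup_left this
  · intro g hg
    obtain ⟨g₀, e⟩ := (hq.inf_centralizer hn h hq₀ hσ hj).le ⟨⟨g, rfl⟩, hg⟩
    obtain ⟨g', h1, h2⟩ := (rform_herm hσ).exists_isom_det (spanExt_diag _ _) (u := u) (v := u)
      (by simp [hu]) g₀
    rw [← inv_mul_cancel_right g g', map_mul]
    exact Subgroup.mul_mem_sup (k (g := g) (g' := g') (e.symm.trans (congrArg (hq.psuBar hn h) h1)))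
      ⟨⟨_, hr₀.le ⟨g₀, rfl⟩⟩, Subtype.ext h2.symm⟩
  · exact fun g hg => (hq.psuBar_mem_inn hn h).mpr ⟨1, g, congrArg Subtype.val hg, by simp⟩
  · intro s hs
    obtain ⟨_, ⟨a, rfl⟩, _, ⟨b, rfl⟩, rfl⟩ := Subgroup.mem_sup.mp hs
    obtain ⟨g₀, h0⟩ := hr₀.ge b.2
    obtain ⟨g', h1, h2⟩ := (rform_herm hσ).exists_isom_det (spanExt_diag _ _) (u := u) (v := u)
      (by simp [hu]) g₀
    refine ⟨IsHerm.scalU _ a, g', (hq.psuBar_mem_inn hn h).mpr ⟨a.1, 1, one_mem _, by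
      rw [map_one, mul_one]; rfl⟩,
      ((hq.inf_centralizer hn h hq₀ hσ hj).ge ⟨g₀, congrArg (hq.psuBar hn h) h1⟩).2, Subtype.ext ?_⟩
    simp [d, i, IsHerm.det_scalU, h2, h0]

end QConj

end Cfsg.Agent.H11
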