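import Mathlib
import Cfsg.Agent.H11.GForm2
import Cfsg.Agent.H11.ULang
import Cfsg.Agent.H10.AutPSL3

/-!
# Graph involutions of unitary groups
-/

set_option autoImplicit false

namespace Cfsg.Agent.H11

open Module
open scoped Matrix

variable {F : Type*} [Field F] {K : Type*} [Field K] {j : K →+* F} {σ : F →+* F}

section abstract

variable {V : Type*} [AddCommGroup V] [Module F V] {V₀ : Type*} [AddCommGroup V₀] [Module K V₀]
  {V₀' : Type*} [AddCommGroup V₀'] [Module K V₀'] {B : V →ₛₗ[σ] V →ₗ[F] F} {Q : V → F}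
  {B₀ : V₀ →ₗ[K] V₀ →ₗ[K] K} {B₀' : V₀' →ₗ[K] V₀' →ₗ[K] K} {Q₀ : V₀ → K} {Q₀' : V₀' → K}
  {t : V₀ →ₛₗ[j] V} {t' : V₀' →ₛₗ[j] V} {μ μ' : F}

/-- Linear similarities as semisimilarities. -/
def toSim (B₀ : V₀ →ₗ[K] V₀ →ₗ[K] K) : simE B₀ →* Sim B₀ fun x => B₀ x x where
  toFun g := ⟨⟨(g.1.toEquiv, 1), g.1.map_add, g.1.map_smul, g.2.imp fun _ h =>
    ⟨h.1, h.2, fun x => h.2 x x⟩⟩, rfl⟩
  map_one' := rfl
  map_mul' _ _ := rfl

theorem toSim_surjective : Function.Surjective (toSim B₀) := fun δ =>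
  ⟨⟨simLin _ _ δ, _, SemiSim.mult_ne_zero δ.1, fun x y => by
    rw [simLin_apply, simLin_apply, SemiSim.map_B, mem_Sim.mp δ.2]; rfl⟩,
    Subtype.ext (Subtype.ext (Prod.ext rfl (mem_Sim.mp δ.2).symm))⟩

theorem RForm.good [FiniteDimensional K V₀] (H : RForm B₀ Q₀ B Q t μ) (h : IsHerm B)
    (hB : B.SeparatingLeft) (hσ : ∀ a, σ (j a) = j a) : Good B₀ := by
  have h1 : ∀ x y, μ * j (B₀ y x) = σ μ * j (B₀ x y) := fun x y => by
    rw [← H.hB, ← h.symm, H.hB, map_mul, hσ]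
  refine Good.of_skew (H.sep₀ hB) ?_
  by_cases h0 : ∀ x y, B₀ x y = 0
  · exact Or.inl fun x y => by rw [h0, h0]
  push Not at h0
  obtain ⟨u, v, h0⟩ := h0
  refine (mul_self_eq_mul_self_iff.mp (mul_right_cancel₀ ((map_ne_zero j).mpr h0)
    (show σ μ * σ μ * _ = μ * μ * _ by linear_combination -σ μ * h1 u v - μ * h1 v u))).imp
    (fun e x y => j.injective (mul_left_cancel₀ H.ne (by rw [h1, e])))
    fun e x y => j.injective (mul_left_cancel₀ H.ne (by rw [h1, e, map_neg]; ring))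

variable {ε κ : F} {τ : F →+ F}

theorem RForm.similar_of_conj [FiniteDimensional K V₀] [FiniteDimensional K V₀']
    (H : RForm B₀ Q₀ B Q t μ) (H' : RForm B₀' Q₀' B Q t' μ') (h : IsForm ε κ τ B Q)
    {γ γ' : SemiSim B Q} (hj : ∀ a, γ'.1.2 a = a ↔ ∃ b, j b = a) (ht : ∀ x, γ.1.1 (t x) = t x)
    (ht' : ∀ x, γ'.1.1 (t' x) = t' x) {x y : V₀} (hxy : B₀ x y ≠ 0) {δ : Sim B Q} {c : Fˣ}
    (e : γ' * δ = h.semiScal c * δ * γ) : Similar B₀ B₀' := by
  obtain ⟨b, hb', hb⟩ := H'.exists_basis (finBasis K V₀')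
  have h1 : ∀ x, γ'.1.1 (δ.1.1.1 (t x)) = (c : F) • δ.1.1.1 (t x) := fun x =>
    (congrArg (fun γ : SemiSim B Q => γ.1.1 (t x)) e).trans (congrArg (fun v => (c : F) •
      δ.1.1.1 v) (ht x))
  obtain ⟨i, hi⟩ : ∃ i, b.repr (δ.1.1.1 (t x)) i ≠ 0 := by
    by_contra H'
    push Not at H'
    have := (SemiSim.map_eq_zero δ.1).mp (b.ext_elem fun i => (H' i).trans (by simp))
    exact hxy (by simp [H.injective (this.trans t.map_zero.symm)])
  have h2 := H'.repr_apply ht' hb' (δ.1.1.1 (t x)) i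
  rw [h1, map_smul, Finsupp.smul_apply, smul_eq_mul] at h2
  generalize b.repr (δ.1.1.1 (t x)) i = a at hi h2
  let δ' : Sim B Q := ⟨h.semiScal (Units.mk0 a hi)⁻¹ * δ, mul_mem rfl δ.2⟩
  choose g hg using fun x => H'.exists_eq_of_fixed hj ht' (v := simLin B Q δ' (t x)) (by
    change γ'.1.1 (a⁻¹ • δ.1.1.1 _) = a⁻¹ • δ.1.1.1 _
    rw [SemiSim.map_smul, h1, smul_smul]
    simp [← h2, hi])
  let g' : V₀ →ₗ[K] V₀' :=
    { toFun := g
      map_add' := fun x y => H'.injective (by simp [hg])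
      map_smul' := fun c x => H'.injective (by simp [hg, t.map_smulₛₗ, t'.map_smulₛₗ]) }
  have h4 : ∀ x y, μ' * j (B₀' (g x) (g y)) = SemiSim.mult δ'.1 * (μ * j (B₀ x y)) := fun x y => by
    rw [← H'.hB, hg, hg, simLin_apply, simLin_apply, SemiSim.map_B, mem_Sim.mp δ'.2, H.hB]; rfl
  have h5 : μ' * j (B₀' (g x) (g y) / B₀ x y) = SemiSim.mult δ'.1 * μ := by
    rw [map_div₀, ← mul_div_assoc, h4, ← mul_assoc, mul_div_cancel_right₀ _ (by simpa)]
  exact ⟨g'.linearEquivOfInjective (fun x y e => H.injective ((simLin B Q δ').injective (by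
      rw [← hg, ← hg]; exact congrArg t' e))) (H.rank.trans H'.rank.symm), B₀' (g x) (g y) / B₀ x y,
    fun h0 => mul_ne_zero (SemiSim.mult_ne_zero δ'.1) H.ne (by rw [← h5, h0, map_zero, mul_zero]),
    fun x y => j.injective (mul_left_cancel₀ H'.ne (by
      rw [map_mul, ← mul_assoc, h5, mul_assoc]; exact h4 x y))⟩

theorem RForm.isPSim [FiniteDimensional K V₀] [Nontrivial V₀]
    (H : RForm B₀ (fun x => B₀ x x) B Q t μ) (hQ : SpanExt B Q B Q) (h : IsForm ε κ τ B Q)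
    {A : Type*} [Group A] {Φ : SemiSim B Q →* A} (hΦ : ∀ γ, Φ γ = 1 ↔ ∃ a, γ = h.semiScal a)
    {γ : SemiSim B Q} (hj : ∀ a, γ.1.2 a = a ↔ ∃ b, j b = a) (ht : ∀ x, γ.1.1 (t x) = t x)
    {x y : V₀} (hxy : B₀ x y ≠ 0) : IsPSim B₀
      ↥((⊤ : Subgroup (Sim B Q)).map (Φ.comp (Sim B Q).subtype) ⊓ Subgroup.centralizer {Φ γ}) := by
  rw [H.inf_centralizer hQ h hΦ hj ht hxy (S := ⊤) fun _ => trivial, Subgroup.comap_top,
    ← MonoidHom.range_eq_map]
  refine ⟨(MonoidHom.rangeRestrict _).comp (toSim B₀), (MonoidHom.rangeRestrict_surjective _).comp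
    toSim_surjective, fun g => Subtype.ext_iff.trans ((hΦ _).trans ⟨fun ⟨a, e⟩ => ?_,
      fun ⟨c, e⟩ => ?_⟩)⟩
  · obtain ⟨b, hb', hb⟩ := H.exists_basis (finBasis K V₀)
    let i : Fin (finrank K V₀) := ⟨0, finrank_pos⟩
    have h1 : ∀ x, (a : F) • t x = t (g.1 x) := fun x =>
      (congrArg (fun γ : SemiSim B Q => γ.1.1 (t x)) e).symm.trans (H.simMap_apply hQ _ x)
    have h2 := congrArg (fun v => b.repr v i) (h1 (finBasis K V₀ i))
    simp only [map_smul, Finsupp.smul_apply, hb, Basis.repr_self, Finsupp.single_eq_same, map_one,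
      smul_eq_mul, mul_one] at h2
    exact ⟨_, fun x => H.injective (by rw [← h1, t.map_smulₛₗ, ← h2])⟩
  · have hc : j c ≠ 0 := (map_ne_zero j).mpr (by
      rintro rfl
      exact hxy (by simp [g.1.map_eq_zero_iff.mp ((e x).trans (zero_smul _ _))]))
    exact ⟨Units.mk0 _ hc, H.simMap_eq hQ rfl fun x =>
      (t.map_smulₛₗ c x).symm.trans (congrArg t (e x).symm)⟩

theorem RForm.det_mult [FiniteDimensional K V₀] {B : V →ₛₗ[σ] V →ₗ[F] F}
    (H : RForm B₀ (fun x => B₀ x x) B (fun x => B x x) t μ) (h : IsHerm B) {x y : V₀}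
    (hxy : B₀ x y ≠ 0) {g₀ : simE B₀} {c : K} (hc : ∀ x y, B₀ (g₀.1 x) (g₀.1 y) = c * B₀ x y)
    {a : Fˣ} {g : UIsom B}
    (e : (H.simMap (spanExt_diag _ _) (toSim B₀ g₀)).1 = h.form.semiScal a * ofIsom _ _ g) :
    σ a * a = j c ∧ detI _ _ g * (a : F) ^ finrank F V =
      j (LinearMap.det (g₀.1 : V₀ →ₗ[K] V₀)) := by
  have := H.rank
  have : FiniteDimensional F V := (H.exists_basis (finBasis K V₀)).choose.finiteDimensional_of_finite
  have h1 : ∀ x, (a : F) • g.1 (t x) = t (g₀.1 x) := fun x =>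
    (congrArg (fun γ : SemiSim B _ => γ.1.1 (t x)) e).symm.trans (H.simMap_apply _ _ x)
  constructor
  · refine mul_right_cancel₀ (mul_ne_zero H.ne ((map_ne_zero j).mpr hxy)) ?_
    rw [mul_left_comm (j c), ← map_mul, ← hc, ← H.hB, ← H.hB, ← h1, ← h1]
    simp [g.2.1, mul_assoc, mul_left_comm]
  · rw [← H.det_eq (g := (a : F) • (g.1 : V →ₗ[F] V)) h1, LinearMap.det_smul, detI_coe, mul_comm]

end abstract

theorem exists_rform_herm [Finite F] {n : ℕ} {B₀ : (Fin n → K) →ₗ[K] (Fin n → K) →ₗ[K] K}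
    (h : Good B₀) (hH : IsHerm (hermB (Fin n) σ)) (hσ : ∀ a, σ (j a) = j a) {ρ : RingAut F}
    (hρ : ∀ a, ρ a = σ a) : ∃ (γ : SemiSim (hermB (Fin n) σ) fun x => hermB (Fin n) σ x x)
      (t : (Fin n → K) →ₛₗ[j] (Fin n → F)) (μ : F), γ.1.2 = ρ ∧ RForm B₀ (fun x => B₀ x x)
        (hermB (Fin n) σ) (fun x => hermB (Fin n) σ x x) t μ ∧ ∀ x, γ.1.1 (t x) = t x := by
  obtain ⟨ε, h1, h2⟩ := h.skew
  obtain ⟨μ, h0, hμ⟩ : ∃ μ : F, μ ≠ 0 ∧ σ μ = j ε * μ := by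
    rcases mul_self_eq_one_iff.mp h1 with rfl | rfl
    · exact ⟨1, one_ne_zero, by simp⟩
    · obtain ⟨c, h3, h4⟩ := exists_trace_zero hH.ne hH.invol
      exact ⟨c, h3, by rw [map_neg, map_one]; linear_combination h4⟩
  let M := gram B₀ (Pi.basisFun K (Fin n))
  let B₁ : (Fin n → F) →ₛₗ[σ] (Fin n → F) →ₗ[F] F :=
    (hermB (Fin n) σ).compl₂ (μ • (M.map j).mulVecLin)
  have e1 : ∀ u v, B₁ u v = μ * ∑ i, ∑ k, σ (u i) * j (M i k) * v k := fun u v => by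
    simp [B₁, hermB_apply, Matrix.mulVec, dotProduct, Finset.mul_sum, mul_assoc, mul_left_comm]
  have e2 : ∀ x y, B₀ x y = ∑ i, ∑ k, x i * M i k * y k := fun x y => by
    conv_lhs => rw [← (Pi.basisFun K _).sum_repr x, ← (Pi.basisFun K _).sum_repr y]
    simp only [map_sum, map_smul, LinearMap.sum_apply, LinearMap.smul_apply, smul_eq_mul,
      Finset.mul_sum, Pi.basisFun_repr]
    rw [Finset.sum_comm]
    exact Finset.sum_congr rfl fun i _ => Finset.sum_congr rfl fun k _ => by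
      simp only [M, gram_apply]; ring
  have hε : j ε * j ε = 1 := by rw [← map_mul, h1, map_one]
  have H₁ : IsHerm B₁ := ⟨hH.ne, hH.invol, fun u v => by
    rw [e1, e1, map_mul, hμ, Finset.sum_comm, map_sum, Finset.mul_sum, Finset.mul_sum]
    refine Finset.sum_congr rfl fun i _ => ?_
    rw [map_sum, Finset.mul_sum, Finset.mul_sum]
    refine Finset.sum_congr rfl fun k _ => ?_
    rw [map_mul, map_mul, hH.invol, hσ, show M i k = ε * M k i from h2 _ _, map_mul]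
    ring⟩
  have s₁ : B₁.SeparatingLeft := fun u hu => hermB_sep _ u fun v => by
    obtain ⟨w, rfl⟩ := Matrix.mulVec_surjective_iff_isUnit.mpr ((Matrix.isUnit_iff_isUnit_det _).mpr
      (show IsUnit (μ • M.map j).det from by
        rw [Matrix.det_smul, ← RingHom.mapMatrix_apply, ← RingHom.map_det]
        simpa [h0] using gram_det_ne_zero (fun _ => rfl) h.sep _)) v
    simpa [B₁, Matrix.smul_mulVec] using hu w
  obtain ⟨e, he⟩ := H₁.exists_equiv s₁ hH (hermB_sep _) rfl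
  have R₁ : RForm B₀ (fun x => B₀ x x) B₁ (fun x => B₁ x x) (coordMap _ j) μ :=
    ⟨span_coordMap, by simp, h0, fun x y => by simp [e1, e2, hσ], fun x => by simp [e1, e2, hσ]⟩
  have k : ∀ x y, hermB (Fin n) σ (e fun i => ρ (e.symm x i)) (e fun i => ρ (e.symm y i)) =
      j ε * ρ (hermB (Fin n) σ x y) := fun x y => by
    obtain ⟨x, rfl⟩ := e.surjective x
    obtain ⟨y, rfl⟩ := e.surjective y
    simp only [he, e1, e.symm_apply_apply, hρ, map_mul, map_sum, hσ, hμ, ← mul_assoc, hε, one_mul]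
  obtain ⟨γ, h3, h4⟩ := exists_semiSim (Q := fun x => hermB (Fin n) σ x x) (hermB_sep _)
    (fun x => e fun i => ρ (e.symm x i)) ρ
    (fun x y => by rw [← map_add]; congr 1; ext; simp)
    (fun a x => by rw [← map_smul]; congr 1; ext; simp) (left_ne_zero_of_mul_eq_one hε) k
    fun x => k x x
  exact ⟨γ, _, _, h3, R₁.equiv_comp e one_ne_zero (by simpa using he) (by simp [he]), fun x => by
    simp [h4, hρ, hσ]; rfl⟩

theorem Good.exists_pair {V : Type*} [AddCommGroup V] [Module K V] [Nontrivial V]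
    {B : V →ₗ[K] V →ₗ[K] K} (h : Good B) : ∃ x y, B x y ≠ 0 := by
  obtain ⟨x, hx⟩ := exists_ne (0 : V)
  exact ⟨x, not_forall.mp (mt (h.sep x) hx)⟩

namespace QConj

variable {q n : ℕ} (hq : QConj σ q)

include hq in
theorem exists_ringAut : ∃ ρ : RingAut F, orderOf ρ = 2 ∧ ∀ a, ρ a = σ a :=
  ⟨RingEquiv.ofRingHom σ σ (RingHom.ext hq.invol) (RingHom.ext hq.invol),
    orderOf_eq_prime (RingEquiv.ext hq.invol) fun e => hq.ne_id (RingHom.ext fun a =>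
      congrArg (fun ρ : RingAut F => ρ a) e), fun _ => rfl⟩

include hq in
theorem exists_fix (K : Type*) [Field K] [Fintype K] (hK : Fintype.card K = q) :
    ∃ (ρ : RingAut F) (j : K →+* F), orderOf ρ = 2 ∧ (∀ a, ρ a = σ a) ∧
      ∀ a, ρ a = a ↔ ∃ b, j b = a := by
  have := hq.finite
  obtain ⟨ρ, h1, h2⟩ := hq.exists_ringAut
  obtain ⟨j, hj⟩ := H10.exists_ringHom_fixS ρ K (by
    rw [Nat.card_eq_fintype_card, hK, ← hq.card_fixed]
    exact Nat.card_congr (Equiv.subtypeEquivRight fun a => by rw [H10.mem_fixS, h2]))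
  exact ⟨ρ, j, h1, h2, hj⟩

variable (hn : 3 ≤ n) (h : ¬ (n = 3 ∧ q = 2))

theorem splitClassCount_of (x : MulAut (PSU n F q)) (S : Subgroup (normOne σ))
    (h1 : ∀ s : normOne σ, (∃ g, hq.psuBar hn h (ofIsom _ _ g) ∈ Subgroup.centralizer {x} ∧
      detI _ _ g = s) → s ∈ (powMonoidHom n : normOne σ →* normOne σ).range ⊔ S)
    (h2 : ∀ s ∈ S, ∃ g, hq.psuBar hn h (ofIsom _ _ g) ∈ Subgroup.centralizer {x} ∧
      detI _ _ g = s) :
    splitClassCount ((hq.psuBar hn h).comp (ofIsom _ _)).range (Inn _) x = Nat.gcd n S.index := by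
  have := hq.finite
  have hr := (hq.isHerm (Fin n)).range_detI (hermB_sep _) (by simp; omega)
  let d : UIsom (hermB (Fin n) σ) →* normOne σ := (detI _ _).codRestrict _ fun g => hr.le ⟨g, rfl⟩
  rw [H10.splitClassCount_eq_index ((hq.psuBar hn h).comp (ofIsom _ _)) inn_le_range_matBar _ d
    (fun a => by
      obtain ⟨g, hg⟩ := hr.ge a.2
      exact ⟨g, Subtype.ext hg⟩) ((powMonoidHom n).range ⊔ S), H10.index_pow_sup]
  · intro g hg
    obtain ⟨a, g', h1, e⟩ := (hq.psuBar_mem_inn hn h).mp hg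
    obtain ⟨b, hb⟩ := (hq.ker_psuBar_ofIsom hn h).le ((MonoidHom.mem_ker (x := g * g'⁻¹)).mpr (by
      rw [map_mul, map_inv, mul_inv_eq_one, MonoidHom.comp_apply, e, map_mul,
        (hq.psuBar_eq_one hn h).mpr ⟨a, rfl⟩, one_mul]; rfl))
    refine Subgroup.mem_sup_left ⟨b, Subtype.ext ?_⟩
    rw [← inv_mul_cancel_right g g', ← hb]
    simp [d, IsHerm.det_scalU, MonoidHom.mem_ker.mp h1]
  · exact fun g hg => h1 _ ⟨g, hg, rfl⟩
  · exact fun g hg => (hq.psuBar_mem_inn hn h).mpr ⟨1, g, congrArg Subtype.val hg, by simp⟩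
  · intro s hs
    obtain ⟨_, ⟨a, rfl⟩, b, hb, rfl⟩ := Subgroup.mem_sup.mp hs
    obtain ⟨g, h3, h4⟩ := h2 b hb
    refine ⟨IsHerm.scalU _ a, g, (hq.psuBar_mem_inn hn h).mpr ⟨a.1, 1, one_mem _, by
      rw [map_one, mul_one]; rfl⟩, h3, Subtype.ext ?_⟩
    simp [d, IsHerm.det_scalU, h4]

/-- The bilinear form attached to a graph involution. -/
def GRel (j : K →+* F) (ρ : RingAut F) (x : MulAut (PSU n F q))
    (B₀ : (Fin n → K) →ₗ[K] (Fin n → K) →ₗ[K] K) : Prop :=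
  ∃ γ t μ, x = hq.psuBar hn h γ ∧ γ.1.2 = ρ ∧ RForm (j := j) B₀ (fun x => B₀ x x)
    (hermB (Fin n) σ) (fun x => hermB (Fin n) σ x x) t μ ∧ ∀ x, γ.1.1 (t x) = t x

variable {ρ : RingAut F} (h1 : orderOf ρ = 2) (h2 : ∀ a, ρ a = σ a)
  (hj : ∀ a, ρ a = a ↔ ∃ b, j b = a)
include h1 h2 hj

theorem exists_gRel {γ} (e : γ.1.2 = ρ) (hγ : hq.psuBar hn h γ ^ 2 = 1) :
    ∃ B₀, hq.GRel hn h j ρ (hq.psuBar hn h γ) B₀ := by
  have := hq.finite
  have hH := hq.isHerm (Fin n)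
  obtain ⟨u, hu⟩ := hH.exists_self_eq (hermB_sep _) (by simp; omega) (map_one σ)
  obtain ⟨c, t, μ, B₀, Q₀, H, ht⟩ := exists_rform_of_pow (σ₀ := RingHom.id K) (j := j) hH.form
    (fun a => by rw [← h2, (hj _).mpr ⟨a, rfl⟩]; rfl) (x := u) (y := u) (by simp [hu]) (γ := γ)
    (e ▸ hj) ((hq.psuBar_eq_one hn h).mp (by rw [map_pow, e, h1, hγ]))
  obtain rfl : Q₀ = fun x => B₀ x x := funext fun x => j.injective (mul_left_cancel₀ H.ne (by
    rw [← H.hQ, ← H.hB]))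
  exact ⟨B₀, _, t, μ, by rw [map_mul, (hq.psuBar_eq_one hn h).mpr ⟨c, rfl⟩, one_mul],
    by simp [e], H, ht⟩

theorem gSys : GSys (inndiagPSU n F q) (fun x => IsGraphAutClassPSU x ∧ orderOf x = 2)
    (hq.GRel hn h j ρ) := by
  have := hq.finite
  have hH := hq.isHerm (Fin n)
  have hσ : ∀ a, σ (j a) = j a := fun a => by rw [← h2, (hj _).mpr ⟨a, rfl⟩]
  have : Nonempty (Fin n) := ⟨⟨0, by omega⟩⟩
  have hΦ := fun γ => hq.psuBar_eq_one hn h (γ := γ)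
  rw [hq.inndiagPSU_eq hn h, hq.range_eq]
  refine ⟨?_, ?_, fun B₀ hB => ?_, ?_, ?_⟩
  · rintro _ ⟨⟨-, _, φ, τ, h3, h4, h5, rfl⟩, h6⟩
    obtain ⟨g, rfl⟩ := (hq.isInnerDiagonal_iff hn h).mp h4
    rw [(hq.isFieldAut_iff hn h).mp h5, MonoidHom.comp_apply, ← map_mul] at h6 ⊢
    have h7 := h6 ▸ pow_orderOf_eq_one (hq.psuBar hn h (ofIsom _ _ g * hq.fieldU n τ))
    refine hq.exists_gRel hn h h1 h2 hj (H10.eq_of_orderOf_two ?_ h1) h7
    have h8 := hH.form.field_pow hΦ h7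
    refine orderOf_eq_prime h8 fun e => ?_
    rw [show τ = 1 from (one_mul τ).symm.trans e, orderOf_one] at h3
    exact Nat.not_even_one h3
  · rintro _ B₀ ⟨γ, t, μ, rfl, e, H, ht⟩
    obtain ⟨a, g, e'⟩ := hq.exists_decomp hn γ
    refine ⟨⟨⟨hn, _, _, ρ, by simp [h1], (hq.isInnerDiagonal_iff hn h).mpr ⟨g, rfl⟩,
      (hq.isFieldAut_iff hn h).mpr rfl, ?_⟩, orderOf_eq_prime ?_ fun e' => ?_⟩,
      H.good hH (hermB_sep _) hσ⟩
    · rw [e', map_mul, map_mul, (hΦ _).mpr ⟨a, rfl⟩, one_mul, e]; rfl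
    · rw [← map_pow, H.pow_eq_one ht (by rw [e, ← h1, pow_orderOf_eq_one]), map_one]
    · obtain ⟨a, rfl⟩ := (hΦ _).mp e'
      rw [← e, IsForm.semiScal_field, orderOf_one] at h1
      omega
  · obtain ⟨γ, t, μ, H⟩ := exists_rform_herm hB hH hσ h2
    exact ⟨_, γ, t, μ, rfl, H⟩
  · rintro _ B₀ ⟨γ, t, μ, rfl, e, H, ht⟩
    obtain ⟨x, y, hxy⟩ := (H.good hH (hermB_sep _) hσ).exists_pair
    exact H.isPSim (spanExt_diag _ _) hH.form hΦ (e ▸ hj) ht hxy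
  · rintro _ _ B₀ B₀' ⟨γ, t, μ, rfl, e, H, ht⟩ ⟨γ', t', μ', rfl, e', H', ht'⟩
    constructor
    · rintro ⟨_, ⟨δ, -, rfl⟩, e₁⟩
      obtain ⟨x, y, hxy⟩ := (H.good hH (hermB_sep _) hσ).exists_pair
      obtain ⟨c, hc⟩ := (hΦ (γ' * δ * (δ * γ)⁻¹)).mp (by simp [e₁])
      exact H.similar_of_conj H' hH.form (e' ▸ hj) ht ht' hxy (δ := δ) (c := c)
        (by rw [mul_assoc, ← hc, inv_mul_cancel_right])
    · rintro ⟨e₀, c, hc, he⟩
      obtain ⟨δ, h3, -⟩ := H.exists_conj H' (spanExt_diag _ _) (e.trans e'.symm) ht ht' e₀ hc he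
        fun x => he x x
      exact ⟨_, ⟨δ, trivial, rfl⟩, by simp [h3]⟩

include hq hn h in
theorem split_graph [Finite K] {x : MulAut (PSU n F q)}
    (hx : IsGraphAutClassPSU x ∧ orderOf x = 2) :
    (Even n ∧ (2 : K) ≠ 0 ∧ Nonempty (↥(inndiagPSU n F q ⊓ Subgroup.centralizer {x}) ≃*
      PGSp (n / 2) K) → splitClassCount (inndiagPSU n F q) (Inn _) x = Nat.gcd (n / 2) (q + 1)) ∧
    (Even n ∧ (2 : K) ≠ 0 ∧ ¬ Nonempty (↥(inndiagPSU n F q ⊓ Subgroup.centralizer {x}) ≃*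
      PGSp (n / 2) K) → splitClassCount (inndiagPSU n F q) (Inn _) x = Nat.gcd n (q + 1) / 2) ∧
    (¬ (Even n ∧ (2 : K) ≠ 0) → splitClassCount (inndiagPSU n F q) (Inn _) x = Nat.gcd n (q + 1)) := by
  have := hq.finite
  have hH := hq.isHerm (Fin n)
  have S := hq.gSys hn h h1 h2 hj
  obtain ⟨B₀, hB⟩ := S.ex x hx
  have hG := (S.good hB).2
  have : Nonempty (Fin n) := ⟨⟨0, by omega⟩⟩
  obtain ⟨u, v, huv⟩ := hG.exists_pair
  have hσ : ∀ a, σ (j a) = j a := fun a => by rw [← h2, (hj _).mpr ⟨a, rfl⟩]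
  rw [← hq.card_normOne]
  refine split_abstract j (normOne σ) (fun c a => a ≠ 0 ∧ σ a * a = j c) ?_ ?_ ?_ (by simp)
    (by simp [mem_normOne]) _ (fun s => ?_) (fun S h3 h4 => (hq.inndiagPSU_eq hn h).symm ▸
      hq.splitClassCount_of hn h x S h3 h4) hG (S.cent hB) (by simp) hn
  · rintro c a ⟨ha, e⟩
    have : σ a ≠ 0 := by simpa
    exact ⟨ha, ⟨Units.mk0 (σ a / a) (by simpa), by simp [mem_normOne, hq.invol, ha, this]⟩, by
      simp [← e]; field_simp⟩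
  · rintro b a ⟨ha, e⟩
    have : σ a ≠ 0 := by simpa
    have hb : j b ≠ 0 := by rintro h0; simp [h0, ha] at e
    refine ⟨⟨Units.mk0 (j b / a) (div_ne_zero hb ha), ?_⟩, by simp [ha]⟩
    simp only [mem_normOne, Units.val_mk0, map_div₀, hσ]
    field_simp
    rw [e, map_mul, sq]
  · intro s
    obtain ⟨a, ha, e⟩ := exists_div_conj hq.ne_id hq.invol (mem_normOne.mp s.2)
    obtain ⟨c, hc⟩ := (hj (a * σ a)).mp (by rw [h2, map_mul, hq.invol, mul_comm])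
    have : σ a ≠ 0 := by simpa
    exact ⟨c, σ a, by rintro rfl; simp [ha] at hc, ⟨this, by rw [hq.invol, hc]⟩, by
      rw [hc, sq, ← mul_assoc, e]⟩
  · obtain ⟨γ, t, μ, rfl, e, H, ht⟩ := hB
    have hΦ := fun γ => hq.psuBar_eq_one hn h (γ := γ)
    have k := H.inf_centralizer (spanExt_diag _ _) hH.form hΦ (e ▸ hj) ht huv (S := ⊤)
      fun _ => trivial
    constructor
    · rintro ⟨g, h3, h4⟩
      obtain ⟨δ, -, h5⟩ := k.le ⟨⟨⟨_, rfl⟩, trivial, rfl⟩, h3⟩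
      obtain ⟨g₀, rfl⟩ := toSim_surjective δ
      obtain ⟨a, ha⟩ := (hΦ ((H.simMap (spanExt_diag _ _) (toSim B₀ g₀)).1 *
        (ofIsom _ _ g)⁻¹)).mp (by
        rw [map_mul, map_inv, mul_inv_eq_one]; exact h5)
      obtain ⟨c, hc, h6⟩ := g₀.2
      obtain ⟨h7, h8⟩ := H.det_mult hH huv h6 (mul_inv_eq_iff_eq_mul.mp ha)
      exact ⟨g₀.1, c, a, hc, h6, ⟨a.ne_zero, h7⟩, by simpa [h4] using h8⟩
    · rintro ⟨g₀, c, a, hc, h6, ⟨ha, h7⟩, h8⟩
      obtain ⟨w, hw⟩ := hH.exists_self_eq (hermB_sep _) (by simp; omega) (map_one σ)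
      obtain ⟨g, hg⟩ := hH.form.exists_eq_scal_mul (x := w) (y := w) (by simp [hw])
        (γ := (H.simMap (spanExt_diag _ _) (toSim B₀ ⟨g₀, c, hc, h6⟩)).1)
        (mem_Sim.mp (Subtype.prop _)) (a := Units.mk0 a ha) (by
          rw [H.mult_simMap _ huv, SemiSim.mult_eq huv _ (h6 u v)]; exact h7.symm)
      refine ⟨g, ?_, Units.ext (mul_right_cancel₀ (pow_ne_zero n ha) ?_)⟩
      · have := (k.ge ⟨toSim B₀ ⟨g₀, c, hc, h6⟩, trivial, rfl⟩).2
        simpa [hg, (hΦ _).mpr ⟨_, rfl⟩] using this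
      · simpa [h8] using (H.det_mult hH huv (g₀ := ⟨g₀, c, hc, h6⟩) h6 hg).2

theorem gRel_field : hq.GRel hn h j ρ (hq.psuBar hn h (hq.fieldU n ρ))
    (hermB (Fin n) (RingHom.id K)) :=
  ⟨_, _, _, rfl, rfl, rform_herm fun a => by rw [← h2, (hj _).mpr ⟨a, rfl⟩]; rfl, fun x =>
    (Matrix.one_mulVec _).trans (funext fun _ => (hj _).mpr ⟨_, rfl⟩)⟩

end QConj

theorem two_ne_zero_iff_odd [Fintype K] : (2 : K) ≠ 0 ↔ Odd (Fintype.card K) := by
  rw [Ne, H10.two_eq_zero_iff_even_card, Nat.odd_iff]; omega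

end Cfsg.Agent.H11
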