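import Mathlib
import Cfsg.Agent.H11.UGraph

/-!
# Graph involutions of linear groups
-/

set_option autoImplicit false

namespace Cfsg.Agent.H11

open Module Matrix H10
open scoped MatrixGroups

variable {F : Type*} [Field F] {n : ℕ}

theorem toBilin'_sim_iff {M M' h : Matrix (Fin n) (Fin n) F} {c : F} :
    (∀ u v, toBilin' M' (h *ᵥ u) (h *ᵥ v) = c * toBilin' M u v) ↔ hᵀ * M' * h = c • M := by
  rw [← toBilin'.injective.eq_iff, map_smul, LinearMap.ext_iff₂]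
  simp only [toBilin'_apply', ← mulVec_mulVec, dotProduct_mulVec, vecMul_transpose,
    LinearMap.smul_apply, smul_eq_mul]

theorem pGraph_conj_iff (hn : 2 ≤ n) (g g' h : GL (Fin n) F) :
    pDiag g'⁻¹ * pInvT _ F = pDiag h * (pDiag g⁻¹ * pInvT _ F) * (pDiag h)⁻¹ ↔
      ∃ c, c ≠ 0 ∧ ∀ u v, toBilin' g'.1 (h.1 *ᵥ u) (h.1 *ᵥ v) = c * toBilin' g.1 u v := by
  have : Nonempty (Fin n) := ⟨⟨0, by omega⟩⟩
  rw [← map_inv, mul_assoc, mul_assoc, pInvT_mul_pDiag, ← mul_assoc, ← mul_assoc, mul_left_inj,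
    ← map_mul, ← map_mul, eq_comm, ← mul_inv_eq_one, ← map_inv, ← map_mul, ← conj_eq_one_iff
      (a := (pDiag h)⁻¹), ← conj_eq_one_iff (a := pDiag g)]
  simp only [← map_inv, ← map_mul, toBilin'_sim_iff]
  rw [pDiag_eq_one_iff (by simpa), show g * (h⁻¹ * (h * g⁻¹ * glInvT h⁻¹ * g'⁻¹⁻¹) * h⁻¹⁻¹) * g⁻¹ =
    glInvT h⁻¹ * g' * h * g⁻¹ by group]
  refine exists_congr fun c => ⟨fun e => ⟨?_, ?_⟩, fun e => ?_⟩
  · rintro rfl
    exact Units.ne_zero _ (e.trans (zero_smul _ _))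
  · simpa only [Units.val_mul, glInvT_val, inv_inv, smul_mul_assoc, Units.inv_mul_cancel_right,
      one_mul] using congrArg (· * g.1) e
  · simp only [Units.val_mul, glInvT_val, inv_inv, e.2, smul_mul_assoc, Units.mul_inv]

/-- The bilinear form attached to a graph involution. -/
def LRel (x : MulAut PSL(n, F)) (B : (Fin n → F) →ₗ[F] (Fin n → F) →ₗ[F] F) : Prop :=
  ∃ g : GL (Fin n) F, x = pDiag g⁻¹ * pInvT _ F ∧ B = toBilin' g.1 ∧ Good B

theorem sep_toBilin' (g : GL (Fin n) F) : (toBilin' g.1).SeparatingLeft :=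
  (LinearMap.BilinForm.nondegenerate_toBilin'_of_det_ne_zero' _ g.det_ne_zero).1

theorem pGraph_sq_iff (hn : 2 ≤ n) (g : GL (Fin n) F) :
    (pDiag g⁻¹ * pInvT _ F) ^ 2 = 1 ↔ Good (toBilin' g.1) := by
  have : Nonempty (Fin n) := ⟨⟨0, by omega⟩⟩
  rw [sq, mul_assoc, ← mul_assoc (pInvT _ F), pInvT_mul_pDiag, mul_assoc, pInvT_mul_self, mul_one,
    ← map_mul, pDiag_eq_one_iff (by simpa)]
  have k : ∀ {c : F}, (g⁻¹ * glInvT g⁻¹).1 = c • 1 ↔ g.1ᵀ = c • g.1 := fun {c} =>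
    ⟨fun e => by
      simpa only [Units.val_mul, glInvT_val, inv_inv, mul_smul_comm, Units.mul_inv_cancel_left,
        mul_one] using congrArg (g.1 * ·) e, fun e => by
      simp only [Units.val_mul, glInvT_val, inv_inv, e, mul_smul_comm, Units.inv_mul]⟩
  have k2 : ∀ {c : F}, g.1ᵀ = c • g.1 ↔ ∀ u v, toBilin' g.1 v u = c * toBilin' g.1 u v := by
    intro c
    rw [← toBilin'.injective.eq_iff, map_smul, LinearMap.ext_iff₂]
    simp only [toBilin'_apply', LinearMap.smul_apply, smul_eq_mul, dotProduct_mulVec _ g.1ᵀ,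
      vecMul_transpose, dotProduct_comm (g.1 *ᵥ _)]
  simp only [k, k2]
  refine ⟨fun ⟨c, e⟩ => Good.of_skew (sep_toBilin' g) ?_, fun h => h.skew.imp fun c e u v => e.2 v u⟩
  obtain ⟨x, hx⟩ := exists_ne (0 : Fin n → F)
  obtain ⟨y, hy⟩ := not_forall.mp (mt (sep_toBilin' g x) hx)
  exact (mul_self_eq_one_iff.mp (mul_right_cancel₀ hy (show c * c * _ = 1 * _ by
    rw [mul_assoc, ← e, ← e, one_mul]))).imp (fun h u v => by rw [e, h, one_mul])
      fun h u v => by rw [e, h, neg_one_mul]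

theorem lSys (hn : 3 ≤ n) : GSys (inndiagPSL n F)
    (fun x => IsGraphAutClassPSL x ∧ orderOf x = 2) (LRel (F := F) (n := n)) := by
  have h2 : 2 ≤ n := by omega
  rw [inndiagPSL_eq]
  refine ⟨?_, ?_, fun B hB => ?_, ?_, ?_⟩
  · rintro _ ⟨⟨-, _, φ, h4, h5, rfl⟩, h6⟩
    obtain ⟨g, rfl⟩ := isInnerDiagonalAutPSL_iff.mp h4
    obtain rfl := isInverseTransposeAutPSL_iff.mp h5
    exact ⟨_, g⁻¹, rfl, rfl, (pGraph_sq_iff h2 _).mp (h6 ▸ pow_orderOf_eq_one _)⟩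
  · rintro _ _ ⟨g, rfl, rfl, h⟩
    refine ⟨⟨⟨hn, _, _, isInnerDiagonalAutPSL_iff.mpr ⟨_, rfl⟩, isInverseTransposeAutPSL_iff.mpr rfl,
      rfl⟩, orderOf_eq_prime ((pGraph_sq_iff h2 _).mpr h) fun e => ?_⟩, h⟩
    exact pDiag_mul_pField_ne_pInvT (by simpa) g 1 (by
      rw [map_one, mul_one, ← inv_mul_eq_one, ← map_inv, e])
  · have h : (LinearMap.BilinForm.toMatrix' B).det ≠ 0 := by
      convert gram_det_ne_zero (fun _ => rfl) hB.sep (Pi.basisFun F _) using 2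
      ext; simp [gram_apply, LinearMap.BilinForm.toMatrix'_apply]
    exact ⟨_, GeneralLinearGroup.mkOfDetNeZero _ h, rfl, by simp, hB⟩
  · rintro _ _ ⟨g, rfl, rfl, h⟩
    refine isPSim_of_hom (H := (simE (toBilin' g.1)).comap (glEquiv _ F).toMonoidHom)
      (fun _ => Iff.rfl) ((pDiag.comp (Subgroup.subtype _)).codRestrict _ fun k => ⟨⟨_, rfl⟩,
        Subgroup.mem_centralizer_singleton_iff.mpr (eq_mul_inv_iff_mul_eq.mp
          ((pGraph_conj_iff h2 g g k).mpr k.2)).symm⟩) ?_ fun k => ?_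
    · rintro ⟨_, ⟨k, rfl⟩, hk⟩
      exact ⟨⟨k, (pGraph_conj_iff h2 g g k).mp (eq_mul_inv_iff_mul_eq.mpr
        (Subgroup.mem_centralizer_singleton_iff.mp hk).symm)⟩, rfl⟩
    · refine Subtype.ext_iff.trans ((pDiag_eq_one_iff' (by simpa)).trans
        (mem_center_GL_iff'.trans ?_))
      exact Iff.rfl
  · rintro _ _ _ _ ⟨g, rfl, rfl, -⟩ ⟨g', rfl, rfl, -⟩
    constructor
    · rintro ⟨_, ⟨k, rfl⟩, e⟩
      exact ⟨glEquiv _ F k, (pGraph_conj_iff h2 g g' k).mp e⟩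
    · rintro ⟨e, he⟩
      obtain ⟨k, rfl⟩ := (glEquiv _ F).surjective e
      exact ⟨_, ⟨k, rfl⟩, (pGraph_conj_iff h2 g g' k).mpr he⟩

theorem lRel_invT : LRel (pInvT (Fin n) F) (hermB (Fin n) (RingHom.id F)) :=
  ⟨1, by simp, LinearMap.ext₂ fun u v => by simp [hermB_apply, toBilin'_apply', dotProduct],
    hermB_sep _, Or.inl fun x y => by simp [hermB_apply, mul_comm]⟩

theorem split_lgraph [Finite F] (hn : 3 ≤ n) {x : MulAut PSL(n, F)}
    (hx : IsGraphAutClassPSL x ∧ orderOf x = 2) :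
    (Even n ∧ (2 : F) ≠ 0 ∧ Nonempty (↥(inndiagPSL n F ⊓ Subgroup.centralizer {x}) ≃*
      PGSp (n / 2) F) → splitClassCount (inndiagPSL n F) (Inn _) x =
        Nat.gcd (n / 2) (Nat.card F - 1)) ∧
    (Even n ∧ (2 : F) ≠ 0 ∧ ¬ Nonempty (↥(inndiagPSL n F ⊓ Subgroup.centralizer {x}) ≃*
      PGSp (n / 2) F) → splitClassCount (inndiagPSL n F) (Inn _) x =
        Nat.gcd n (Nat.card F - 1) / 2) ∧
    (¬ (Even n ∧ (2 : F) ≠ 0) → splitClassCount (inndiagPSL n F) (Inn _) x =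
      Nat.gcd n (Nat.card F - 1)) := by
  have S := lSys (F := F) hn
  obtain ⟨B, hB⟩ := S.ex x hx
  have h2 : 2 ≤ n := by omega
  rw [← Nat.card_units, ← Subgroup.card_top]
  refine split_abstract (RingHom.id F) ⊤ (fun c a => c ≠ 0 ∧ a = 1) ?_ ?_ ?_ (by simp) trivial
    (fun s => ∃ k, pDiag k ∈ Subgroup.centralizer {x} ∧ GeneralLinearGroup.det k = s)
    (fun s => ?_) (fun T h3 h4 => ?_) (S.good hB).2 (S.cent hB) (by simp) hn
  · rintro c _ ⟨hc, rfl⟩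
    exact ⟨one_ne_zero, ⟨Units.mk0 c hc, trivial⟩, by simp⟩
  · rintro c _ ⟨hc, rfl⟩
    exact ⟨⟨Units.mk0 c (left_ne_zero_of_mul hc), trivial⟩, by simp⟩
  · exact fun u => ⟨u.1, 1, u.1.ne_zero, ⟨u.1.ne_zero, rfl⟩, by simp⟩
  · obtain ⟨g, rfl, rfl, -⟩ := hB
    simp only [Subgroup.mem_centralizer_singleton_iff, ← mul_inv_eq_iff_eq_mul,
      eq_comm (b := pDiag g⁻¹ * _), pGraph_conj_iff h2]
    constructor
    · rintro ⟨k, ⟨c, hc, h5⟩, h6⟩
      exact ⟨glEquiv _ F k, c, 1, hc, h5, ⟨hc, rfl⟩, by simp [det_glEquiv, ← h6]⟩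
    · rintro ⟨e, c, _, hc, h5, ⟨-, rfl⟩, h6⟩
      obtain ⟨k, rfl⟩ := (glEquiv _ F).surjective e
      exact ⟨k, ⟨c, hc, h5⟩, Units.ext (by simpa [det_glEquiv] using h6.symm)⟩
  · rw [inndiagPSL_eq, splitClassCount_PSL (by simpa) x (T.map (Subgroup.subtype _)),
      Fintype.card_fin, Subgroup.index_map_subtype, Subgroup.index_top, mul_one]
    · intro c hc
      obtain ⟨_, ⟨a, rfl⟩, b, hb, e⟩ := Subgroup.mem_sup.mp (h3 ⟨_, trivial⟩ ⟨c, hc, rfl⟩)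
      exact Subgroup.mem_sup.mpr ⟨_, ⟨a.1, rfl⟩, _, ⟨b, hb, rfl⟩, by
        simpa using congrArg Subtype.val e⟩
    · rintro _ ⟨s, hs, rfl⟩
      exact h4 s hs

end Cfsg.Agent.H11
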