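import Mathlib
import Cfsg.Agent.H11.Bal

/-!
# Local balance in orthogonal groups
-/

set_option autoImplicit false

namespace Cfsg.Agent.H11

open Module

variable {F : Type*} [Field F] {F₀ : Type*} [Field F₀] {j : F₀ →+* F}
  {V : Type*} [AddCommGroup V] [Module F V] {B : V →ₗ[F] V →ₗ[F] F} {Q : V → F}

namespace IsQuad

theorem eich_pow (h : IsQuad B Q) {u w : V} (hu : Q u = 0) (huw : B u w = 0) (k : ℕ) :
    h.eich hu huw ^ k = h.eich hu (w := (k : F) • w) (by simp [huw]) := by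
  induction k with
  | zero => simp [h.eich_zero]
  | succ k ih => rw [pow_succ, ih, h.eich_mul]; exact h.eich_congr _ _ _ _ rfl (by simp [add_smul])

theorem eich_weyl_one (h : IsQuad B Q) {u v y : V} (hu : Q u = 0) (hv : Q v = 0) (huv : B u v ≠ 0)
    (h1 : B u y = 0) (h2 : B v y = 0) (hy : Q y ≠ 0) (h3) :
    h.eich hu h1 * h.eich hv (w := (Q y * B u v)⁻¹ • y) h3 * h.eich hu h1 =
      h.reflO y * h.reflO (u + (Q y * B u v)⁻¹ • v) := by
  ext x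
  simp only [Subgroup.coe_mul, LinearEquiv.mul_apply, eich_apply, reflO_apply, map_add, map_sub,
    map_smul, LinearMap.add_apply, LinearMap.smul_apply, smul_eq_mul, h.add', h.smul', h.diag',
    hu, hv, h1, h2, h.refl h1, h.refl h2, h.comm v u]
  match_scalars <;> field_simp <;> ring

theorem eich_weyl_two (h : IsQuad B Q) {u v u' v' : V} (hs : HypSys B Q ![u, v] ![u', v']) (hu)
    (hv) (h1) (h2) (x : V) : (h.eich (u := u) (w := v') hu h1 * h.eich (u := v) (w := -u') hv h2 *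
      h.eich hu h1).1 x = x + (B v' x - B u' x) • u - (B u' x + B v' x) • v +
        (B v x - B u x) • u' - (B u x + B v x) • v' := by
  have a1 := hs.ef 0 0
  have a2 := hs.ef 1 0
  have a3 := hs.ef 1 1
  have a4 := hs.ee 0 1
  have a5 := hs.ff 0 1
  have a6 := hs.Qf 0
  have a7 := hs.Qf 1
  simp at a1 a2 a3 a4 a5 a6 a7
  simp only [Subgroup.coe_mul, LinearEquiv.mul_apply, eich_apply, map_add, map_sub,
    map_smul, map_neg, LinearMap.neg_apply, smul_eq_mul, h.neg, h.diag', hu, hv, h1, a1, a2, a3, a4,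
    a5, a6, a7, h.comm u' u, h.comm u' v, h.comm v' u, h.comm v' v, h.comm v u, h.comm v' u']
  module

theorem exists_two_elt [FiniteDimensional F V] (h : IsQuad B Q) (h2 : (2 : F) ≠ 0) {r : ℕ}
    [Fact r.Prime] [CharP F r] {W : Submodule F V} (hW : NondegOn B W) (hn : 3 ≤ finrank F W)
    {M : Subgroup (Isom B Q)}
    (hM : ∀ u ∈ W, ∀ w ∈ W, ∀ hu huw, ∀ x ∈ M, h.eich (u := u) (w := w) hu huw * x *
      (h.eich hu huw)⁻¹ ∈ M) {m : Isom B Q} (hm : m ∈ M) (hmW : ∀ x, x ∈ W ↔ m.1 x ∈ W) {u : V}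
    (huW : u ∈ W) (hu : Q u = 0) (hc : ∀ c : F, m.1 u ≠ c • u) :
    ∃ g ∈ M, g ^ 4 = 1 ∧ ∀ c : F, g.1 u ≠ c • u := by
  have hr : Odd r := (Fact.out : r.Prime).odd_of_ne_two (by
    rintro rfl; exact h2 (CharP.cast_eq_zero F 2))
  have hv : Q (m.1 u) = 0 := by rw [m.2.2, hu]
  have key : ∀ w ∈ W, ∀ w' ∈ W, ∀ h1 h2, (h.eich (w := w) hu h1 * h.eich (w := w') hv h2 *
      h.eich hu h1) ^ 4 = 1 → h.eich hu h1 * h.eich hv h2 * h.eich hu h1 ∈ M := by
    intro w hw w' hw' h1 h2 h4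
    obtain ⟨w', rfl⟩ := m.1.surjective w'
    have h3 : B u w' = 0 := by rw [← m.2.1, h2]
    rw [← h.conj_eich m hu h3] at h4 ⊢
    refine mem_of_pow_four hr hm (hM u huW w hw _ _) (hM u huW w' ((hmW _).mpr hw') _ _)
      (hM u huW w hw _ _) ?_ h4
    rw [h.eich_mul, h.eich_mul, h.eich_pow]
    simp [h.eich_zero]
  have hvW := (hmW u).mp huW
  have hu0 : u ≠ 0 := by rintro rfl; simpa using hc 0
  generalize m.1 u = v at hc hv key hvW
  have h' : IsQuad _ _ := h.restrict W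
  have hB := nondegOn_iff.mp hW
  by_cases huv : B u v = 0
  · obtain ⟨u', v', hs⟩ := h'.exists_second_pair hB (u := ⟨u, huW⟩) (v := ⟨v, hvW⟩) hu hv huv
      (by simpa) fun c e => hc c (congrArg Subtype.val e)
    have hs' : HypSys B Q ![u, v] ![u', v'] :=
      ⟨by simpa using hs.Qe, by simpa using hs.Qf, by simpa using hs.ee, by simpa using hs.ff,
        by simpa using hs.ef⟩
    have a1 : B u u' = 1 := hs.ef 0 0
    have a2 : B v u' = 0 := hs.ef 1 0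
    have a3 : B v v' = 1 := hs.ef 1 1
    have a4 : B u v' = 0 := hs.ef 0 1
    have a5 : B u' v' = 0 := hs.ff 0 1
    have a6 : Q u' = 0 := hs.Qf 0
    have a7 : Q v' = 0 := hs.Qf 1
    have h3 := h.eich_weyl_two hs' hu hv a4 (by simp [a2])
    have h4 : (h.eich hu a4 * h.eich (w := -u') hv (by simp [a2]) * h.eich hu a4) ^ 4 = 1 := by
      ext x
      simp only [pow_succ, pow_zero, one_mul]
      rw [Subgroup.coe_mul, Subgroup.coe_mul, Subgroup.coe_mul]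
      simp only [LinearEquiv.mul_apply, h3, map_add, map_sub, map_smul, smul_eq_mul, h.diag', hu,
        hv, huv, a1, a2, a3, a4, a5, a6, a7, h.comm u' u, h.comm u' v, h.comm v' u, h.comm v' v,
        h.comm v u, h.comm v' u', OneMemClass.coe_one, LinearEquiv.coe_one, id]
      module
    refine ⟨_, key _ v'.2 _ (neg_mem u'.2) _ _ h4, h4, fun c e => hc (-c) ?_⟩
    rw [neg_smul, ← e, h3]
    simp [h.comm u' u, h.comm v' u, a1, a4, h.diag', hu, h.comm v u, huv]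
  · obtain ⟨y, hy, hy0⟩ := h'.exists_nonsingular_hperp hB hn (e := ⟨u, huW⟩)
      (f := (B u v)⁻¹ • ⟨v, hvW⟩) hu (by simp [h.smul', hv]) (by simp [huv])
    have h3 : B u y = 0 := (mem_hperp.mp hy).1
    have h4 : B v y = 0 := by simpa [huv] using (mem_hperp.mp hy).2
    have h5 := h.eich_weyl_one hu hv huv h3 h4 hy0 (by simp [h4])
    have h6 : (h.reflO y * h.reflO (u + (Q y * B u v)⁻¹ • v)) ^ 4 = 1 := by
      have : Commute (h.reflO y) (h.reflO (u + (Q y * B u v)⁻¹ • v)) := by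
        rw [commute_iff_eq, ← mul_inv_eq_iff_eq_mul, h.conj_reflO, h.reflO_apply]
        simp [h.refl h3, h.refl h4]
      rw [this.mul_pow, show 4 = 2 * 2 from rfl, pow_mul, pow_mul, sq (h.reflO _), sq (h.reflO _),
        h.reflO_mul_self, h.reflO_mul_self]
      simp
    refine ⟨_, h5 ▸ key _ y.2 _ (W.smul_mem _ y.2) _ _ (h5 ▸ h6), h6,
      fun c e => hc (-(c * Q y * B u v)) ?_⟩
    simp [h.reflO_apply, h.add', h.smul', h.diag', hu, hv, h.comm v u, h.refl h3, h.refl h4, huv,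
      hy0] at e
    replace hy0 : Q y ≠ 0 := hy0
    linear_combination (norm := (match_scalars <;> field_simp <;> ring)) (-(Q y * B u v)) • e

variable [FiniteDimensional F V]

theorem exists_move [Finite F] (h : IsQuad B Q) (hB : B.SeparatingLeft) (hex : NonExc B Q)
    (hn : 3 ≤ finrank F V) :
    ∃ m ∈ commutator (Isom B Q), ∃ u, Q u = 0 ∧ ∀ c : F, m.1 u ≠ c • u := by
  obtain ⟨e, he0, he⟩ := h.exists_singular hn
  obtain ⟨f, hf, hef⟩ := h.exists_partner hB he he0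
  obtain ⟨y, hy, hy0⟩ := h.exists_nonsingular_hperp hB hn he hf hef
  rw [mem_hperp] at hy
  refine ⟨_, h.eich_mem_commutator hB hex he hy.1, f, hf, fun c hc => ?_⟩
  simpa [h.eich_apply, h.diag', hf, hy.2, h.refl hy.2, hef, h.comm f e, hy0] using
    congrArg (B f) hc

theorem exists_two_commutator [Finite F] (h : IsQuad B Q) (hB : B.SeparatingLeft)
    (h2 : (2 : F) ≠ 0) (hn : 3 ≤ finrank F V) {M : Subgroup (Isom B Q)}
    (hM : ∀ l ∈ commutator (Isom B Q), ∀ x ∈ M, l * x * l⁻¹ ∈ M) :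
    (∀ g ∈ M, g = 1 ∨ g = h.negI) ∨ ∃ g ∈ M, g ^ 4 = 1 ∧ ∃ u, ∀ c : F, g.1 u ≠ c • u := by
  obtain ⟨r, hr⟩ := CharP.exists F
  have : Fact r.Prime := ⟨CharP.char_is_prime F r⟩
  obtain ⟨e, he0, he⟩ := h.exists_singular hn
  refine or_iff_not_imp_left.mpr fun H => ?_
  obtain ⟨m, hm, H⟩ := not_forall₂.mp H
  obtain ⟨u, hu, H⟩ := not_forall₂.mp (mt (h.eq_of_fix_points hB hn he he0 m) H)
  exact (h.exists_two_elt h2 (r := r) (W := ⊤) (fun x _ hx => hB x fun y => hx y trivial)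
    (by simpa) (fun _ _ _ _ _ _ => hM _ (h.eich_mem_commutator hB
      (h.nonExc_of_two_ne_zero hB h2) _ _)) hm (by simp) trivial hu (not_exists.mp H)).imp
    fun g hg => ⟨hg.1, hg.2.1, u, hg.2.2⟩

theorem fix_of_commute_eich (h : IsQuad B Q) (hB : B.SeparatingLeft) {u w : V} (hu : Q u = 0)
    (huw : B u w = 0) (hw : Q w ≠ 0) {δ : SemiSim B Q}
    (hc : Commute δ (ofIsom B Q (h.eich hu huw))) : ∃ c : F, δ.1.1 u = c • u := by
  obtain ⟨x, h1, h2⟩ := h.exists_perp_not hB (W := Submodule.span F {u}) (x := w) fun hm => by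
    obtain ⟨c, rfl⟩ := Submodule.mem_span_singleton.mp hm
    simp [h.smul', hu] at hw
  exact SemiSim.fix_of_commute hc (x := x) (w := w)
    (by simp [eich_apply, h2, h1 u (Submodule.mem_span_singleton_self u)])
    (h.eich_sub_mem hu huw (Submodule.subset_span (by simp)) (Submodule.subset_span (by simp)))
    (fun a b => by simp [h.add', h.smul', hu, huw, hw]) hu

theorem emb_fix' [Finite F] (h : IsQuad B Q) (hB : B.SeparatingLeft) (hn : 3 ≤ finrank F V)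
    {F' V' : Type*} [Field F'] [AddCommGroup V'] [Module F' V'] {σ : F' →+* F'}
    {B' : V' →ₛₗ[σ] V' →ₗ[F'] F'} {Q' : V' → F'} {j : F →+* F'} {t : V →ₛₗ[j] V'} {μ : F'}
    (ht : ∀ x y, B' (t x) (t y) = μ * j (B x y)) (hμ : μ ≠ 0) (γ : SemiSim B' Q')
    (hγ : ∀ u w, Q u = 0 → B u w = 0 → Q w ≠ 0 → ∃ c : F', γ.1.1 (t u) = c • t u) :
    ∃ a : F'ˣ, (∀ x, γ.1.1 (t x) = (a : F') • t x) ∧ ∀ b, γ.1.2 (j b) = j b := by
  obtain ⟨u, hu0, hu⟩ := h.exists_singular hn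
  obtain ⟨f, hf, huf⟩ := h.exists_partner hB hu hu0
  have h1 := h.finrank_hperp hB hu hf huf
  have : Nontrivial (hperp B u f) := Module.nontrivial_of_finrank_pos (R := F) (by omega)
  obtain ⟨y, hy, hy0⟩ := h.exists_nonsingular_hperp hB hn hu hf huf
  refine h.emb_fix hB ht hμ hu hf huf ⟨⟨y, hy⟩, Q y, hy0, by
    rw [h.Q_coord hu hf huf, sub_self]⟩ γ fun x hx => ?_
  by_cases hx0 : x = 0
  · exact ⟨0, by simp [hx0, SemiSim.map_zero]⟩
  obtain ⟨f, hf, huf⟩ := h.exists_partner hB hx hx0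
  obtain ⟨y, hy, hy0⟩ := h.exists_nonsingular_hperp hB hn hx hf huf
  exact hγ x y hx (mem_hperp.mp hy).1 hy0

end IsQuad

theorem map_commutator_le {G₀ G Γ : Type*} [Group G₀] [Group G] [Group Γ] {f : G₀ →* Γ}
    {i : G →* Γ} (h : f.range ≤ i.range) : (commutator G₀).map f ≤ (commutator G).map i := by
  simp only [commutator_def, Subgroup.map_commutator, ← MonoidHom.range_eq_map]
  exact Subgroup.commutator_mono h h

/-- The semisimilarities induce the full automorphism group of `K`, and `G` the inner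
automorphisms. -/
structure IsBar {σ : F →+* F} {B : V →ₛₗ[σ] V →ₗ[F] F} {Q : V → F} {ε κ : F} {τ : F →+ F}
    (h : IsForm ε κ τ B Q) (G : Subgroup (Isom B Q)) {K : Type*} [Group K]
    (Φ : SemiSim B Q →* MulAut K) : Prop where
  inj : Function.Injective (MulAut.conj : K →* _)
  surj : Function.Surjective Φ
  ker : ∀ γ, Φ γ = 1 ↔ ∃ a, γ = h.semiScal a
  inn : ∀ γ, Φ γ ∈ Inn K ↔ ∃ a, ∃ g ∈ G, γ = h.semiScal a * ofIsom B Q g

theorem IsBar.exists_scal {σ : F →+* F} {B : V →ₛₗ[σ] V →ₗ[F] F} {Q : V → F} {ε κ : F}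
    {τ : F →+ F} {h : IsForm ε κ τ B Q} {G : Subgroup (Isom B Q)} {K : Type*} [Group K]
    {Φ : SemiSim B Q →* MulAut K} (hΦ : IsBar h G Φ) {γ δ : SemiSim B Q}
    (hc : Commute (Φ δ) (Φ γ)) : ∃ c, γ * δ = h.semiScal c * δ * γ :=
  ((hΦ.ker (γ * δ * (δ * γ)⁻¹)).mp (by
    rw [map_mul, map_inv, map_mul, map_mul, hc.eq, mul_inv_cancel])).imp fun c hc => by
    rw [mul_assoc, ← hc, inv_mul_cancel_right]

namespace RForm

variable {V₀ : Type*} [AddCommGroup V₀] [Module F₀ V₀] [FiniteDimensional F₀ V₀]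

section

variable {σ : F →+* F} {σ₀ : F₀ →+* F₀} {B₀ : V₀ →ₛₗ[σ₀] V₀ →ₗ[F₀] F₀} {Q₀ : V₀ → F₀}
  {B : V →ₛₗ[σ] V →ₗ[F] F} {Q : V → F} {t : V₀ →ₛₗ[j] V} {μ : F}
  (H : RForm B₀ Q₀ B Q t μ) (hQ : SpanExt B Q B Q)

/-- Extension of scalars for isometries. -/
noncomputable def isoMap : Isom B₀ Q₀ →* SemiSim B Q :=
  (Sim B Q).subtype.comp ((H.simMap hQ).comp ((ofIsom _ _).codRestrict _ fun _ => rfl))

theorem isoMap_apply (g : Isom B₀ Q₀) (x : V₀) : (H.isoMap hQ g).1.1 (t x) = t (g.1 x) :=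
  H.simMap_apply hQ _ x

theorem isoMap_mem (g : Isom B₀ Q₀) : H.isoMap hQ g ∈ Sim B Q := (H.simMap hQ _).2

theorem range_isoMap {u v : V₀} (huv : B₀ u v ≠ 0) :
    (H.isoMap hQ).range ≤ (ofIsom B Q).range := by
  rintro _ ⟨g, rfl⟩
  exact (exists_eq_ofIsom (H.isoMap_mem hQ g)
    ((H.mult_simMap hQ huv _).trans (by rw [← map_one j, ← mult_ofIsom huv g]; rfl))).imp
    fun _ => Eq.symm

theorem ne_one_isoMap {ε κ : F} {τ : F →+ F} {h : IsForm ε κ τ B Q} {A : Type*} [Group A]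
    {Φ : SemiSim B Q →* A} (hΦ : ∀ γ, Φ γ = 1 ↔ ∃ a, γ = h.semiScal a) {ε₀ κ₀ : F₀}
    {τ₀ : F₀ →+ F₀} (h₀ : IsForm ε₀ κ₀ τ₀ B₀ Q₀) {g : Isom B₀ Q₀} {u : V₀}
    (hu : ∀ c : F₀, g.1 u ≠ c • u) : Φ (H.isoMap hQ g) ≠ 1 := fun e => by
  have : Nontrivial V₀ := ⟨u, 0, by rintro rfl; simpa using hu 0⟩
  obtain ⟨a, e⟩ := (hΦ _).mp e
  obtain ⟨a, e⟩ := H.exists_scal_of_simMap hQ h h₀ e
  exact hu a (congrArg (fun γ : SemiSim B₀ Q₀ => γ.1.1 u) e)

theorem exists_conj_isoMap {ε κ : F} {τ : F →+ F} {h : IsForm ε κ τ B Q} {G : Subgroup (Isom B Q)}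
    {K : Type*} [Group K] {Φ : SemiSim B Q →* MulAut K} (hΦ : IsBar h G Φ) {γ : SemiSim B Q}
    (hj : ∀ a, γ.1.2 a = a ↔ ∃ b, j b = a) (ht : ∀ x, γ.1.1 (t x) = t x) {u v : V₀}
    (huv : B₀ u v ≠ 0) {k : SemiSim B Q} (hk : Φ k ∈ Inn K) (hc : Commute (Φ k) (Φ γ)) :
    ∃ δ : Sim B₀ Q₀, Φ k = Φ (H.simMap hQ δ) ∧
      ∀ g, k * H.isoMap hQ g * k⁻¹ = H.isoMap hQ (semiConj _ _ δ g) := by
  obtain ⟨a, g, -, e⟩ := (hΦ.inn k).mp hk
  obtain ⟨c, hc⟩ := hΦ.exists_scal hc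
  obtain ⟨a, δ, e⟩ := H.exists_eq_simMap hQ hj ht h huv (δ := ⟨k, e ▸ rfl⟩) hc
  obtain rfl : k = _ := e
  refine ⟨δ, by simp [(hΦ.ker _).mpr ⟨a, rfl⟩], fun g => ?_⟩
  have : H.isoMap hQ (semiConj _ _ δ g) = H.simMap hQ δ * H.isoMap hQ g * (H.simMap hQ δ)⁻¹ :=
    (congrArg (fun δ => (H.simMap hQ δ).1) (Subtype.ext (ofIsom_semiConj δ.1 g) :
      (⟨ofIsom _ _ _, rfl⟩ : Sim B₀ Q₀) = δ * ⟨ofIsom _ _ g, rfl⟩ * δ⁻¹)).trans (by simp; rfl)
  rw [mul_inv_eq_iff_eq_mul, ← mul_assoc, ← (h.commute_semiScal (H.isoMap_mem hQ _) a).eq, this]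
  simp [mul_assoc]

end

variable {B₀ : V₀ →ₗ[F₀] V₀ →ₗ[F₀] F₀} {Q₀ : V₀ → F₀} {t : V₀ →ₛₗ[j] V} {μ : F}
  (H : RForm B₀ Q₀ B Q t μ) (h : IsQuad B Q)

theorem isoMap_eich (h₀ : IsQuad B₀ Q₀) {u w : V₀} (hu : Q₀ u = 0) (huw : B₀ u w = 0) :
    H.isoMap (h.spanExt h) (h₀.eich hu huw) = ofIsom B Q (h.eich (u := t u) (w := μ⁻¹ • t w)
      (by simp [H.hQ, hu]) (by simp [H.hB, huw])) :=
  H.simMap_eq (h.spanExt h) rfl fun x => by
    have := H.ne
    change _ = t ((h₀.eich hu huw).1 x)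
    simp only [ofIsom_apply, IsQuad.eich_apply, map_add, map_sub, t.map_smulₛₗ, map_smul, H.hB,
      H.hQ, h.smul', LinearMap.smul_apply, smul_eq_mul, map_mul]
    match_scalars <;> field_simp

variable [Finite F] [FiniteDimensional F V] (hB : B.SeparatingLeft) (hn : 5 ≤ finrank F V)
  {K : Type*} [Group K] {Φ : SemiSim B Q →* MulAut K} (hΦ : IsBar h (commutator _) Φ)
  {γ : SemiSim B Q} (hj : ∀ a, γ.1.2 a = a ↔ ∃ b, j b = a) (ht : ∀ x, γ.1.1 (t x) = t x)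
include H hB hn hΦ

omit [Finite F] [FiniteDimensional F V] in
theorem isoMap_mem_inn {g : Isom B₀ Q₀} (hg : g ∈ commutator _) :
    Φ (H.isoMap (h.spanExt h) g) ∈ Inn K := by
  obtain ⟨u, v, huv⟩ := IsQuad.exists_B_ne_zero (H.sep₀ hB) (by rw [H.rank]; omega)
  obtain ⟨g, hg, e⟩ := map_commutator_le (H.range_isoMap (h.spanExt h) huv) ⟨g, hg, rfl⟩
  exact (hΦ.inn _).mpr ⟨1, g, hg, by simp [e]⟩

include ht

theorem exists_fixed_inn : ∃ k ∈ Inn K, k ≠ 1 ∧ Commute k (Φ γ) := by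
  have := Finite.of_injective _ j.injective
  have := H.rank
  obtain ⟨m, hm, u, -, hu⟩ := (H.isQuad h).exists_move (H.sep₀ hB)
    ((H.isQuad h).nonExc_of_finrank (H.sep₀ hB) (by omega)) (by omega)
  exact ⟨_, H.isoMap_mem_inn h hB hn hΦ hm, H.ne_one_isoMap _ hΦ.ker (H.isQuad h) hu,
    (H.commute_simMap (h.spanExt h) ht _).map Φ⟩

include hj

theorem bal {p r : ℕ} [Fact p.Prime] [Fact r.Prime] [CharP F r] (hpr : p ≠ r)
    (hp : orderOf γ.1.2 = p) (hy : p = 2 ∨ ∃ y ∈ Inn K, Commute y (Φ γ) ∧ orderOf y = p) :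
    H10.Bal p (Φ γ) := by
  have := Finite.of_injective _ j.injective
  have := H.rank
  have h₀ := H.isQuad h
  have hB₀ := H.sep₀ hB
  have hex := h₀.nonExc_of_finrank hB₀ (by omega)
  have := Module.nontrivial_of_finrank_pos (R := F) (M := V) (by omega)
  obtain ⟨u, v, huv⟩ := IsQuad.exists_B_ne_zero hB₀ (by omega)
  obtain ⟨y, hy1, hy2⟩ : ∃ a ∈ (commutator _).map (H.isoMap (h.spanExt h)), orderOf (Φ a) = p := by
    rcases (Fact.out : p.Prime).eq_two_or_odd' with rfl | ho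
    · obtain ⟨m, hm, u, -, hu⟩ := h₀.exists_move hB₀ hex (by omega)
      obtain ⟨g, hg, h4, u, hu⟩ := (h₀.exists_two_commutator hB₀ (two_ne_zero_of_map j fun h2 =>
        hpr (CharP.eq F ((CharP.charP_iff_prime_eq_zero Nat.prime_two).2 h2) ‹_›)) (by omega)
        (M := commutator _) fun l _ x hx => Subgroup.Normal.conj_mem inferInstance x hx l).resolve_left
          fun e => (e m hm).elim (fun e => hu 1 (by simp [e])) fun e => hu (-1) (by simp [e])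
      exact exists_orderOf_two Φ ⟨g, hg, rfl⟩ (H.ne_one_isoMap _ hΦ.ker h₀ hu)
        (by rw [← map_pow, ← map_pow, h4, map_one, map_one])
    obtain ⟨y, h1, h2, h3⟩ := hy.resolve_left (by rintro rfl; exact absurd ho (by decide))
    obtain ⟨y, rfl⟩ := hΦ.surj y
    obtain ⟨δ, e, -⟩ := H.exists_conj_isoMap (h.spanExt h) hΦ hj ht huv h1 h2
    obtain ⟨a, g, e'⟩ := h₀.exists_eq_scal_mul' hB₀ (by omega) (δ * δ).2
      ⟨_, by rw [Subgroup.coe_mul, SemiSim.mult_mul huv, mem_Sim.mp δ.2]; rfl⟩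
    refine ⟨_, ⟨_, h₀.mul_self_mem_commutator hB₀ hex g, rfl⟩, ?_⟩
    have : Φ (H.isoMap (h.spanExt h) g) = Φ y * Φ y := by
      rw [e, ← map_mul, ← Subgroup.coe_mul, ← map_mul, show δ * δ = ⟨h₀.semiScal a, rfl⟩ *
        ⟨ofIsom _ _ g, rfl⟩ from Subtype.ext e', map_mul, Subgroup.coe_mul, map_mul,
        (hΦ.ker _).mpr ⟨_, H.simMap_scal (h.spanExt h) h h₀ rfl⟩, one_mul]; rfl
    rw [map_mul, map_mul, this, ← sq, ← sq, ← pow_mul, Nat.Coprime.orderOf_pow, h3]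
    exact h3 ▸ (Nat.coprime_two_right.mpr ho).pow_right 2
  refine bal_of_sub hΦ.inj hΦ.surj ((commutator _).map (H.isoMap (h.spanExt h))) ?_ ?_
    (fun M hM hN => ?_) (fun k h1 h2 => ?_) fun θ hθ => ⟨1, ?_⟩
  · rintro _ ⟨g, hg, rfl⟩
    exact H.isoMap_mem_inn h hB hn hΦ hg
  · rintro _ ⟨g, -, rfl⟩
    exact H.commute_simMap (h.spanExt h) ht _
  · refine (h₀.normal_commutator_cases hB₀ (by omega) ((M.comap (H.isoMap (h.spanExt h))).subgroupOf _)
      ⟨fun a ha l => by simpa [Subgroup.mem_subgroupOf] using hN _ ⟨l, l.2, rfl⟩ _ ha⟩).imp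
      (fun e a ha => ?_) fun e => ⟨y, ?_, hy2⟩
    · obtain ⟨g, hg, rfl⟩ := hM ha
      refine (hΦ.ker _).mpr ?_
      rcases (h₀.mem_center_commutator_iff hB₀ hex (by omega) _).mp (e (x := ⟨g, hg⟩) ha) with e | e
      · exact ⟨1, by simp [show g = 1 from e]⟩
      · exact ⟨_, H.simMap_scal (h.spanExt h) h h₀ ((congrArg (ofIsom _ _) e).trans h₀.ofIsom_negI)⟩
    · obtain ⟨g, hg, rfl⟩ := hy1
      exact e.ge (x := ⟨g, hg⟩) trivial
  · obtain ⟨δ, -, e⟩ := H.exists_conj_isoMap (h.spanExt h) hΦ hj ht huv h1 h2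
    rintro _ ⟨g, hg, rfl⟩
    exact ⟨_, semiConj_mem_commutator _ g hg, (e g).symm⟩
  · rw [pow_one, ← hp]
    refine H.pow_eq_scal h hΦ.ker hj (h₀.emb_fix' hB₀ (by omega) H.hB H.ne θ fun u w hu huw hw => ?_)
    have := hθ _ ⟨_, h₀.eich_mem_commutator hB₀ hex hu huw, rfl⟩
    rw [H.isoMap_eich h h₀] at this
    exact h.fix_of_commute_eich hB _ _ (by simp [h.smul', H.hQ, H.ne, hw])
      (h.commute_of_unip hΦ.ker rfl (k := 2) (by
        rw [← map_pow, unipRad_pow (h.eich_mem_unipRad _ _), map_one]) this)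

end RForm

theorem IsForm.isBar {σ : F →+* F} {B : V →ₛₗ[σ] V →ₗ[F] F} {Q : V → F} {ε κ : F} {τ : F →+ F}
    (h : IsForm ε κ τ B Q) {G : Subgroup (Isom B Q)} {M : Type*} [Group M] {e : M ≃* G}
    {hG : ∀ γ, ∀ g ∈ G, semiConj B Q γ g ∈ G}
    (hker : ∀ γ, semiBar G hG γ = 1 → ∃ a, γ = h.semiScal a)
    (hs : Function.Surjective (matBar e hG)) : IsBar h G (matBar e hG) := by
  refine ⟨(injective_iff_map_eq_one _).2 fun x hx => ?_, hs, fun γ => ⟨fun H => hker γ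
    (matBar_eq_one.mp H), fun ⟨a, ha⟩ => ha ▸ h.matBar_semiScal a⟩, fun _ => h.matBar_mem_inn hker⟩
  obtain ⟨s, rfl⟩ := QuotientGroup.mk_surjective x
  obtain ⟨a, ha⟩ := hker _ (matBar_eq_one.mp ((matBar_ofIsom (e := e) s).trans hx))
  refine (QuotientGroup.eq_one_iff s).mpr ((mem_center_equiv e s).mpr
    (Subgroup.mem_center_iff.mpr fun g => Subtype.ext (ofIsom_injective ?_)))
  simp only [Subgroup.coe_mul, map_mul, ha, h.semiScal_comm]

section matrices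

variable [Finite F] {ι : Type} [Fintype ι] [DecidableEq ι]
  {B : (ι → F) →ₗ[F] (ι → F) →ₗ[F] F} {Q : (ι → F) → F} (h : IsQuad B Q) (hB : B.SeparatingLeft)
include hB

theorem IsQuad.isBar_oBar (hn : 5 ≤ Fintype.card ι) (hs : Function.Surjective h.oBar) :
    IsBar h (commutator _) h.oBar := h.isBar (h.eq_semiScal hB (by simpa)) hs

theorem IsQuad.balance_field (hn : 5 ≤ finrank F (ι → F)) {K : Type*} [Group K] [Finite K]
    {Φ : SemiSim B Q →* MulAut K} (hΦ : IsBar h (commutator _) Φ) {γ : SemiSim B Q}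
    (h1 : γ.1.2 ≠ 1) {p r : ℕ} [hp : Fact p.Prime] [Fact r.Prime] [CharP F r] (hpr : p ≠ r)
    (hk : orderOf (Φ γ) = p) {A : Subgroup (MulAut K)} (hinn : ∀ k, MulAut.conj k ∈ A) {P : Prop}
    (hP : P ∨ p = 2) : pPrimeCore p ↥(A ⊓ Subgroup.centralizer {Φ γ}) ≠ ⊥ ↔
      P ∧ p.Coprime (Nat.card ((Φ γ).toMonoidHom.eqLocus (MonoidHom.id K))) := by
  have hk' := hk ▸ pow_orderOf_eq_one (Φ γ)
  obtain ⟨c, t, μ, B₀, Q₀, H, ht⟩ := h.exists_rform hB hΦ.ker h1 hp.out (by omega) hk' (fixS_iff _)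
  have e : Φ γ = Φ (h.semiScal c * γ) := by simp [(hΦ.ker _).mpr ⟨c, rfl⟩]
  have hB' := H.bal h hB hn hΦ (γ := h.semiScal c * γ) (fixS_iff _) ht hpr
    (h.orderOf_field hΦ.ker h1 hp.out hk')
  rw [e]
  exact balance_iff' hΦ.inj hinn (H.exists_fixed_inn h hB hn hΦ ht)
    (fun y a b c => hB' (.inr ⟨y, a, b, c⟩)) (hP.imp_right fun h2 => hB' (.inl h2))

end matrices

end Cfsg.Agent.H11
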