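import Mathlib
import Cfsg.Agent.H11.OBal
import Cfsg.Agent.H11.LGraph

/-!
# Tools for local balance in linear and unitary groups
-/

set_option autoImplicit false

namespace Cfsg.Agent.H11

open Module

section groups

variable {Γ K : Type*} [Group Γ] [Group K] {p : ℕ}

/-- The data deciding local balance at `x`. -/
def BalD (p : ℕ) (x : MulAut K) : Prop :=
  (∃ k ∈ Inn K, k ≠ 1 ∧ Commute k x) ∧
    ((p = 2 ∨ ∃ y ∈ Inn K, Commute y x ∧ orderOf y = p) → H10.Bal p x)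

theorem conj_mem_inn (α : MulAut K) {k : MulAut K} (hk : k ∈ Inn K) : α * k * α⁻¹ ∈ Inn K := by
  obtain ⟨y, rfl⟩ := hk
  exact ⟨α y, MulEquiv.ext fun z => by simp⟩

theorem BalD.conj {x : MulAut K} (h : BalD p x) (α : MulAut K) : BalD p (α * x * α⁻¹) := by
  obtain ⟨⟨k, h1, h2, h3⟩, h4⟩ := h
  refine ⟨⟨_, conj_mem_inn α h1, by simpa using h2, h3.map (MulAut.conj α).toMonoidHom⟩,
    fun H => (h4 (H.imp_right fun ⟨y, a, b, c⟩ => ⟨_, conj_mem_inn α⁻¹ a, ?_, ?_⟩)).conj α⟩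
  · simpa [mul_assoc] using b.map (MulAut.conj α⁻¹).toMonoidHom
  · exact (MulAut.conj α⁻¹).orderOf_eq y ▸ c

theorem BalD.balance [Finite K] [Fact p.Prime] (hZ : Function.Injective (MulAut.conj : K →* _))
    {A : Subgroup (MulAut K)} (hinn : ∀ k, MulAut.conj k ∈ A) {x : MulAut K} (h : BalD p x)
    {P : Prop} (hP : P ∨ p = 2) : pPrimeCore p ↥(A ⊓ Subgroup.centralizer {x}) ≠ ⊥ ↔
      P ∧ p.Coprime (Nat.card (x.toMonoidHom.eqLocus (MonoidHom.id K))) :=
  balance_iff' hZ hinn h.1 (fun y a b c => h.2 (.inr ⟨y, a, b, c⟩))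
    (hP.imp_right fun h2 => h.2 (.inl h2))

/-- The nontrivial normal subgroups of the image of `L` have elements of order `p`. -/
def NormP {A : Type*} [Group A] (Ψ : Γ →* A) (L : Subgroup Γ) (p : ℕ) : Prop :=
  (∃ l ∈ L, Ψ l ≠ 1) ∧ ((p = 2 ∨ ∃ y, orderOf (Ψ y) = p) → ∀ M ≤ L,
    (∀ l ∈ L, ∀ a ∈ M, l * a * l⁻¹ ∈ M) → (∀ a ∈ M, Ψ a = 1) ∨ ∃ a ∈ M, orderOf (Ψ a) = p)

theorem balD_of_hom (hZ : Function.Injective (MulAut.conj : K →* _)) (Ψ : Γ →* MulAut K)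
    (L : Subgroup Γ) [hN : L.Normal] {x : MulAut K} (hL : ∀ l ∈ L, Ψ l ∈ Inn K)
    (h1 : ∀ g, Commute (Ψ g) x) (h3 : ∀ k ∈ Inn K, Commute k x → k ∈ Ψ.range) (h2 : NormP Ψ L p)
    (h4 : ∀ θ, (∀ l ∈ L, Commute θ (Ψ l)) → ∃ n, θ ^ p ^ n = 1) : BalD p x := by
  obtain ⟨⟨l, hl, h0⟩, h2⟩ := h2
  refine ⟨⟨_, hL l hl, h0, h1 l⟩, fun H => bal_of_sub (Φ := MonoidHom.id _) hZ
    Function.surjective_id (L.map Ψ) ?_ ?_ (fun M hM hn => ?_) ?_
      fun θ hθ => h4 θ fun l hl => hθ _ ⟨l, hl, rfl⟩⟩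
  · rintro _ ⟨l, hl, rfl⟩
    exact hL l hl
  · rintro _ ⟨l, -, rfl⟩
    exact h1 l
  · refine (h2 (H.imp_right fun ⟨y, a, b, c⟩ => (h3 y a b).imp fun _ e => (congrArg _ e).trans c)
      (M.comap Ψ ⊓ L) inf_le_right fun l hl a ha => ⟨by simpa using hn _ ⟨l, hl, rfl⟩ _ ha.1,
        hN.conj_mem _ ha.2 _⟩).imp (fun e a ha => ?_) fun ⟨a, ha, e⟩ => ⟨_, ha.1, e⟩
    obtain ⟨l, hl, rfl⟩ := hM ha
    exact e l ⟨ha, hl⟩
  · rintro k a b _ ⟨l, hl, rfl⟩
    obtain ⟨g, rfl⟩ := h3 k a b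
    exact ⟨_, hN.conj_mem l hl g, by simp⟩

end groups

section semilinear

variable {F F₀ : Type*} [Field F] [Field F₀] {j : F₀ →+* F} {V V₀ : Type*} [AddCommGroup V]
  [Module F V] [AddCommGroup V₀] [Module F₀ V₀] {t : V₀ →ₛₗ[j] V} {σ : F →+* F}
  {B : V →ₛₗ[σ] V →ₗ[F] F} {Q : V → F} {γ : SemiSim B Q} {σ₀ : F₀ →+* F₀}
  {B₀ : V₀ →ₛₗ[σ₀] V₀ →ₗ[F₀] F₀} {Q₀ : V₀ → F₀}

/-- `t` identifies `V₀` with a rational structure on `V`. -/
structure Emb (t : V₀ →ₛₗ[j] V) : Prop where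
  span : Submodule.span F (Set.range t) = ⊤
  ext : ∀ φ₀ : V₀ →ₗ[F₀] F₀, ∃ φ : V →ₗ[F] F, ∀ x, φ (t x) = j (φ₀ x)

theorem RForm.emb [FiniteDimensional F₀ V₀] {μ : F} (H : RForm B₀ Q₀ B Q t μ) : Emb t :=
  ⟨H.span, fun φ₀ => H.exists_ext (j.toSemilinearMap.comp φ₀)⟩

theorem Emb.eq_zero (E : Emb t) {x : V₀} (hx : t x = 0) : x = 0 :=
  (forall_dual_apply_eq_zero_iff F₀ x).mp fun φ₀ => by
    obtain ⟨φ, h⟩ := E.ext φ₀
    simpa [hx] using (h x).symm

/-- `γ` commutes with the extension of `g`. -/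
def Cmt (t : V₀ →ₛₗ[j] V) (γ : SemiSim B Q) (g : Module.End F₀ V₀) : Prop :=
  ∃ g' : Module.End F V, (∀ x, g' (t x) = t (g x)) ∧ ∀ v, γ.1.1 (g' v) = g' (γ.1.1 v)

theorem Cmt.sub_one {g : Module.End F₀ V₀} (h : Cmt t γ g) : Cmt t γ (g - 1) := by
  obtain ⟨g', h1, h2⟩ := h
  exact ⟨g' - 1, fun x => by simp [h1], fun v => by simp [SemiSim.map_sub, h2]⟩

theorem Cmt.mul {g k : Module.End F₀ V₀} (h : Cmt t γ g) (h' : Cmt t γ k) : Cmt t γ (g * k) := by
  obtain ⟨g', h1, h2⟩ := h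
  obtain ⟨k', h3, h4⟩ := h'
  exact ⟨g' * k', fun x => by simp [h1, h3], fun v => by simp [h2, h4]⟩

theorem Cmt.fix {g : Module.End F₀ V₀} (h : Cmt t γ g) (E : Emb t) {u x : V₀} (hx : g x = u)
    (hr : ∀ y, ∃ c : F₀, g y = c • u) : ∃ c : F, γ.1.1 (t u) = c • t u := by
  obtain ⟨g', h1, h2⟩ := h
  have : ⊤ ≤ (Submodule.span F {t u}).comap g' := E.span ▸ Submodule.span_le.mpr (by
    rintro _ ⟨y, rfl⟩
    obtain ⟨c, hc⟩ := hr y
    exact Submodule.mem_span_singleton.mpr ⟨j c, by rw [h1, hc, t.map_smulₛₗ]⟩)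
  exact (Submodule.mem_span_singleton.mp (this (x := γ.1.1 (t x)) trivial)).imp fun c hc => by
    rw [hc, ← h2, h1, hx]

/-- `γ` is scalar on the rational vectors. -/
def Fixes (t : V₀ →ₛₗ[j] V) (γ : SemiSim B Q) : Prop :=
  ∃ a : Fˣ, (∀ x, γ.1.1 (t x) = (a : F) • t x) ∧ ∀ b, γ.1.2 (j b) = j b

theorem Emb.fixes_all (E : Emb t) (hn : 2 ≤ finrank F₀ V₀)
    (hγ : ∀ x, ∃ c : F, γ.1.1 (t x) = c • t x) : Fixes t γ := by
  have := Module.nontrivial_of_finrank_pos (R := F₀) (M := V₀) (by omega)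
  obtain ⟨x, hx⟩ := exists_ne (0 : V₀)
  obtain ⟨a, ha⟩ := hγ x
  have hx' : t x ≠ 0 := mt E.eq_zero hx
  have ha0 : a ≠ 0 := by rintro rfl; simp [SemiSim.map_eq_zero, hx'] at ha
  have key : ∀ z ∉ Submodule.span F₀ {x}, γ.1.1 (t z) = a • t z := fun z hz => by
    obtain ⟨φ₀, h1, h2⟩ := Submodule.exists_dual_map_eq_bot_of_notMem hz inferInstance
    obtain ⟨φ, hφ⟩ := E.ext φ₀
    obtain ⟨d, hd⟩ := hγ z
    obtain ⟨e, he⟩ := hγ (x + z)
    rw [map_add, SemiSim.map_add, ha, hd] at he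
    have h3 : φ₀ x = 0 := h2.le ⟨x, Submodule.mem_span_singleton_self x, rfl⟩
    obtain rfl : d = e := by simpa [hφ, h3, h1] using congrArg φ he
    rw [hd, smul_left_injective F hx' (show a • t x = d • t x by simpa using he)]
  obtain ⟨y, hy⟩ : ∃ y, y ∉ Submodule.span F₀ {x} := by
    by_contra H
    push Not at H
    have := finrank_span_singleton (K := F₀) hx
    rw [Submodule.eq_top_iff'.mpr H, finrank_top] at this
    omega
  have hρ : ∀ s, γ.1.2 (j s) = j s := fun s => by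
    by_cases hs : s = 0
    · simp [hs]
    have := key (s • y) (by rwa [Submodule.smul_mem_iff _ hs])
    rw [t.map_smulₛₗ, SemiSim.map_smul, key y hy, smul_comm a, smul_smul, smul_smul] at this
    exact mul_right_cancel₀ ha0 (smul_left_injective F
      (mt E.eq_zero (by rintro rfl; exact hy (zero_mem _))) this)
  refine ⟨Units.mk0 a ha0, fun z => ?_, hρ⟩
  by_cases hz : z ∈ Submodule.span F₀ {x}
  · obtain ⟨s, rfl⟩ := Submodule.mem_span_singleton.mp hz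
    rw [t.map_smulₛₗ, SemiSim.map_smul, ha, hρ, smul_comm, Units.val_mk0]
  · exact key z hz

theorem Emb.fixes {κ₀ : F₀} {τ₀ : F₀ →+ F₀} (E : Emb t) (h : IsForm 1 κ₀ τ₀ B₀ Q₀)
    (h2 : (2 : F) ≠ 0) {u f : V₀} (hu : Q₀ u = 0) (hf : Q₀ f = 0) (huf : B₀ u f = 1)
    [Nontrivial (hperp B₀ u f)]
    (hc : ∃ (w : hperp B₀ u f) (c : F₀), c ≠ 0 ∧ Q₀ (f - w - c • u) = 0)
    (hγ : ∀ x, Q₀ x = 0 → ∃ c : F, γ.1.1 (t x) = c • t x) : Fixes t γ := by
  obtain ⟨a, ha⟩ := hγ u hu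
  obtain ⟨b, hb⟩ := hγ f hf
  have ha0 : a ≠ 0 := by rintro rfl; simp [SemiSim.map_eq_zero] at ha; simp [E.eq_zero ha] at huf
  have hb0 : b ≠ 0 := by rintro rfl; simp [SemiSim.map_eq_zero] at hb; simp [E.eq_zero hb] at huf
  obtain ⟨φ, hφ⟩ := E.ext (B₀ u)
  obtain ⟨ψ, hψ⟩ := E.ext (B₀ f)
  have key : ∀ (w : hperp B₀ u f) (c : F₀), Q₀ (f - w - c • u) = 0 →
      γ.1.1 (t w) = b • t w ∧ γ.1.2 (j c) * a = b * j c := fun w c hc => by
    obtain ⟨d, hd⟩ := hγ _ hc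
    obtain ⟨d', hd'⟩ := hγ (f - -w - c • u) (by
      rw [← hc]
      simp [h.sub, h.neg, mem_hperp.mp w.2, h.refl (mem_hperp.mp w.2).1, -sub_neg_eq_add])
    rw [map_sub t, map_sub t, t.map_smulₛₗ, SemiSim.map_sub, SemiSim.map_sub, SemiSim.map_smul, ha,
      hb] at hd hd'
    rw [map_neg, SemiSim.map_neg] at hd'
    have e := congrArg₂ (· + ·) hd hd'
    have e3 := congrArg φ e
    have e4 := congrArg ψ e
    simp [hφ, hψ, huf, h.flip_one huf, h.diag_zero hu, h.diag_zero hf, mem_hperp.mp w.2] at e3 e4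
    have e5 : γ.1.2 (j c) * a = b * j c := mul_left_cancel₀ h2 (by
      linear_combination -e4 - j c * e3)
    have e6 : (d - d') • t w = 0 := by
      linear_combination (norm := module) e - e3 • t f - e4 • t u
    refine ⟨?_, e5⟩
    rcases smul_eq_zero.mp e6 with e6 | e6
    · obtain rfl : b = d := mul_left_cancel₀ h2 (by linear_combination e3 - e6)
      linear_combination (norm := module) -hd - e5 • t u
    · rw [e6, SemiSim.map_zero, smul_zero]
  have hw : ∀ w : hperp B₀ u f, γ.1.1 (t w) = b • t w := fun w =>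
    (key w _ (h.exists_valid hu huf w).choose_spec).1
  obtain ⟨x, hx⟩ := exists_ne (0 : hperp B₀ u f)
  have hρ : ∀ s, γ.1.2 (j s) = j s := fun s => by
    have := hw (s • x)
    rw [Submodule.coe_smul, t.map_smulₛₗ, SemiSim.map_smul, hw, smul_comm b, smul_smul,
      smul_smul] at this
    exact mul_right_cancel₀ hb0 (smul_left_injective F (fun e => hx (by simpa using E.eq_zero e))
      this)
  obtain ⟨w, c, hc0, hc⟩ := hc
  obtain rfl : a = b := mul_left_cancel₀ ((map_ne_zero j).mpr hc0)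
    (by simpa [hρ, mul_comm b] using (key w c hc).2)
  refine ⟨Units.mk0 a ha0, fun x => ?_, hρ⟩
  obtain ⟨c, y, h1, h2, h3⟩ := h.exists_decomp_pair hu hf huf x
  rw [h3]
  simp only [map_add, t.map_smulₛₗ, SemiSim.map_add, SemiSim.map_smul, ha, hb, hρ,
    hw ⟨y, mem_hperp.mpr ⟨h1, h2⟩⟩, Units.val_mk0]
  module

end semilinear

section forms

variable {K V : Type*} [Field K] [AddCommGroup V] [Module K V] [Finite K] [FiniteDimensional K V]
  {F W : Type*} [Field F] [AddCommGroup W] [Module F W] {j : K →+* F} {t : V →ₛₗ[j] W}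
  {σ' : F →+* F} {B' : W →ₛₗ[σ'] W →ₗ[F] F} {Q' : W → F} {γ : SemiSim B' Q'}
  {A : Type*} [Group A] {r : ℕ} [Fact r.Prime] [CharP K r]

section bilinear

variable {B : V →ₗ[K] V →ₗ[K] K} (h : Good B) (h2 : (2 : K) ≠ 0) (hn : 3 ≤ finrank K V)
include h h2 hn

theorem Good.two_cases (I : Subgroup (V ≃ₗ[K] V)) (hI : I = H10.isomGroup B) :
    (∃ m ∈ commutator I, ∃ u, ∀ c : K, m.1 u ≠ c • u) ∧ ∀ M : Subgroup I,
      (∀ l ∈ commutator I, ∀ a ∈ M, l * a * l⁻¹ ∈ M) → (∀ g ∈ M, ∃ c : K, ∀ x, g.1 x = c • x) ∨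
        ∃ g ∈ M, g ^ 4 = 1 ∧ ∃ u, ∀ c : K, g.1 u ≠ c • u := by
  rcases h.symm with hS | hA
  · obtain rfl : I = Isom B fun x => B x x / 2 := hI.trans (Subgroup.ext fun g =>
      ⟨fun H => ⟨H, fun x => congrArg (· / 2) (H x x)⟩, fun H => H.1⟩)
    have hQ := IsQuad.of_symm h2 hS
    obtain ⟨m, hm, u, -, hu⟩ := hQ.exists_move h.sep (hQ.nonExc_of_two_ne_zero h.sep h2) hn
    exact ⟨⟨m, hm, u, hu⟩, fun M hM => (hQ.exists_two_commutator h.sep h2 hn hM).imp_left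
      fun e g hg => (e g hg).elim (fun e => ⟨1, by simp [e]⟩) fun e => ⟨-1, by simp [e]⟩⟩
  subst hI
  have hB := alt_nondeg h.sep hA
  replace hA : LinearMap.BilinForm.IsAlt B := hA
  have := H10.even_finrank_of_alt hB hA
  have hc := H10.commutator_isom_eq_top_of_two_ne_zero hB hA h2 (by grind)
  have := Module.nontrivial_of_finrank_pos (R := K) (M := V) (by omega)
  obtain ⟨u, hu⟩ := exists_ne (0 : V)
  obtain ⟨f, hf⟩ := (isForm_alt hA).exists_right_eq_one h.sep hu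
  have hf' : B f u = -1 := by rw [← hA.neg_eq, hf]
  obtain ⟨w, hw⟩ : ∃ w : H10.isomGroup B, ∀ x,
      w.1 x = x + (B x u - B x f) • u + (B x f + B x u) • f :=
    ⟨H10.tv hA u 1 * H10.tv hA f 1 * H10.tv hA u 1, fun x => by
      simp only [H10.isom_mul_apply, H10.tv_apply, map_add, map_smul, LinearMap.add_apply,
        LinearMap.smul_apply, smul_eq_mul, hf, hf', hA.self_eq_zero]
      module⟩
  have h3 : ∀ c : K, w.1 u ≠ c • u := fun c e => by
    simpa [hw, hf, hA.self_eq_zero] using congrArg (B u) e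
  refine ⟨⟨w, hc ▸ trivial, u, h3⟩, fun M hM => ?_⟩
  have : M.Normal := ⟨fun a ha l => hM l (hc ▸ trivial) a ha⟩
  refine (H10.normal_isom_le_center_or hB hA M).imp (fun e g hg => ?_)
    fun e => ⟨w, e (hc ▸ trivial), H10.isom_ext fun x => ?_, u, h3⟩
  · exact ((H10.mem_center_isom_iff hB hA g).mp (e hg)).elim (fun e => ⟨1, by simp [e]⟩)
      fun e => ⟨-1, by simp [e, H10.negIsom_apply]⟩
  · simp only [pow_succ, pow_zero, one_mul, H10.isom_mul_apply, hw, map_add, map_smul,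
      LinearMap.add_apply, LinearMap.smul_apply, smul_eq_mul, hf, hf', hA.self_eq_zero,
      H10.isom_one_apply]
    module

theorem Good.normP (Ψ : simE B →* A) (hΨ : ∀ g, Ψ g = 1 ↔ ∃ c : K, ∀ x, g.1 x = c • x) :
    NormP Ψ (commutator _) 2 := by
  have := Module.nontrivial_of_finrank_pos (R := K) (M := V) (by omega)
  obtain ⟨⟨m, hm, u, hu⟩, H⟩ := h.two_cases h2 hn _ rfl
  obtain ⟨μ, hμ⟩ := exists_mult h.sep
  let i := Subgroup.inclusion (isomGroup_le_simE (B := B))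
  refine ⟨⟨i m, map_mem_commutator i hm, fun e => ((hΨ _).mp e).elim fun c e => hu c (e u)⟩,
    fun _ M hM hN => (H (M.comap i) fun l hl a ha => by
      simpa using hN _ (map_mem_commutator i hl) _ ha).imp (fun e a ha => (hΨ _).mpr
        (e ⟨a.1, fun x y => ?_⟩ ha)) fun ⟨g, h3, h4, u, hu⟩ => exists_orderOf_two Ψ h3
          (fun e => ((hΨ _).mp e).elim fun c e => hu c (e u)) ?_⟩
  · rw [hμ, Abelianization.commutator_subset_ker μ (hM ha), Units.val_one, one_mul]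
  · rw [← map_pow, ← map_pow, h4, map_one, map_one]

theorem Good.fixes' (E : Emb t) (I : Subgroup (V ≃ₗ[K] V)) (hI : I = H10.isomGroup B)
    (hγ : ∀ g ∈ commutator I, g ^ r ^ 2 = 1 → Cmt t γ g.1.toLinearMap) : Fixes t γ := by
  rcases h.symm with hS | hA
  · obtain rfl : I = Isom B fun x => B x x / 2 := hI.trans (Subgroup.ext fun g =>
      ⟨fun H => ⟨H, fun x => congrArg (· / 2) (H x x)⟩, fun H => H.1⟩)
    have hQ := IsQuad.of_symm h2 hS
    have hB := h.sep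
    generalize (fun x => B x x / 2) = Q at hQ hγ
    obtain ⟨u, hu0, hu⟩ := hQ.exists_singular hn
    obtain ⟨f, hf, huf⟩ := hQ.exists_partner hB hu hu0
    have h1 := hQ.finrank_hperp hB hu hf huf
    have : Nontrivial (hperp B u f) := Module.nontrivial_of_finrank_pos (R := K) (by omega)
    obtain ⟨y, hy, hy0⟩ := hQ.exists_nonsingular_hperp hB hn hu hf huf
    refine E.fixes hQ (by rw [← map_ofNat j]; simpa) hu hf huf ⟨⟨y, hy⟩, Q y, hy0, by
      rw [hQ.Q_coord hu hf huf, sub_self]⟩ fun x hx => ?_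
    by_cases hx0 : x = 0
    · exact ⟨0, by simp [hx0, SemiSim.map_zero]⟩
    obtain ⟨f, hf, huf⟩ := hQ.exists_partner hB hx hx0
    obtain ⟨y, hy, hy0⟩ := hQ.exists_nonsingular_hperp hB hn hx hf huf
    have h3 := (mem_hperp.mp hy).1
    have h4 := (hγ _ (hQ.eich_mem_commutator hB (hQ.nonExc_of_two_ne_zero hB h2) hx h3)
      (unipRad_pow (hQ.eich_mem_unipRad _ _))).sub_one
    have h5 : ∀ z, (((hQ.eich hx h3).1.toLinearMap - 1) * ((hQ.eich hx h3).1.toLinearMap - 1)) z =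
        (-(2 * Q y) * B x z) • x := fun z => by
      simp [hQ.eich_apply, hQ.diag', hx, h3, hQ.refl h3]
      module
    exact (h4.mul h4).fix E (x := (-(2 * Q y))⁻¹ • f) (by
      rw [h5, map_smul, huf, smul_eq_mul, mul_one, mul_inv_cancel₀ (by simp [h2, hy0]),
        one_smul])
      fun z => ⟨_, h5 z⟩
  subst hI
  have hB := alt_nondeg h.sep hA
  replace hA : LinearMap.BilinForm.IsAlt B := hA
  have := H10.even_finrank_of_alt hB hA
  have hc := H10.commutator_isom_eq_top_of_two_ne_zero hB hA h2 (by grind)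
  refine E.fixes_all (by omega) fun u => ?_
  by_cases hu : u = 0
  · exact ⟨0, by simp [hu, SemiSim.map_zero]⟩
  obtain ⟨f, hf⟩ := (isForm_alt hA).exists_right_eq_one h.sep hu
  have hk : ∀ k : ℕ, H10.tv hA u 1 ^ k = H10.tv hA u k := fun k => by
    induction k with
    | zero => simp [H10.tv_zero]
    | succ k ih => rw [pow_succ, ih, ← H10.tv_add, Nat.cast_succ]
  exact (hγ (H10.tv hA u 1) (hc ▸ trivial) (by simp [hk, H10.tv_zero])).sub_one.fix E (x := -f)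
    (by simp [H10.tv_apply, ← hA.neg_eq u, hf]) fun z => ⟨B z u, by simp [H10.tv_apply]⟩

theorem Good.fixes (E : Emb t)
    (hγ : ∀ g ∈ commutator (simE B), g ^ r ^ 2 = 1 → Cmt t γ g.1.toLinearMap) : Fixes t γ :=
  h.fixes' (r := r) h2 hn E _ rfl fun g hg e => hγ (Subgroup.inclusion isomGroup_le_simE g)
    (map_mem_commutator _ hg) (by rw [← map_pow, e, map_one])

end bilinear

section unitary

variable {σ : K →+* K} {B : V →ₛₗ[σ] V →ₗ[K] K} (h : IsHerm B) (hB : B.SeparatingLeft)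
include h hB

omit [Finite K] in
theorem IsHerm.fix_pts (E : Emb t) (hγ : ∀ g ∈ SIsom B, g ^ r ^ 2 = 1 → Cmt t γ g.1.toLinearMap)
    (x : V) (hx : B x x = 0) : ∃ c : F, γ.1.1 (t x) = c • t x := by
  by_cases hx0 : x = 0
  · exact ⟨0, by simp [hx0, SemiSim.map_zero]⟩
  obtain ⟨f, hf⟩ := h.form.exists_right_eq_one hB hx0
  obtain ⟨c, h0, hc⟩ := exists_trace_zero h.ne h.invol
  exact (hγ (h.trv hx hc) (h.eich_mem_sisom _ _ _)
    (unipRad_pow (h.eich_mem_unipRad _ _ _))).sub_one.fix E (x := -c⁻¹ • f)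
    (by simp [h.trv_apply, hf, h0]) fun z => ⟨-(c * B x z), by simp [h.trv_apply]⟩

variable (hn : 3 ≤ finrank K V)
include hn

theorem IsHerm.exists_frame : ∃ u f, B u u = 0 ∧ B f f = 0 ∧ B u f = 1 ∧
    Nontrivial (hperp B u f) ∧ ∃ (w : hperp B u f) (c : K), c ≠ 0 ∧
      B (f - w - c • u) (f - w - c • u) = 0 := by
  obtain ⟨u, f, hu, hf, huf⟩ := h.exists_pair hB (by omega)
  have := h.form.finrank_hperp hB hu hf huf
  obtain ⟨c, h0, hc⟩ := exists_trace_zero h.ne h.invol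
  refine ⟨u, f, hu, hf, huf, Module.nontrivial_of_finrank_pos (R := K) (by omega), 0, c, h0, ?_⟩
  simp [hu, hf, huf, h.flip_one huf]
  linear_combination -hc

theorem IsHerm.exists_order {q p : ℕ} [hp : Fact p.Prime] (hq : QConj σ q) (hpr : p ≠ r)
    (Ψ : UIsom B →* A) (hΨ : ∀ g, Ψ g = 1 ↔ ∃ c : K, ∀ x, g.1 x = c • x)
    (H : p = 2 ∨ ∃ y, orderOf (Ψ y) = p) : ∃ s ∈ SIsom B, orderOf (Ψ s) = p := by
  by_cases hd : p ∣ q + 1
  · obtain ⟨n, hn'⟩ : ∃ n, finrank K V = n + 3 := ⟨_, (Nat.sub_add_cancel hn).symm⟩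
    obtain ⟨b, hb⟩ := h.exists_onb hB hn'
    obtain ⟨a, ha⟩ := exists_prime_orderOf_dvd_card' p (hq.card_normOne ▸ hd)
    have h0 : B (b 0) (b 0) ≠ 0 := by simp [hb]
    have h1 : B (b 1) (b 1) ≠ 0 := by simp [hb]
    let s := h.qref h0 (mem_normOne.mp a.2) * h.qref h1 (mem_normOne.mp a⁻¹.2)
    have h3 : ∀ i, s.1 (b i) = ((if i = 0 then a else if i = 1 then a⁻¹ else 1).1 : K) • b i :=
      fun i => by
        simp only [s, Subgroup.coe_mul, LinearEquiv.mul_apply, h.qref_apply, map_add, map_smul, hb]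
        by_cases e : i = 0
        · simp [e, sub_smul]
        · by_cases e' : i = 1
          · simp [e', sub_smul]
          · simp [e, e', Ne.symm e, Ne.symm e']
    have h4 : ∀ k i, (s ^ k).1 (b i) =
        (((if i = 0 then a else if i = 1 then a⁻¹ else 1) ^ k).1 : K) • b i := fun k i => by
      induction k with
      | zero => simp
      | succ k ih =>
        rw [pow_succ', Subgroup.coe_mul, LinearEquiv.mul_apply, ih, map_smul, h3, smul_smul,
          pow_succ]; rfl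
    refine ⟨s, ?_, orderOf_eq_prime ?_ fun e => ?_⟩
    · rw [mem_sisom, ← detI_coe, map_mul, Units.val_mul, detI_coe, detI_coe, h.det_qref, h.det_qref]
      simp
    · rw [← map_pow, show s ^ p = 1 from Subtype.ext (b.ext' fun i => by
        rw [h4]; split_ifs <;> simp [← ha]), map_one]
    · obtain ⟨c, hc⟩ := (hΨ _).mp e
      have e0 := smul_left_injective K (b.ne_zero 0) ((h3 0).symm.trans (hc _))
      have e2 := smul_left_injective K (b.ne_zero 2) ((h3 2).symm.trans (hc _))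
      rw [if_neg (show (2 : Fin (n + 3)) ≠ 0 from Fin.succ_ne_zero (1 : Fin (n + 2))),
        if_neg (show (2 : Fin (n + 3)) ≠ 1 from Fin.succ_succ_ne_one (0 : Fin (n + 1))), ← e0, if_pos rfl] at e2
      rw [show a = 1 from Subtype.ext (Units.ext e2.symm), orderOf_one] at ha
      exact hp.out.ne_one ha.symm
  · obtain ⟨y, hy⟩ := H.resolve_left (by
      rintro rfl
      have := Fintype.ofFinite K
      have := two_ne_zero_iff_odd.mp fun h2 : (2 : K) = 0 => hpr (CharP.eq K (charP_two_of h2) ‹_›)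
      rw [← Nat.card_eq_fintype_card, hq.card, Nat.odd_pow_iff two_ne_zero] at this
      exact hd this.add_one.two_dvd)
    refine ⟨y ^ (q + 1), h.index_sisom hq hB (by omega) ▸ Subgroup.pow_index_mem _ y, ?_⟩
    rw [map_pow, Nat.Coprime.orderOf_pow, hy]
    exact hy ▸ hp.out.coprime_iff_not_dvd.mpr hd

theorem IsHerm.normP {q p : ℕ} [hp : Fact p.Prime] (hq : QConj σ q) (hpr : p ≠ r)
    (Ψ : UIsom B →* A) (hΨ : ∀ g, Ψ g = 1 ↔ ∃ c : K, ∀ x, g.1 x = c • x) :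
    NormP Ψ (SIsom B) p := by
  obtain ⟨e, he0, he⟩ := h.exists_isotropic hB (by omega)
  obtain ⟨c, h0, hc⟩ := exists_trace_zero h.ne h.invol
  refine ⟨⟨h.trv he hc, h.eich_mem_sisom _ _ _, fun H => ?_⟩, fun H M hM hN => ?_⟩
  · obtain ⟨a, ha⟩ := (hΨ _).mp H
    obtain ⟨b, -, hb⟩ := IsHerm.exists_eq_scalU hB (by omega) _ ha
    exact h.trv_notMem_center hB he he0 hc h0 b hb
  by_cases hx : 4 ≤ finrank K V ∨ q ≠ 2
  · refine (h.normal_sisom_cases hB (hx.imp_right fun h2 => ⟨hn, hq.exists_cube_ne_one h2⟩)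
      (M.subgroupOf _) ⟨fun a ha l => hN l l.2 a ha⟩).imp (fun H a ha => ?_) fun H' => ?_
    · obtain ⟨b, hb⟩ := (h.mem_center_sisom hB (by omega) _).mp (H (x := ⟨a, hM ha⟩) ha)
      exact (hΨ _).mpr ⟨b.1, fun x => by rw [show a = _ from hb]; rfl⟩
    · obtain ⟨s, hs, e⟩ := h.exists_order hB hn hq hpr Ψ hΨ H
      exact ⟨s, H'.ge (x := ⟨s, hs⟩) trivial, e⟩
  push Not at hx
  obtain ⟨h4, rfl⟩ := hx
  obtain rfl : r = 2 := (Nat.prime_dvd_prime_iff_eq Fact.out Nat.prime_two).mp hq.char_dvd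
  obtain ⟨y, hy⟩ := H.resolve_left hpr
  obtain rfl : p = 3 := by
    have := (orderOf_map_dvd Ψ y).trans (orderOf_dvd_natCard y)
    rw [hy, h.card_uisom hq hB (n := 3) (by omega), show uOrd 2 3 = 2 ^ 3 * 3 ^ 4 by decide,
      hp.out.dvd_mul] at this
    exact (Nat.prime_dvd_prime_iff_eq hp.out Nat.prime_three).mp (hp.out.dvd_of_dvd_pow
      (this.resolve_left fun H => hpr ((Nat.prime_dvd_prime_iff_eq hp.out Nat.prime_two).mp
        (hp.out.dvd_of_dvd_pow H))))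
  refine or_iff_not_imp_left.mpr fun H => ?_
  obtain ⟨m, hm, H⟩ := not_forall₂.mp H
  obtain ⟨u, hu, H⟩ := not_forall₂.mp (mt (h.eq_smul_of_fix_points hB he he0 m) (mt (hΨ _).mpr H))
  have hv : B (m.1 u) (m.1 u) = 0 := by rw [m.2.1, hu]
  have h1 : (1 : K) + σ 1 = 0 := by simp [CharTwo.add_self_eq_zero]
  have huv : B u (m.1 u) ≠ 0 := fun e => by
    have h5 := h.form.two_mul_finrank_le hB (h.form.totSing_span (s := Set.range ![u, m.1 u])
      (by simp [hu, hv]) (by simp [hu, hv, e, h.refl e]))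
    rw [finrank_span_eq_card ((LinearIndependent.pair_iff' (by rintro rfl; simp at H)).mpr
      fun c e => H ⟨c, e.symm⟩), Fintype.card_fin] at h5
    omega
  have h5 : B (m.1 u) u * B u (m.1 u) = 1 := by
    have := Fintype.ofFinite K
    rw [← h.symm, hq.eq, ← pow_succ, ← FiniteField.pow_card_sub_one_eq_one _ huv,
      ← Nat.card_eq_fintype_card, hq.card]; rfl
  have h6 : (h.trv hu h1)⁻¹ = h.trv hu h1 := inv_eq_of_mul_eq_one_right (by
    ext x
    simp [h.trv_apply, hu, sub_sub, ← add_smul, CharTwo.add_self_eq_zero])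
  have h7 : h.trv hv h1 * h.trv hu h1 ∈ M := by
    have := mul_mem hm (hN (h.trv hu h1) (h.eich_mem_sisom _ _ _) _ (inv_mem hm))
    rw [h6, ← mul_assoc, ← mul_assoc, h.conj_eich] at this
    simpa using this
  generalize m.1 u = v at *
  refine ⟨_, h7, orderOf_eq_prime ?_ fun e => ?_⟩
  · rw [← map_pow, show (h.trv hv h1 * h.trv hu h1) ^ 3 = 1 from ?_, map_one]
    ext x
    simp only [pow_succ, pow_zero, one_mul, Subgroup.coe_mul, LinearEquiv.mul_apply, h.trv_apply,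
      map_sub, map_smul, smul_eq_mul, hu, hv, OneMemClass.coe_one, LinearEquiv.coe_one, id]
    match_scalars <;> grind
  · obtain ⟨c, hc⟩ := (hΨ _).mp e
    have := congrArg (B u) (hc u)
    simp [h.trv_apply, hu, h5] at this

end unitary

end forms

end Cfsg.Agent.H11
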