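import Mathlib
import Cfsg.Agent.H11.Im10

/-!
Stabilisers of frames of unitary spaces in even characteristic.
-/

set_option autoImplicit false
set_option linter.unusedSectionVars false

namespace Cfsg.Agent.H11.Im

open Module H10 H11 Cfsg.Geo

variable {F : Type*} [Field F] {σ : F →+* F} {q : ℕ}
  {V : Type*} [AddCommGroup V] [Module F V] [FiniteDimensional F V]
  {t : ℕ} {D : Fin t → Submodule F V} {p : Fin t → V →ₗ[F] V} {B : V →ₛₗ[σ] V →ₗ[F] F}
  [Fintype F] (hq : QConj σ q)
include hq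

theorem exists_norm_avoid (h4 : 4 ≤ q) {a b : F} (a0 : a ≠ 0) (b0 : b ≠ 0) (s : F) :
    ∃ z, σ z * z = 1 ∧ σ (a + z * b) * (a + z * b) ≠ 0 ∧ σ (a + z * b) * (a + z * b) ≠ s := by
  classical
  let S := fun s => Finset.univ.filter fun z => σ z * z = 1 ∧ σ (a + z * b) * (a + z * b) = s
  have k : ∀ s, (S s).card ≤ 2 := fun s => card_le_two_of_quad _ (a := σ a * b)
    (b := σ a * a + σ b * b - s) (c := σ b * a) (mul_ne_zero ((map_ne_zero σ).mpr a0) b0)
    fun z hz => by
      obtain ⟨-, e1, e2⟩ := Finset.mem_filter.mp hz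
      simp only [map_add, map_mul] at e2
      linear_combination z * e2 - (σ b * a + z * σ b * b) * e1
  obtain ⟨z, a1, a2⟩ := exists_circle hq (S 0 ∪ S s) ((Finset.card_union_le _ _).trans (by
    have := k 0; have := k s; omega))
  exact ⟨z, a1, by simpa [S, a1, not_or] using a2⟩

variable (hH : IsHerm B) (h : Cl 1 1 (trHom σ) B (fun x => B x x))
  (d : Dec B (fun x => B x x) D p) {M : Subgroup (V ≃ₗ[F] V)} (hO : Ov h D M) (hM : M ≤ h.Om)
  (star : ∀ x ∈ M, ∀ i, ∀ v ∈ D i, B v v ≠ 0 → x v = v → x ∈ dstab D)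
  (h1 : ∀ i, finrank F (D i) ≤ 1) (ht : 13 ≤ t) {e : Fin t → V} (he : ∀ i, e i ∈ D i)
  (e1 : ∀ i, B (e i) (e i) = 1)
include hH h d hO hM star h1 ht he e1

theorem herm_even (t2 : (2 : F) = 0) : M ≤ dstab D := fun g hg => by
  classical
  by_contra hg'
  have MI := hM.trans h.om_le_isom
  have e0 : ∀ i, B (e i) (e i) ≠ 0 := fun i => by simp [e1]
  have ne : ∀ i, e i ≠ 0 := fun i => ne_zero_of_Q h (e0 i)
  have t2' : (1 : F) + 1 = 0 := by rw [one_add_one_eq_two, t2]
  have ad : ∀ v, B v v = 0 → Adm h v 1 := fun v e => by simp [Adm, e, t2']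
  have ee : ∀ i j, i ≠ j → B (e i) (e j) = 0 := fun i j c => d.orth i j c _ (he i) _ (he j)
  have q0 : ∀ i j z, i ≠ j → σ z * z = 1 → B (e i + z • e j) (e i + z • e j) = 0 := fun i j z c hz => by
    simp only [map_add, LinearMap.add_apply, map_smulₛₗ, LinearMap.smul_apply, e1, ee i j c,
      ee j i c.symm, smul_eq_mul, RingHom.id_apply]
    linear_combination hz + t2'
  have root : ∀ i j z, i ≠ j → σ z * z = 1 → rf h (e i + z • e j) 1 ∈ M := fun i j z c hz => by
    refine hO _ (rf_eq_eich h (q0 i j z c hz) (c := 1) (by simp [t2']) ▸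
      h.eich_mem_om (q0 i j z c hz) (by simp) (by simp [t2'])) (d.mem_dstab fun l => ?_)
    by_cases a : l = i
    · refine ⟨j, fun x hx => ?_⟩
      obtain ⟨s, rfl⟩ := line_mem d (h1 i) (he i) (ne i) (a ▸ hx)
      simpa [(ad _ (q0 i j z c hz)).apply, e1, ee j i c.symm, smul_smul] using
        (D j).smul_mem _ (he j)
    by_cases b : l = j
    · refine ⟨i, fun x hx => ?_⟩
      obtain ⟨s, rfl⟩ := line_mem d (h1 j) (he j) (ne j) (b ▸ hx)
      simpa [(ad _ (q0 i j z c hz)).apply, e1, ee i j c, smul_smul, mul_assoc, hz] using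
        (D i).smul_mem _ (he i)
    · exact ⟨l, fun x hx => by
        rwa [rf_fix h _ _ (by simp [d.orth i l (Ne.symm a) _ (he i) x hx,
          d.orth j l (Ne.symm b) _ (he j) x hx])]⟩
  have full : ∀ v, B v v = 0 → rf h v 1 ∈ M → ∀ i j l, i ≠ j → i ≠ l → j ≠ l → p i v ≠ 0 →
      p j v ≠ 0 → p l v ≠ 0 → ∀ o, p o v ≠ 0 := fun v qv m i j l a1 a2 a3 b1 b2 b3 o ho =>
    rf_not_three d (ad v qv) one_ne_zero a1 a2 a3 b1 b2 b3 (star _ m o _ (he o) (e0 o)
      (rf_fix h _ _ (h.refl ((p_eq_zero h d).mp ho _ (he o)))))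
  let f : Fin 7 ↪ Fin t := Fin.castLEEmb (by omega)
  have fi : ∀ a b, f a = f b ↔ a = b := fun a b => f.injective.eq_iff
  obtain ⟨z, z1, z2⟩ := exists_zeta hq
  have z1' : σ (σ z) * σ z = 1 := by rw [hH.invol, mul_comm, z1]
  have n3 : 1 - z ≠ 0 := sub_ne_zero.mpr (by rintro rfl; simp at z2)
  obtain ⟨v, qv, m, fv⟩ : ∃ v, B v v = 0 ∧ rf h v 1 ∈ M ∧ ∀ o, p o v ≠ 0 := by
    by_contra hc
    have k : ∀ z, σ z * z = 1 → (Finset.univ.filter (p · (g (e (f 0) + z • e (f 1))) ≠ 0)).card ≤ 2 :=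
      fun z hz => by
      by_contra c
      obtain ⟨i, hi, j, hj, l, hl, a1, a2, a3⟩ := Finset.two_lt_card.mp (not_le.mp c)
      have a := ((MI hg).1 _ _).trans (q0 (f 0) (f 1) z (by simp [fi]) hz)
      have b := rf_map MI hg (root (f 0) (f 1) z (by simp [fi]) hz)
      exact hc ⟨_, a, b, full _ a b i j l a1 a2 a3 (by simpa using hi) (by simpa using hj)
        (by simpa using hl)⟩
    have k1 := k 1 (by simp)
    have k2 := k z z1
    refine hg' (inv_mem_iff.mp (herm_c hq hH h d hO hM star h1 ht he e1 (inv_mem hg)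
      (Finset.univ.filter (p · (g (e (f 0) + (1 : F) • e (f 1))) ≠ 0) ∪
        Finset.univ.filter (p · (g (e (f 0) + z • e (f 1))) ≠ 0))ᶜ ?_ fun s hs _ fs =>
      star _ (mul_mem (mul_mem (inv_mem hg) hs) (inv_mem (inv_mem hg))) _ _ (he (f 1)) (e0 _) ?_))
    · have := Finset.card_union_le (Finset.univ.filter (p · (g (e (f 0) + (1 : F) • e (f 1))) ≠ 0))
        (Finset.univ.filter (p · (g (e (f 0) + z • e (f 1))) ≠ 0))
      rw [Finset.card_compl, Fintype.card_fin]; omega
    · rw [inv_inv, LinearEquiv.mul_apply, LinearEquiv.mul_apply, fix_of_p d fs, inv_app]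
      intro i hi
      simp only [Finset.mem_compl, Finset.mem_union, Finset.mem_filter, Finset.mem_univ, true_and,
        not_or, not_not, map_add, map_smul] at hi
      refine (smul_eq_zero.mp (show (1 - z) • p i (g (e (f 1))) = 0 from ?_)).resolve_left n3
      rw [sub_smul, eq_neg_of_add_eq_zero_right hi.1, eq_neg_of_add_eq_zero_right hi.2, sub_self]
  have pe : ∀ a i, p i a = B (e i) a • e i := fun a i => by
    simpa [e1] using p_line d (h1 i) (he i) (e0 i) a
  have bv : ∀ i, B (e i) v ≠ 0 := fun i c => fv i (by simp [pe, c])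
  have ef : ∀ a b, B (e (f a)) (e (f b)) = if a = b then 1 else 0 := fun a b => by
    split_ifs with c
    · rw [c, e1]
    · exact ee _ _ (by simpa [fi] using c)
  by_cases q2 : q = 2
  · have N : ∀ x : F, x ≠ 0 → σ x * x = 1 := fun x hx => by
      have := FiniteField.pow_card_sub_one_eq_one x hx
      rw [← Nat.card_eq_fintype_card, hq.card, q2] at this
      rw [hq.eq, q2, ← pow_succ]; exact this
    have tr : z + σ z = 1 := by
      have := N (z + σ z) fun c => z2 (by linear_combination c - z * t2)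
      rw [map_add, hH.invol] at this
      exact sub_eq_zero.mp (pow_eq_zero_iff (n := 2) (by simp) |>.mp (by
        linear_combination this + (1 - z - σ z) * t2))
    have a1 : ∀ j z, σ z * z = 1 → Adm h (e j) (1 - z) := fun j z hz => by
      simpa [e1] using adm_herm (h := h) (e0 j) hz
    let δ := fun a b => rf h (e (f a)) (1 - z) * rf h (e (f b)) (1 - σ z)
    have mδ : ∀ a b, δ a b ∈ M := fun a b => hO _ (by simpa [e1] using pair_om hH h (e0 _) (e0 _) z1)
      (mul_mem (rf_dstab h d (he _) _) (rf_dstab h d (he _) _))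
    have k0 := mul_mem (mδ 0 1) (mul_mem (mδ 2 3) (mδ 4 5))
    have k1 : ∀ a, B (e (f a)) ((δ 0 1 * (δ 2 3 * δ 4 5)) v) =
        ![z, σ z, z, σ z, z, σ z, 1] a * B (e (f a)) v := fun a => by
      fin_cases a <;>
        simp [δ, (a1 _ _ z1).apply, (a1 _ _ z1').apply, ef, sub_mul]
    have k2 : B v ((δ 0 1 * (δ 2 3 * δ 4 5)) v) = 1 := by
      have n : ∀ i, B (e i) v * B v (e i) = 1 := fun i => by
        rw [← hH.symm (e i) v, mul_comm, N _ (bv i)]
      simp only [δ, LinearEquiv.mul_apply, (a1 _ _ z1).apply, (a1 _ _ z1').apply, map_sub, map_smul,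
        ef, qv, smul_eq_mul, Fin.reduceEq, if_false, mul_zero, sub_zero, mul_assoc, n]
      linear_combination 3 * tr - 2 * t2
    generalize δ 0 1 * (δ 2 3 * δ 4 5) = k at k0 k1 k2
    have k3 : ∀ a, p (f a) (rf h v 1 (k v)) =
        ((![z, σ z, z, σ z, z, σ z, 1] a - 1) * B (e (f a)) v) • e (f a) := fun a => by
      rw [pe, (ad v qv).apply, k2, map_sub, k1]; simp [sub_mul]
    have n4 := sub_ne_zero.mpr (sub_ne_zero.mp n3).symm
    refine full _ (((MI (mul_mem m k0)).1 v v).trans qv) (rf_map MI (mul_mem m k0) m) (f 0) (f 2) (f 4)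
      (by simp [fi]) (by simp [fi]) (by simp [fi]) ?_ ?_ ?_ (f 6) ?_ <;>
      simp [k3, n4, bv, ne]
  have h4 : 4 ≤ q := by
    have := hq.two_le
    have := (FiniteField.even_card_iff_char_two (F := F)).mp
      (CharP.ringChar_of_prime_eq_zero Nat.prime_two (by simpa using t2))
    rw [← Nat.card_eq_fintype_card, hq.card] at this
    by_contra c
    obtain rfl : q = 3 := by omega
    simp at this
  have bv' := fun i => h.refl_ne (bv i)
  obtain ⟨x, x1, x2, -⟩ := exists_norm_avoid hq h4 (bv' (f 0)) (bv' (f 1)) 0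
  obtain ⟨y, y1, y2, y3⟩ := exists_norm_avoid hq h4 (bv' (f 2)) (bv' (f 3))
    (σ (B v (e (f 0)) + x * B v (e (f 1))) * (B v (e (f 0)) + x * B v (e (f 1))))
  have qu := q0 (f 0) (f 1) x (by simp [fi]) x1
  have qw := q0 (f 2) (f 3) y (by simp [fi]) y1
  have mu := root (f 0) (f 1) x (by simp [fi]) x1
  have mw := root (f 2) (f 3) y (by simp [fi]) y1
  have x0 : x ≠ 0 := by rintro rfl; simp at x1
  have y0 : y ≠ 0 := by rintro rfl; simp at y1
  have eu : ∀ a, B (e (f a)) (e (f 0) + x • e (f 1)) = ![1, x, 0, 0, 0, 0, 0] a := fun a => by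
    fin_cases a <;> simp [ef]
  have ew : ∀ a, B (e (f a)) (e (f 2) + y • e (f 3)) = ![0, 0, 1, y, 0, 0, 0] a := fun a => by
    fin_cases a <;> simp [ef]
  have uw : B (e (f 0) + x • e (f 1)) (e (f 2) + y • e (f 3)) = 0 := by simp [ef]
  rw [← smul_eq_mul x, ← map_smul, ← map_add] at x2 y3
  rw [← smul_eq_mul y, ← map_smul, ← map_add] at y2 y3
  generalize e (f 0) + x • e (f 1) = u at *
  generalize e (f 2) + y • e (f 3) = w at *
  have wu := h.refl uw
  have b1 : B v u ≠ 0 := right_ne_zero_of_mul x2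
  have b2 : B v w ≠ 0 := right_ne_zero_of_mul y2
  have inv : ∀ v, B v v = 0 → rf h v 1 * rf h v 1 = 1 := fun v e => by
    rw [mul_eq_one_iff_eq_inv, (ad v e).inv, map_one]
  have ea : ∀ r, (rf h u 1 * rf h w 1) r = r - B u r • u - B w r • w := fun r => by
    rw [LinearEquiv.mul_apply, (ad u qu).apply, (ad w qw).apply]; simp [uw]; abel
  let W := Submodule.span F {u, w, v}
  have l1 : ∀ r ∈ ({u, w, v} : Set V), rf h r 1 ∈ Loc B (fun x => B x x) W := fun r hr =>
    rf_mem_loc h (Submodule.subset_span hr) _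
  have u0 : B u (e (f 0)) = 1 := by rw [← hH.symm, eu]; simp
  have u2 : B u (e (f 2)) = 0 := by rw [← hH.symm, eu]; simp
  have w0 : B w (e (f 0)) = 0 := by rw [← hH.symm, ew]; simp
  have w2 : B w (e (f 2)) = 1 := by rw [← hH.symm, ew]; simp
  have : Finite V := Module.finite_of_finite F
  have : Finite (V ≃ₗ[F] V) := DFunLike.finite _
  rcases dihedral (M := M ⊓ Loc B (fun x => B x x) W) (a := rf h u 1 * rf h w 1) (b := rf h v 1)
    (mul_mem ⟨mu, l1 u (by simp)⟩ ⟨mw, l1 w (by simp)⟩) ⟨m, l1 v (by simp)⟩ (by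
      ext r; rw [LinearEquiv.mul_apply, ea, ea]
      simp only [map_sub, map_smul, qu, qw, uw, wu, smul_zero, sub_zero, LinearEquiv.coe_one, id]
      rw [← sub_eq_zero, ← show (-(B u r) * 2) • u + (-(B w r) * 2) • w = 0 by simp [t2]]
      module) (inv v qv) with ⟨n, -, c⟩ | ⟨s, ⟨hs, ls⟩, s1, s2, sa, sb, -⟩
  · obtain ⟨Y, a, b⟩ := (rk_rf h v 1).conj n⁻¹
    rw [← c, show n⁻¹ * (n * (rf h u 1 * rf h w 1) * n⁻¹) * n⁻¹⁻¹ = rf h u 1 * rf h w 1 by group] at b
    obtain ⟨r, hr⟩ := finrank_le_one_iff.mp a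
    obtain ⟨α, c1⟩ := hr ⟨_, b (e (f 0))⟩
    obtain ⟨β, c2⟩ := hr ⟨_, b (e (f 2))⟩
    have c1 := congrArg (B (e (f 0))) (congrArg Subtype.val c1)
    have c3 := congrArg (B (e (f 0))) (congrArg Subtype.val c2)
    have c2 := congrArg (B (e (f 2))) (congrArg Subtype.val c2)
    simp [ea, u0, u2, w0, w2, eu, ew] at c1 c2 c3
    rcases c3 with c3 | c3 <;> simp [c3] at c1 c2
  have sI := MI hs
  have si : s⁻¹ = s := inv_eq_of_mul_eq_one_right s2
  have ss : ∀ r, s (s r) = r := fun r => by rw [← LinearEquiv.mul_apply, s2]; rfl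
  have sB : ∀ a b, B a (s b) = B (s a) b := fun a b => by rw [← isom_inv sI, si]
  have sv : s v = v := by
    have k := congrArg (· (e (f 0))) sb
    simp only [LinearEquiv.mul_apply, (ad v qv).apply, one_mul, map_sub, map_smul, sub_right_inj] at k
    have k1 : s v = (B v (s (e (f 0))) / B v (e (f 0))) • v := by
      rw [div_eq_inv_mul, mul_smul, ← k, smul_smul, inv_mul_cancel₀ (bv' _), one_smul]
    generalize B v (s (e (f 0))) / B v (e (f 0)) = c at k1
    have k2 := ss v
    rw [k1, map_smul, k1, smul_smul] at k2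
    have := smul_left_injective F (fun c => bv (f 0) (by simp [c])) (k2.trans (one_smul F v).symm)
    rw [k1, show c = 1 from sub_eq_zero.mp (pow_eq_zero_iff (n := 2) (by simp) |>.mp (by
      linear_combination this + (1 - c) * t2)), one_smul]
  have k : ∀ r, B u r • s u + B w r • s w = B u (s r) • u + B w (s r) • w := fun r => by
    have k := congrArg (· r) sa
    simp only [LinearEquiv.mul_apply s, LinearEquiv.mul_apply _ s, ea, map_sub, map_smul, sub_sub,
      sub_right_inj] at k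
    simpa using k
  have k0 := k (e (f 0))
  have k2 := k (e (f 2))
  simp only [u0, u2, w0, w2, one_smul, zero_smul, add_zero, zero_add] at k0 k2
  have c1 : σ (B u (s (e (f 0)))) = B u (s (e (f 0))) := by
    nth_rewrite 2 [sB]; rw [k0]; simp [u0, w0]
  have c2 : σ (B u (s (e (f 2)))) = B w (s (e (f 0))) := by
    rw [sB w, k2]; simp [u0, w0]
  generalize B u (s (e (f 0))) = A at *
  generalize B w (s (e (f 0))) = C at *
  generalize B u (s (e (f 2))) = E at *
  generalize B w (s (e (f 2))) = G at *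
  have c3 : A * A + C * E = 1 := by
    have := congrArg (B (e (f 0))) (ss u)
    rw [k0, map_add, map_smul, map_smul, k0, k2] at this
    simpa [eu, ew] using this
  have c4 : A * B v u + C * B v w = B v u := by simpa [k0, sv] using sB v u
  have c5 : E * B v u + G * B v w = B v w := by simpa [k2, sv] using sB v w
  have c6 := congrArg σ c4
  simp only [map_add, map_mul, c1, ← c2, hH.invol] at c6
  have C0 : C * E = 0 := mul_right_cancel₀ (sub_ne_zero.mpr y3) (by
    have a1 : C * B v w = (1 - A) * B v u := by linear_combination c4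
    have a2 : E * σ (B v w) = (1 - A) * σ (B v u) := by linear_combination c6
    linear_combination (E * σ (B v w)) * a1 + ((1 - A) * B v u) * a2 -
      σ (B v u) * B v u * c3 + (σ (B v u) * B v u * (A * A - A)) * t2)
  have E0 : E = 0 := by
    rw [← c2] at C0; simpa using C0
  have su : s u = u := by
    rw [E0, map_zero] at c2
    rw [k0, ← c2, mul_right_cancel₀ b1 (show A * B v u = 1 * B v u by
      linear_combination c4 + B v w * c2)]
    simp
  have sw : s w = w := by
    rw [k2, E0, mul_right_cancel₀ b2 (show G * B v w = 1 * B v w by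
      linear_combination c5 - B v u * E0)]
    simp
  have im : ∀ r, ∃ α β : F, s r - r = α • u + β • w ∧ α * B v u + β * B v w = 0 := fun r => by
    obtain ⟨α, β, γ, c⟩ := Submodule.mem_span_triple.mp (loc_sub_mem h ls r)
    have a := congrArg (B u) c
    have b := congrArg (B v) c
    simp only [map_add, map_smul, map_sub, qu, uw, qv, sB, su, sv, sub_self, smul_eq_mul, mul_zero,
      zero_add, add_zero] at a b
    rw [(mul_eq_zero.mp a).resolve_right (h.refl_ne b1), zero_smul, add_zero] at c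
    exact ⟨α, β, c.symm, b⟩
  obtain ⟨π, hπ⟩ := dstab_perm (star s hs _ _ (he (f 4)) (e0 _) (by
    by_contra c
    obtain ⟨r, hr⟩ := h.exists_ne (sub_ne_zero.mpr c)
    obtain ⟨α, β, c, -⟩ := im r
    refine hr ?_
    rw [map_sub, LinearMap.sub_apply, ← sB, ← map_sub, c]
    simp [eu, ew]))
  obtain ⟨i, r, hr, c⟩ := exists_blk_ne d s1
  obtain ⟨α, β, c1, c2⟩ := im r
  have α0 : α ≠ 0 := by
    rintro rfl
    rw [show β = 0 by simpa [b2] using c2] at c1
    exact c (by simpa [sub_eq_zero] using c1)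
  have β0 : β ≠ 0 := by rintro rfl; simp [α0, b1] at c2
  have k5 : ∀ a, f a ≠ i → p (f a) (s r) =
      (α * ![1, x, 0, 0, 0, 0, 0] a + β * ![0, 0, 1, y, 0, 0, 0] a) • e (f a) := fun a ha => by
    rw [pe, eq_add_of_sub_eq c1]
    simp only [map_add, map_smul, eu, ew, d.orth _ i ha _ (he _) r hr, smul_eq_mul, add_zero]
  by_cases c : f 0 = i ∨ f 1 = i
  · have a : f 2 ≠ i ∧ f 3 ≠ i := by rcases c with rfl | rfl <;> simp [fi]
    exact d.notMem (i := f 2) (j := f 3) (by simp [fi]) (by simp [k5 _ a.1, β0, ne])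
      (by simp [k5 _ a.2, β0, y0, ne]) _ (hπ i r hr)
  · push Not at c
    exact d.notMem (i := f 0) (j := f 1) (by simp [fi]) (by simp [k5 _ c.1, α0, ne])
      (by simp [k5 _ c.2, α0, x0, ne]) _ (hπ i r hr)

omit hO hM star h1 ht he e1 in
/-- Maximality of stabilisers of orthogonal decompositions of unitary spaces. -/
theorem max_herm (hn : 13 ≤ finrank F V) (ht : 2 ≤ t) (hex : ∀ i, ¬ (finrank F (D i) = 2 ∧ q = 2)) :
    IsMaximalIn h.Om (dstab D ⊓ h.Om) := by
  refine max_of d h (by omega) ht fun M hO hM g hg hg' => by_contra fun hc => hg' ?_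
  have star := star_herm hq hH h d hn ht hex hO hM hc
  let i : Fin t := ⟨0, by omega⟩
  by_cases h1 : finrank F (D i) ≤ 1
  swap
  · exact herm_two hq hH h d hO hM star ht (fun j => by rw [← d.finrank_eq i j]; omega) hg
  have := finrank_eq_mul d i
  have : t * finrank F (D i) ≤ t * 1 := Nat.mul_le_mul_left _ h1
  have h1' : ∀ j, finrank F (D j) ≤ 1 := fun j => d.finrank_eq i j ▸ h1
  choose e he e1 using fun j => herm_val hH h (d.nd j)
    (Submodule.one_le_finrank_iff.mpr (d.ne j)) (map_one σ)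
  by_cases t2 : (2 : F) = 0
  · exact herm_even hq hH h d hO hM star h1' (by omega) he e1 t2 hg
  · exact herm_odd hq hH h d hO hM star h1' (by omega) he e1 t2 hg

end Cfsg.Agent.H11.Im
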