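import Mathlib
import Cfsg.Agent.H11.Syl2O
import Cfsg.Agent.H10.Geo1
import Cfsg.Agent.H10.SL2b
import Cfsg.Agent.H10.GL2Syl

/-!
# Sylow 2-subgroups of linear and symplectic groups in odd characteristic
-/

set_option autoImplicit false

namespace Cfsg.Agent.H11

open Subgroup Equiv Matrix
open scoped MatrixGroups commutatorElement

section groups

variable {G H : Type*} [Group G] [Group H]

theorem inf_le_of_sup {S J E N : Subgroup G} (hJ : J ≤ N) (hE : E ≤ normalizer J)
    (hS : S ≤ J ⊔ E) (hEN : ∀ x ∈ E, x ∈ N → x ∈ J) : S ⊓ N ≤ J := by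
  intro g hg
  have : g ∈ ((J ⊔ E : Subgroup G) : Set G) := hS hg.1
  rw [coe_mul_of_right_le_normalizer_left _ _ hE] at this
  obtain ⟨a, ha, b, hb, rfl⟩ := this
  exact J.mul_mem ha (hEN b hb ((N.mul_mem_cancel_left (hJ ha)).mp hg.2))

theorem eq_of_mem_zpowers_invol {x y : G} (hx : x * x = 1) (hy : y ∈ zpowers x) :
    y = 1 ∨ y = x := by
  obtain ⟨k, rfl⟩ := hy
  have : x ^ (2 : ℤ) = 1 := by rw [zpow_two, hx]
  rcases Int.even_or_odd' k with ⟨j, rfl | rfl⟩
  · left; simp only [_root_.zpow_mul, this, _root_.one_zpow]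
  · right; simp only [_root_.zpow_add, _root_.zpow_mul, this, _root_.one_zpow, one_mul, zpow_one]

theorem isPGroup_zpowers {p k : ℕ} {x : G} (hx : x ^ p ^ k = 1) : IsPGroup p (zpowers x) := by
  rintro ⟨_, j, rfl⟩
  refine ⟨k, Subtype.ext ?_⟩
  change (x ^ j) ^ p ^ k = 1
  rw [← _root_.zpow_natCast, ← _root_.zpow_mul, mul_comm, _root_.zpow_mul, _root_.zpow_natCast, hx,
    _root_.one_zpow]

/-- The subgroup generated by the elements whose square is in the derived subgroup. -/
def sqSub (S : Subgroup G) : Subgroup G := closure {x | x ∈ S ∧ x ^ 2 ∈ ⁅S, S⁆}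

theorem mem_sqSub {S : Subgroup G} {x : G} (hx : x ∈ S) (h2 : x ^ 2 ∈ ⁅S, S⁆) : x ∈ sqSub S :=
  subset_closure ⟨hx, h2⟩

theorem mem_sqSub' {S : Subgroup G} {x : G} (hx : x ∈ S) (h2 : x ^ 2 = 1) : x ∈ sqSub S :=
  mem_sqSub hx (h2 ▸ one_mem _)

theorem sqSub_le (S : Subgroup G) : sqSub S ≤ S := (closure_le _).mpr fun _ hx => hx.1

theorem sqComm_of_sqSub {S : Subgroup G} (h : S ≤ sqSub S) : SqComm S :=
  sqComm_of_closure (fun _ hx => hx.1) h fun _ hx => hx.2

theorem le_normalizer_sqSub {S E N : Subgroup G} [hN : N.Normal] (hE : E ≤ S) :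
    E ≤ normalizer (sqSub (S ⊓ N)) := by
  have hc : ∀ g ∈ S, ∀ z ∈ sqSub (S ⊓ N), g * z * g⁻¹ ∈ sqSub (S ⊓ N) := by
    intro g hg z hz
    have h1 : (S ⊓ N).map (MulAut.conj g).toMonoidHom ≤ S ⊓ N := by
      rintro _ ⟨y, hy, rfl⟩
      exact ⟨S.mul_mem (S.mul_mem hg hy.1) (S.inv_mem hg), hN.conj_mem _ hy.2 g⟩
    have : sqSub (S ⊓ N) ≤ (sqSub (S ⊓ N)).comap (MulAut.conj g).toMonoidHom := by
      refine (closure_le _).mpr fun x hx => mem_sqSub (h1 ⟨x, hx.1, rfl⟩) ?_
      rw [← map_pow]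
      refine commutator_mono h1 h1 ?_
      rw [← map_commutator]
      exact ⟨_, hx.2, rfl⟩
    exact this hz
  intro g hg
  rw [mem_normalizer_iff]
  refine fun z => ⟨hc g (hE hg) z, fun hz => ?_⟩
  simpa [mul_assoc] using hc _ (inv_mem (hE hg)) _ hz

theorem SqComm.sq_mem {A : Subgroup G} (h : SqComm A) (f : G →* H) {S : Subgroup H}
    (hf : ∀ a ∈ A, f a ∈ S) {a : G} (ha : a ∈ A) : f a ^ 2 ∈ ⁅S, S⁆ := by
  have h1 : A.map f ≤ S := by rintro _ ⟨y, hy, rfl⟩; exact hf y hy
  refine commutator_mono h1 h1 ?_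
  rw [← map_commutator, ← map_subtype_commutator]
  exact ⟨_, ⟨_, h ⟨a, ha⟩, rfl⟩, by simp⟩

theorem sylow_le_invSub {α : Type} [Fintype α] [DecidableEq α] (T : Sylow 2 (Perm α)) :
    (T : Subgroup (Perm α)) ≤ invSub T := by
  obtain ⟨T', hT, hT2⟩ := exists_sylow_perm _ α rfl
  obtain ⟨g, rfl⟩ := MulAction.exists_smul_eq (Perm α) (Sylow.ofCard (p := 2) T' (by
    rw [hT, Nat.factorization_def _ Nat.prime_two, Nat.card_perm, Nat.card_eq_fintype_card])) T
  exact (map_mono hT2).trans (map_invSub_le _ _)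

theorem sqComm_quaternion {k : ℕ} (hk : 1 ≤ k) : SqComm (QuaternionGroup (2 ^ k)) := by
  have h1 : ∀ i, QuaternionGroup.a (n := 2 ^ k) i ^ 2 ∈ commutator _ := fun i => by
    have : QuaternionGroup.a (n := 2 ^ k) i ^ 2 = ⁅QuaternionGroup.a i, QuaternionGroup.xa 0⁆ := by
      rw [commutatorElement_def, eq_mul_inv_iff_mul_eq, eq_mul_inv_iff_mul_eq]
      simp [sq]
    rw [this]
    exact commutator_mem_commutator trivial trivial
  rintro (i | i)
  · exact h1 i
  · obtain ⟨j, rfl⟩ : ∃ j, k = j + 1 := ⟨k - 1, by omega⟩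
    convert h1 (2 ^ j : ℕ) using 1
    simp [sq]; ring

variable {D ι : Type*} [Group D] [Fintype ι] [DecidableEq ι] {w : (ι → D) →* G} {π : Perm ι →* G}

theorem IsWr.precomp {D' : Type*} [Group D'] (h : IsWr w π) {f : D' →* D}
    (hf : Function.Injective f) : IsWr (w.comp (f.compLeft ι)) π where
  inj := h.inj.comp fun _ _ e => funext fun i => hf (congrFun e i)
  conj σ g := h.conj σ _
  disj _ σ e := h.disj _ σ e

theorem sqComm_wrSub {A : Subgroup D} (hA : SqComm A) {T : Subgroup (Perm ι)}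
    (hT : T ≤ invSub T) : SqComm (wrSub w π A T) :=
  sqComm_of_sqSub (wrSub_le (X := A) (by simp) hT
    (fun i _ ha => mem_sqSub (single_mem_wrSub T i ha)
      (hA.sq_mem (w.comp (MonoidHom.mulSingle (fun _ => D) i))
        (fun _ ha => single_mem_wrSub T i ha) ha))
    fun τ hτ => mem_sqSub' (perm_mem_wrSub A hτ.1) (by rw [← map_pow, hτ.2, map_one]))

end groups

variable {F : Type*} [Field F]

theorem sqComm_sl2 [Fintype F] (hF : Odd (Fintype.card F)) (P : Sylow 2 SL(2, F)) : SqComm P := by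
  have h2 := two_ne_zero_of_odd_card hF
  obtain ⟨k, hk, ⟨e⟩⟩ := (H10.sl2_two_group h2 P.2).resolve_left (H10.not_isCyclic_sylow_two h2 P)
  exact (sqComm_quaternion hk).of_equiv e.symm

theorem val_card_GL [Fintype F] (hF : Odd (Fintype.card F)) (n : ℕ) :
    padicValNat 2 (Nat.card (GL (Fin n) F)) =
      padicValNat 2 (∏ i ∈ Finset.range n, (Fintype.card F ^ (i + 1) - 1)) := by
  have h1 : 1 < Fintype.card F := Fintype.one_lt_card
  have : ∏ i : Fin n, (Fintype.card F ^ (n - i) - 1) =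
      ∏ i ∈ Finset.range n, (Fintype.card F ^ (i + 1) - 1) := by
    rw [Fin.prod_univ_eq_prod_range (fun i => Fintype.card F ^ (n - i) - 1), ← Finset.prod_range_reflect]
    refine Finset.prod_congr rfl fun i hi => ?_
    rw [Finset.mem_range] at hi
    congr 2; omega
  rw [H10.card_GL_eq_pow_mul, this, padicValNat.mul (by positivity) (Finset.prod_ne_zero_iff.mpr
    fun i _ => Nat.sub_ne_zero_of_lt (Nat.one_lt_pow (by omega) h1)), val_odd_pow hF, zero_add]

theorem val_pow_odd_sub_one {q : ℕ} (h1 : 1 < q) (hq : Odd q) (i : ℕ) :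
    padicValNat 2 (q ^ (2 * i + 1) - 1) = padicValNat 2 (q - 1) := by
  have h0 := Nat.geomSum_eq h1 (2 * i + 1)
  have h2 : q ^ (2 * i + 1) - 1 = (∑ k ∈ Finset.range (2 * i + 1), q ^ k) * (q - 1) := by
    rw [h0, Nat.div_mul_cancel (by simpa using Nat.sub_dvd_pow_sub_pow q 1 (2 * i + 1))]
  have h3 : Odd (∑ k ∈ Finset.range (2 * i + 1), q ^ k) := by
    rw [Finset.odd_sum_iff_odd_card_odd]
    simp [hq.pow]
  rw [h2, padicValNat.mul h3.pos.ne' (by omega), padicValNat.eq_zero_of_not_dvd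
    (by rwa [← even_iff_two_dvd, Nat.not_even_iff_odd]), zero_add]

theorem val_prod_GL {q : ℕ} (h1 : 1 < q) (hq : Odd q) (m : ℕ) :
    padicValNat 2 (∏ i ∈ Finset.range (2 * m), (q ^ (i + 1) - 1)) =
      m * (padicValNat 2 (q - 1) + padicValNat 2 (q ^ 2 - 1)) + padicValNat 2 m.factorial := by
  have hne : ∀ i, q ^ (i + 1) - 1 ≠ 0 := fun i =>
    Nat.sub_ne_zero_of_lt (Nat.one_lt_pow (by omega) h1)
  induction m with
  | zero => simp
  | succ m ih =>
    have h0 := Finset.prod_ne_zero_iff.mpr fun i (_ : i ∈ Finset.range (2 * m)) => hne i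
    rw [mul_add, mul_one, Finset.prod_range_succ, Finset.prod_range_succ,
      padicValNat.mul (Nat.mul_ne_zero h0 (hne _)) (hne _), padicValNat.mul h0 (hne _), ih,
      val_pow_odd_sub_one h1 hq, show 2 * m + 1 + 1 = 2 * (m + 1) by ring,
      val_pow_sub_one h1 hq (by omega), Nat.factorial_succ,
      padicValNat.mul (by omega) (Nat.factorial_ne_zero m)]
    ring

section sp

/-- The standard alternating form of the plane. -/
def altB (F : Type*) [Field F] : (Fin 2 → F) →ₗ[F] (Fin 2 → F) →ₗ[F] F :=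
  LinearMap.mk₂ F (fun x y => x 1 * y 0 - x 0 * y 1) (fun _ _ _ => by simp; ring)
    (fun _ _ _ => by simp; ring) (fun _ _ _ => by simp; ring) (fun _ _ _ => by simp; ring)

theorem altB_apply (x y : Fin 2 → F) : altB F x y = x 1 * y 0 - x 0 * y 1 := rfl

/-- `SL₂` preserves the alternating form. -/
noncomputable def slAlt (F : Type*) [Field F] : SL(2, F) →* Isom (altB F) (fun _ => 0) :=
  (SpecialLinearGroup.toLin' (n := Fin 2) (R := F)).codRestrict _ fun A => ⟨fun x y => by
    have := A.2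
    rw [det_fin_two] at this
    simp only [SpecialLinearGroup.toLin'_apply, toLin'_apply, altB_apply, mulVec, dotProduct,
      Fin.sum_univ_two]
    linear_combination (x 1 * y 0 - x 0 * y 1) * this, fun _ => rfl⟩

theorem slAlt_injective : Function.Injective (slAlt F) := fun _ _ h =>
  SpecialLinearGroup.toLin'_injective (congrArg Subtype.val h)

theorem sqComm_sp [Fintype F] (hF : Odd (Fintype.card F)) (n : ℕ)
    (P : Sylow 2 (symplecticGroup (Fin n) F)) : SqComm P := by
  have h1 : 1 < Fintype.card F := Fintype.one_lt_card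
  let e : (Fin n → Fin 2 → F) ≃ₗ[F] (Fin n ⊕ Fin n → F) :=
    { toFun := fun x => Sum.elim (fun i => x i 0) fun i => x i 1
      invFun := fun y i => ![y (.inl i), y (.inr i)]
      map_add' := fun x y => by ext (i | i) <;> rfl
      map_smul' := fun x y => by ext (i | i) <;> rfl
      left_inv := fun x => by ext i j; fin_cases j <;> rfl
      right_inv := fun y => by ext (i | i) <;> rfl }
  let ψ := (isomCongr (σ := RingHom.id F) (B := piB (Fin n) (altB F))
    (Q := piQ (Fin n) fun _ => 0) (B' := H10.spBilin (Fin n) F) (Q' := fun _ => 0) e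
    (fun x y => by rw [H10.spBilin_apply_sum, piB_apply]; rfl) (fun x => by simp [piQ])).trans
    (H10.spIso (Fin n) F).symm
  have h := ((isWr_pi (ι := Fin n) (B := altB F) (Q := fun _ => 0)).precomp slAlt_injective).comp
    (f := ψ.toMonoidHom) ψ.injective
  obtain ⟨D⟩ : Nonempty (Sylow 2 SL(2, F)) := inferInstance
  obtain ⟨T, hT, hT2⟩ := exists_sylow_perm _ (Fin n) rfl
  have h3 := h.card_wrSub D T
  refine sqComm_sylow (h3.trans ?_) (sqComm_wrSub (sqComm_sl2 hF D) hT2) P
  rw [hT, sylow_card, H10.card_sp, padicValNat.mul (by positivity)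
    (prod_pow_sub_one_ne h1 _), val_odd_pow hF, val_prod_pow_sub_one h1 hF, H10.card_SL2,
    Nat.card_eq_fintype_card (α := F), mul_assoc, mul_comm (_ - 1), ← Nat.sq_sub_sq _ 1,
    padicValNat.mul (by omega) (Nat.sub_ne_zero_of_lt (by nlinarith)),
    ← pow_one (Fintype.card F), val_odd_pow hF]
  simp [← pow_mul, ← pow_add, mul_comm, add_comm]

end sp

section gl

variable {κ ι : Type} [Fintype κ] [DecidableEq κ] [Fintype ι] [DecidableEq ι]

/-- Block diagonal matrices. -/
def glW (κ ι : Type) [Fintype κ] [DecidableEq κ] [Fintype ι] [DecidableEq ι] (F : Type*)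
    [Field F] : (ι → GL κ F) →* GL (κ × ι) F :=
  ((blockDiagonalRingHom κ ι F).toMonoidHom.comp ((Units.coeHom _).compLeft ι)).toHomUnits

/-- Permutations of the blocks. -/
def glP (κ ι : Type) [Fintype κ] [DecidableEq κ] [Fintype ι] [DecidableEq ι] (F : Type*)
    [Field F] : Perm ι →* GL (κ × ι) F :=
  (permMatrixHom.comp
    { toFun := fun σ => Equiv.prodCongr (Equiv.refl κ) σ
      map_one' := rfl
      map_mul' := fun _ _ => rfl }).toHomUnits

theorem glW_coe (f : ι → GL κ F) : (glW κ ι F f).1 = blockDiagonal fun i => (f i).1 := rfl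

theorem glP_coe (σ : Perm ι) : (glP κ ι F σ).1 =
    Perm.permMatrix F (Equiv.prodCongr (Equiv.refl κ) σ.symm) := rfl

theorem isWr_gl [Nonempty κ] : IsWr (glW κ ι F) (glP κ ι F) where
  inj f g e := funext fun i => Units.ext
    (congrFun (blockDiagonal_injective ((glW_coe f).symm.trans
      ((congrArg Units.val e).trans (glW_coe g)))) i)
  conj σ f := by
    rw [← map_inv]
    ext ⟨a, i⟩ ⟨b, j⟩
    simp [glW_coe, glP_coe, PEquiv.toMatrix_toPEquiv_mul, PEquiv.mul_toMatrix_toPEquiv,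
      blockDiagonal_apply, Perm.inv_def]
  disj f σ e := by
    obtain ⟨a⟩ := ‹Nonempty κ›
    ext i
    by_contra hi
    have := congrArg (fun g : GL (κ × ι) F => g.1 (a, σ i) (a, i)) e
    simp [glW_coe, glP_coe, blockDiagonal_apply, show σ i ≠ i from hi] at this

theorem det_glW (f : ι → GL κ F) :
    GeneralLinearGroup.det (glW κ ι F f) = ∏ i, GeneralLinearGroup.det (f i) :=
  Units.ext (by
    rw [GeneralLinearGroup.val_det_apply, glW_coe, det_blockDiagonal, Units.coe_prod]; rfl)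

theorem det_glW_single (i : ι) (a : GL κ F) :
    GeneralLinearGroup.det (glW κ ι F (Pi.mulSingle i a)) = GeneralLinearGroup.det a := by
  rw [det_glW, Finset.prod_eq_single i (fun j _ hj => by simp [hj]) (by simp)]
  simp

theorem det_glP (σ : Perm ι) : (GeneralLinearGroup.det (glP κ ι F σ) : F) =
    (Perm.sign σ : ℤ) ^ Fintype.card κ := by
  have : Equiv.prodCongr (Equiv.refl κ) σ.symm = prodCongrRight fun _ => σ⁻¹ := rfl
  simp [glP_coe, this, Perm.sign_prodCongrRight]

/-- Reindexing of invertible matrices. -/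
def glReindex {α β : Type} [Fintype α] [DecidableEq α] [Fintype β] [DecidableEq β] (e : α ≃ β) :
    GL α F ≃* GL β F := Units.mapEquiv (reindexAlgEquiv F F e).toMulEquiv

theorem det_glReindex {α β : Type} [Fintype α] [DecidableEq α] [Fintype β] [DecidableEq β]
    (e : α ≃ β) (g : GL α F) :
    GeneralLinearGroup.det (glReindex e g) = GeneralLinearGroup.det g :=
  Units.ext (det_reindex_self e g.1)

theorem sqComm_sl_of_ker [Finite F] {α β : Type} [Fintype α] [DecidableEq α] [Fintype β]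
    [DecidableEq β] (e : α ≃ β) {S : Subgroup (GL α F)}
    (hS : Nat.card S = 2 ^ padicValNat 2 (Nat.card (GL α F)))
    (h : SqComm (S ⊓ GeneralLinearGroup.det.ker : Subgroup (GL α F)))
    (P : Sylow 2 (SpecialLinearGroup β F)) : SqComm P := by
  let ψ := H10.slEquivKerDet.trans (subgroupEquivOfIff (glReindex (F := F) e.symm)
    GeneralLinearGroup.det.ker GeneralLinearGroup.det.ker fun g => by
      simp only [MonoidHom.mem_ker, det_glReindex])
  exact (sqComm_sylow_inf hS _ h (P.mapSurjective (f := ψ.toMonoidHom) ψ.surjective)).of_equiv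
    (ψ.subgroupMap P).symm

variable [Fintype F]

theorem sq_eq_one_of_mod (hq : Fintype.card F % 4 = 3) {a : Fˣ} {k : ℕ} (ha : a ^ 2 ^ k = 1) :
    a = 1 ∨ a = -1 := by
  have h1 := orderOf_dvd_of_pow_eq_one ha
  have h2 := orderOf_dvd_natCard a
  rw [H10.card_units_eq] at h2
  obtain ⟨j, hj, h3⟩ := (Nat.dvd_prime_pow Nat.prime_two).mp h1
  have h4 : j ≤ 1 := by
    by_contra h5
    have : 2 ^ 2 ∣ orderOf a := h3 ▸ pow_dvd_pow 2 (by omega)
    have := this.trans h2
    omega
  have : a ^ 2 = 1 := orderOf_dvd_iff_pow_eq_one.mp (h3 ▸ by simpa using pow_dvd_pow 2 h4)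
  have h5 : (a : F) * a = 1 := by rw [← sq, ← Units.val_pow_eq_pow_val, this, Units.val_one]
  exact (mul_self_eq_one_iff.mp h5).imp (fun h => Units.ext h) fun h => Units.ext h

/-- A Sylow 2-subgroup of `GL₂(q)` for `q ≡ 3 (mod 4)`. -/
theorem exists_sylow_gl2 (hq : Fintype.card F % 4 = 3) : ∃ (D : Sylow 2 (GL (Fin 2) F))
    (b : GL (Fin 2) F), b ∈ (D : Subgroup _) ∧ b * b = 1 ∧ GeneralLinearGroup.det b ≠ 1 ∧
      SqComm ((D : Subgroup (GL (Fin 2) F)) ⊓ GeneralLinearGroup.det.ker : Subgroup _) ∧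
      (D : Subgroup (GL (Fin 2) F)) ≤ closure ((((D : Subgroup (GL (Fin 2) F)) ⊓
        GeneralLinearGroup.det.ker : Subgroup (GL (Fin 2) F)) : Set (GL (Fin 2) F)) ∪ {b}) := by
  have hF : Odd (Fintype.card F) := Nat.odd_iff.mpr (by omega)
  have h2 := two_ne_zero_of_odd_card hF
  have hb1 : !![(0 : F), 1; 1, 0] * !![0, 1; 1, 0] = 1 := by
    ext i j; fin_cases i <;> fin_cases j <;> simp
  let b : GL (Fin 2) F := ⟨_, _, hb1, hb1⟩
  have hb : b * b = 1 := Units.ext hb1
  have hd : GeneralLinearGroup.det b = -1 := Units.ext (by simp [b, det_fin_two])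
  obtain ⟨D, hD⟩ := IsPGroup.exists_le_sylow (p := 2) (P := zpowers b)
    (isPGroup_zpowers (k := 1) (by rw [pow_one, sq, hb]))
  have hbD := hD (mem_zpowers b)
  refine ⟨D, b, hbD, hb, fun h0 => h2 ?_, ?_, fun g hg => ?_⟩
  · have := congrArg Units.val (h0.symm.trans hd)
    simp only [Units.val_one, Units.val_neg] at this
    linear_combination this
  · obtain ⟨P, hP⟩ := exists_sylow_inf D (GeneralLinearGroup.det (n := Fin 2) (R := F)).ker
    let ψ := (H10.slEquivKerDet (ι := Fin 2) (F := F)).symm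
    rw [← inf_subgroupOf_right] at hP
    exact ((sqComm_sl2 hF (P.mapSurjective (f := ψ.toMonoidHom) ψ.surjective)).of_equiv
      (ψ.subgroupMap P).symm).of_equiv
      ((MulEquiv.subgroupCongr hP).trans (subgroupOfEquivOfLe inf_le_right))
  · obtain ⟨k, hk⟩ := D.2 ⟨g, hg⟩
    rcases sq_eq_one_of_mod hq (a := GeneralLinearGroup.det g) (k := k) (by
      rw [← map_pow, show g ^ 2 ^ k = 1 from congrArg Subtype.val hk, map_one]) with h | h
    · exact subset_closure (.inl ⟨hg, h⟩)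
    · rw [← mul_one g, ← hb, ← mul_assoc]
      exact mul_mem (subset_closure (.inl ⟨mul_mem hg hbD, by
        simp [MonoidHom.mem_ker, h, hd]⟩)) (subset_closure (.inr rfl))

theorem card_wrSub_gl2 (hF : Odd (Fintype.card F)) (m : ℕ) (D : Sylow 2 (GL (Fin 2) F))
    {T : Subgroup (Perm (Fin m))} (hT : Nat.card T = 2 ^ padicValNat 2 m.factorial) :
    Nat.card (wrSub (glW (Fin 2) (Fin m) F) (glP (Fin 2) (Fin m) F) D T) =
      2 ^ padicValNat 2 (Nat.card (GL (Fin 2 × Fin m) F)) := by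
  have h1 : 1 < Fintype.card F := Fintype.one_lt_card
  rw [isWr_gl.card_wrSub, hT, sylow_card, Nat.card_congr (glReindex finProdFinEquiv).toEquiv,
    val_card_GL hF, val_card_GL hF, val_prod_GL h1 hF, val_prod_GL h1 hF 1]
  simp [← pow_mul, ← pow_add, mul_comm, add_comm]

theorem sqComm_sl_even (hq : Fintype.card F % 4 = 3) {m : ℕ} (hm : 1 ≤ m)
    (P : Sylow 2 (SpecialLinearGroup (Fin (2 * m)) F)) : SqComm P := by
  have hF : Odd (Fintype.card F) := Nat.odd_iff.mpr (by omega)
  obtain ⟨D, b, hbD, hb, hd, hD, hD2⟩ := exists_sylow_gl2 hq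
  obtain ⟨T, hT, hT2⟩ := exists_sylow_perm _ (Fin m) rfl
  refine sqComm_sl_of_ker finProdFinEquiv (card_wrSub_gl2 hF m D (by simpa using hT))
    (sqComm_of_sqSub ?_) P
  let x : Fin m → GL (Fin 2 × Fin m) F := fun i => glW _ _ F (Pi.mulSingle i b)
  have hx : ∀ i, x i * x i = 1 := fun i => by
    simp only [x]; rw [← map_mul, ← Pi.mulSingle_mul, hb, Pi.mulSingle_one, map_one]
  have hxS := fun i => single_mem_wrSub (w := glW (Fin 2) (Fin m) F) (π := glP _ _ F) T i hbD
  refine inf_le_of_sup (E := zpowers (x ⟨0, hm⟩)) ((sqSub_le _).trans inf_le_right)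
    (le_normalizer_sqSub (zpowers_le.mpr (hxS _))) (wrSub_le hD2 hT2 ?_ fun τ hτ => ?_) ?_
  · rintro i a (ha | rfl)
    · let f := (glW (Fin 2) (Fin m) F).comp (MonoidHom.mulSingle (fun _ => GL (Fin 2) F) i)
      have hf : ∀ a ∈ (D : Subgroup (GL (Fin 2) F)) ⊓ GeneralLinearGroup.det.ker, f a ∈
          wrSub (glW (Fin 2) (Fin m) F) (glP _ _ F) D T ⊓ GeneralLinearGroup.det.ker :=
        fun a ha => ⟨single_mem_wrSub T i ha.1, (det_glW_single i a).trans ha.2⟩
      exact mem_sup_left (mem_sqSub (hf a ha) (hD.sq_mem f hf ha))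
    · change x i ∈ _
      rw [← mul_one (x i), ← hx ⟨0, hm⟩, ← mul_assoc]
      refine mul_mem (mem_sup_left (mem_sqSub' ⟨mul_mem (hxS _) (hxS _), ?_⟩ ?_))
        (mem_sup_right (mem_zpowers _))
      · change GeneralLinearGroup.det (x i * x ⟨0, hm⟩) = 1
        simp only [map_mul, x, det_glW_single]
        rw [← map_mul, hb, map_one]
      · have : Commute (x i) (x ⟨0, hm⟩) := Commute.map (Pi.mulSingle_apply_commute
          (fun _ => a) _ _) _
        rw [this.mul_pow, sq, sq, hx, hx, one_mul]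
  · refine mem_sup_left (mem_sqSub' ⟨perm_mem_wrSub _ hτ.1, Units.ext ?_⟩
      (by rw [← map_pow, hτ.2, map_one]))
    rw [det_glP]
    rcases Int.units_eq_one_or (Perm.sign τ) with h | h <;> simp [h]
  · intro y hy hk
    rcases eq_of_mem_zpowers_invol (hx _) hy with rfl | rfl
    · exact one_mem _
    · exact (hd ((det_glW_single _ _).symm.trans hk)).elim

/-- `GL_n → SL_{n+1}`. -/
noncomputable def glSucc (α : Type) [Fintype α] [DecidableEq α] (F : Type*) [Field F] :
    GL α F →* SpecialLinearGroup (α ⊕ Unit) F where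
  toFun A := ⟨fromBlocks A.1 0 0 (diagonal fun _ => (A.1.det)⁻¹), by
    simp [det_fromBlocks_zero₂₁, A.det_ne_zero]⟩
  map_one' := Subtype.ext (by simp)
  map_mul' A B := Subtype.ext (by
    change _ = fromBlocks _ _ _ _ * fromBlocks _ _ _ _
    simp [fromBlocks_multiply, mul_comm])

omit [Fintype F] in
theorem glSucc_injective (α : Type) [Fintype α] [DecidableEq α] :
    Function.Injective (glSucc α F) := fun _ _ h =>
  Units.ext (fromBlocks_inj.mp (congrArg Subtype.val h)).1

theorem sqComm_sl_odd (hq : Fintype.card F % 4 = 3) (m : ℕ)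
    (P : Sylow 2 (SpecialLinearGroup (Fin (2 * m + 1)) F)) : SqComm P := by
  have hF : Odd (Fintype.card F) := Nat.odd_iff.mpr (by omega)
  have h1 : 1 < Fintype.card F := Fintype.one_lt_card
  obtain ⟨D, b, hbD, hb, hd, hD, hD2⟩ := exists_sylow_gl2 hq
  obtain ⟨T, hT, hT2⟩ := exists_sylow_perm _ (Fin m) rfl
  have hD3 : SqComm D := sqComm_of_sqSub (hD2.trans ((closure_le _).mpr (by
    rintro a (ha | rfl)
    · exact mem_sqSub ha.1 (hD.sq_mem (MonoidHom.id _) (fun _ h => h.1) ha)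
    · exact mem_sqSub' hbD (by rw [sq, hb]))))
  let e : (Fin 2 × Fin m) ⊕ Unit ≃ Fin (2 * m + 1) := Fintype.equivFinOfCardEq (by simp)
  let ψ := H10.slEquivKerDet.trans ((subgroupEquivOfIff (glReindex (F := F) e)
    GeneralLinearGroup.det.ker GeneralLinearGroup.det.ker fun g => by
      simp only [MonoidHom.mem_ker, det_glReindex]).trans H10.slEquivKerDet.symm)
  have hf : Function.Injective (ψ.toMonoidHom.comp (glSucc _ F)) :=
    ψ.injective.comp (glSucc_injective _)
  refine sqComm_sylow ?_ ((sqComm_wrSub (w := glW (Fin 2) (Fin m) F) (π := glP _ _ F) hD3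
    hT2).of_equiv (equivMapOfInjective _ _ hf)) P
  rw [card_map_of_injective hf, card_wrSub_gl2 hF m D (by simpa using hT),
    Nat.card_congr (glReindex finProdFinEquiv).toEquiv, val_card_GL hF]
  have h3 := val_card_GL hF (2 * m + 1)
  rw [← H10.card_units_mul_card_SL, padicValNat.mul Nat.card_pos.ne' Nat.card_pos.ne',
    Finset.prod_range_succ, padicValNat.mul (Finset.prod_ne_zero_iff.mpr fun i _ =>
      Nat.sub_ne_zero_of_lt (Nat.one_lt_pow (by omega) h1))
      (Nat.sub_ne_zero_of_lt (Nat.one_lt_pow (by omega) h1)), val_pow_odd_sub_one h1 hF,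
    H10.card_units_eq] at h3
  congr 1
  omega

theorem sqComm_sl_pow (hq : Fintype.card F % 4 = 1) {m k : ℕ} (hm : 2 * m = 2 ^ k)
    (P : Sylow 2 (SpecialLinearGroup (Fin (2 * m)) F)) : SqComm P := by
  have hF : Odd (Fintype.card F) := Nat.odd_iff.mpr (by omega)
  have h1 : 1 < Fintype.card F := Fintype.one_lt_card
  let ι := Fin k → ZMod 2
  have hι : Fintype.card ι = 2 * m := by simp [ι, hm]
  let e : Unit × ι ≃ Fin (2 * m) := Fintype.equivFinOfCardEq (by simp [hι])
  obtain ⟨C⟩ : Nonempty (Sylow 2 Fˣ) := inferInstance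
  have h2 : ∀ x : ι, x + x = 0 := fun x => funext fun i => CharTwo.add_self_eq_zero _
  obtain ⟨T, hT⟩ := IsPGroup.exists_le_sylow (p := 2)
    (P := (MulAction.toPermHom (Multiplicative ι) ι).range) (by
      rintro ⟨_, x, rfl⟩
      refine ⟨1, Subtype.ext ?_⟩
      change (MulAction.toPermHom (Multiplicative ι) ι x) ^ 2 ^ 1 = 1
      rw [← map_pow, pow_one, sq, show x * x = 1 from h2 _, map_one])
  have hsc : Function.Injective (GeneralLinearGroup.scalar Unit : Fˣ →* GL Unit F) :=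
    fun a b h => Units.ext (by simpa using congrArg (fun g : GL Unit F => g.1 () ()) h)
  have h := (isWr_gl (κ := Unit) (ι := ι) (F := F)).precomp hsc
  set w := (glW Unit ι F).comp ((GeneralLinearGroup.scalar Unit : Fˣ →* GL Unit F).compLeft ι)
  have hw : ∀ f, GeneralLinearGroup.det (w f) = ∏ i, f i := fun f => by
    simp only [w, MonoidHom.comp_apply, det_glW]
    exact Finset.prod_congr rfl fun i _ => Units.ext (by
      rw [GeneralLinearGroup.val_det_apply, det_unique]; rfl)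
  obtain ⟨u, hu⟩ : ∃ u : Fˣ, u ^ 2 = -1 := by
    obtain ⟨r, hr⟩ := (FiniteField.isSquare_neg_one_iff (F := F)).mpr (by omega)
    exact ⟨Units.mk0 r (by rintro rfl; simp at hr), Units.ext (by simp [sq, ← hr])⟩
  have huC : u ∈ (C : Subgroup Fˣ) := IsPGroup.le_sylow_of_normal (N := zpowers u)
    (isPGroup_zpowers (k := 2) (by rw [sq, pow_mul, hu]; simp)) C (mem_zpowers u)
  refine sqComm_sl_of_ker e (S := wrSub w (glP Unit ι F) C T) ?_ (sqComm_of_sqSub ?_) P
  · rw [h.card_wrSub, sylow_card, sylow_card, Nat.card_congr (glReindex e).toEquiv, val_card_GL hF,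
      val_prod_GL h1 hF, Nat.card_perm, Nat.card_eq_fintype_card (α := ι), hι,
      padicValNat_factorial_mul, H10.card_units_eq, ← pow_mul, ← pow_add,
      show Fintype.card F ^ 2 - 1 = _ from Nat.sq_sub_sq _ 1,
      padicValNat.mul (by omega) (by omega), val_eq_one (n := Fintype.card F + 1) (by omega)]
    congr 1; ring
  set S := wrSub w (glP Unit ι F) C T
  have hwS : ∀ f : ι → Fˣ, (∀ i, f i ∈ (C : Subgroup Fˣ)) → w f ∈ S :=
    fun f hf => mem_sup_left ⟨f, fun i _ => hf i, rfl⟩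
  have hsg : ∀ τ : Perm ι, ∃ v ∈ (C : Subgroup Fˣ), v ^ 2 * v ^ 2 = 1 ∧
      GeneralLinearGroup.det (glP Unit ι F τ) = v ^ 2 := fun τ => by
    rcases Int.units_eq_one_or (Perm.sign τ) with h | h
    · exact ⟨1, one_mem _, by simp, Units.ext (by rw [det_glP]; simp [h])⟩
    · exact ⟨u, huC, by simp [hu], Units.ext (by rw [det_glP]; simp [h, hu])⟩
  have hlift : ∀ τ ∈ (T : Subgroup (Perm ι)), ∀ v ∈ (C : Subgroup Fˣ), v ^ 2 * v ^ 2 = 1 →
      GeneralLinearGroup.det (glP Unit ι F τ) = v ^ 2 →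
      w (Pi.mulSingle 0 (v ^ 2)) * glP Unit ι F τ ∈ S ⊓ GeneralLinearGroup.det.ker :=
    fun τ hτ v hv h3 h4 => ⟨mul_mem (single_mem_wrSub _ _ (pow_mem hv 2)) (perm_mem_wrSub _ hτ), by
      change GeneralLinearGroup.det _ = 1
      simp only [map_mul, hw, h4, Fintype.prod_pi_mulSingle', h3]⟩
  have hd : ∀ i j : ι, ∀ c ∈ (C : Subgroup Fˣ), (Pi.mulSingle i c * Pi.mulSingle j c⁻¹) ^ 2 ∈
      ⁅S ⊓ GeneralLinearGroup.det.ker, S ⊓ GeneralLinearGroup.det.ker⁆.comap w := by
    intro i j c hc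
    let s : Perm ι := MulAction.toPermHom (Multiplicative ι) ι (Multiplicative.ofAdd (i + j))
    have hsi : s i = j := by
      change i + j + i = j
      rw [add_right_comm, h2, zero_add]
    have hsj : s j = i := by
      change i + j + j = i
      rw [add_assoc, h2, add_zero]
    obtain ⟨v, hv, h3, h4⟩ := hsg s
    have h5 := commutator_mem_commutator (H₁ := S ⊓ GeneralLinearGroup.det.ker)
      (g₁ := w (Pi.mulSingle i c * Pi.mulSingle j c⁻¹)) ⟨by
        rw [map_mul]
        exact mul_mem (single_mem_wrSub _ _ hc) (single_mem_wrSub _ _ (inv_mem hc)), by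
        simp [MonoidHom.mem_ker, hw, Finset.prod_mul_distrib]⟩
      (hlift s (hT ⟨_, rfl⟩) v hv h3 h4)
    have h6 : glP Unit ι F s * (w (Pi.mulSingle i c * Pi.mulSingle j c⁻¹))⁻¹ * (glP Unit ι F s)⁻¹ =
        w (Pi.mulSingle i c * Pi.mulSingle j c⁻¹) := by
      rw [← map_inv, mul_inv, ← Pi.mulSingle_inv, ← Pi.mulSingle_inv, inv_inv, map_mul,
        ← conj_mul, h.conj_single, h.conj_single, hsi, hsj, ← map_mul, mul_comm]
    rw [commutatorElement_def, _root_.mul_inv_rev] at h5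
    simp only [mul_assoc] at h5 h6
    rw [← mul_assoc (_)⁻¹, ← mul_assoc (glP Unit ι F s), h6, ← map_inv, ← map_mul, ← map_mul,
      ← map_mul, mul_comm (Pi.mulSingle 0 _), inv_mul_cancel_right] at h5
    rw [mem_comap, sq]
    exact h5
  have hA : ∀ f : ι → Fˣ, (∀ i, f i ∈ (C : Subgroup Fˣ)) → ∏ i, f i = 1 →
      w f ∈ sqSub (S ⊓ GeneralLinearGroup.det.ker) := fun f hf hf1 => by
    refine mem_sqSub ⟨hwS f hf, (hw f).trans hf1⟩ ?_
    have : f = ∏ i, Pi.mulSingle i (f i) * Pi.mulSingle 0 (f i)⁻¹ := by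
      rw [Finset.prod_mul_distrib, Finset.univ_prod_mulSingle]
      have := map_prod (MonoidHom.mulSingle (fun _ : ι => Fˣ) 0) (fun i => (f i)⁻¹) Finset.univ
      simp only [MonoidHom.mulSingle_apply] at this
      rw [← this, Finset.prod_inv_distrib, hf1]
      simp
    rw [← map_pow, this, ← Finset.prod_pow]
    exact Subgroup.prod_mem (comap w _) fun i _ => hd i 0 _ (hf i)
  refine inf_le_of_sup (E := (Subgroup.pi Set.univ fun _ => (C : Subgroup Fˣ)).map w)
    ((sqSub_le _).trans inf_le_right) (le_normalizer_sqSub le_sup_left)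
    (sup_le le_sup_right ?_) ?_
  · rw [map_le_iff_le_comap]
    refine (sylow_le_invSub T).trans ((closure_le _).mpr fun τ hτ => ?_)
    obtain ⟨v, hv, h3, h4⟩ := hsg τ
    rw [SetLike.mem_coe, mem_comap]
    rw [← inv_mul_cancel_left (w (Pi.mulSingle 0 (v ^ 2))) (glP Unit ι F τ)]
    refine mul_mem (mem_sup_right (inv_mem ⟨_, fun i _ => ?_, rfl⟩))
      (mem_sup_left (mem_sqSub (hlift τ hτ.1 v hv h3 h4) ?_))
    · by_cases hi : i = 0
      · subst hi; simpa using pow_mem hv 2
      · simp [hi]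
    · have h5 := hd 0 (τ 0) v hv
      have h6 := h.conj_single τ 0 (v ^ 2)
      have h7 : (glP Unit ι F τ)⁻¹ = glP Unit ι F τ := by
        rw [inv_eq_iff_mul_eq_one, ← map_mul, ← sq, hτ.2, map_one]
      rw [mem_comap, mul_pow, ← Pi.mulSingle_pow, ← Pi.mulSingle_pow, inv_pow,
        inv_eq_of_mul_eq_one_right h3, map_mul, ← h6, h7] at h5
      simpa only [sq, mul_assoc] using h5
  · rintro _ ⟨f, hf, rfl⟩ h3
    exact hA f (fun i => hf i trivial) ((hw f).symm.trans h3)

end gl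

end Cfsg.Agent.H11
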