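import Mathlib
import Cfsg.Agent.H11.Bal2

/-!
# Local balance in unitary groups
-/

set_option autoImplicit false

namespace Cfsg.Agent.H11

open Module

variable {F F₀ : Type*} [Field F] [Field F₀] {j : F₀ →+* F} {σ : F →+* F} {σ₀ : F₀ →+* F₀}

namespace RForm

variable {V V₀ : Type*} [AddCommGroup V] [Module F V] [AddCommGroup V₀] [Module F₀ V₀]
  [FiniteDimensional F₀ V₀] {t : V₀ →ₛₗ[j] V} {B : V →ₛₗ[σ] V →ₗ[F] F} {Q : V → F}
  {B₀ : V₀ →ₛₗ[σ₀] V₀ →ₗ[F₀] F₀} {Q₀ : V₀ → F₀} {μ ε κ : F} {τ : F →+ F} {A : Type*} [Group A]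
  (H : RForm B₀ Q₀ B Q t μ) (hQ : SpanExt B Q B Q) (h : IsForm ε κ τ B Q)
  {Φ : SemiSim B Q →* A} (hΦ : ∀ γ, Φ γ = 1 ↔ ∃ a, γ = h.semiScal a)
include hΦ

theorem simMap_ker [Nontrivial V₀] (δ : Sim B₀ Q₀) :
    Φ (H.simMap hQ δ) = 1 ↔ ∃ c : F₀, ∀ x, δ.1.1.1 x = c • x := by
  refine (hΦ _).trans ⟨fun ⟨a, e⟩ => ?_, fun ⟨c, e⟩ => ?_⟩
  · obtain ⟨b, hb', hb⟩ := H.exists_basis (finBasis F₀ V₀)
    let i : Fin (finrank F₀ V₀) := ⟨0, finrank_pos⟩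
    have h1 : ∀ x, (a : F) • t x = t (δ.1.1.1 x) := fun x =>
      (congrArg (fun γ : SemiSim B Q => γ.1.1 (t x)) e).symm.trans (H.simMap_apply hQ _ x)
    have h2 := congrArg (fun v => b.repr v i) (h1 (finBasis F₀ V₀ i))
    simp only [map_smul, Finsupp.smul_apply, hb, Basis.repr_self, Finsupp.single_eq_same, map_one,
      smul_eq_mul, mul_one] at h2
    exact ⟨_, fun x => H.injective (by rw [← h1, t.map_smulₛₗ, ← h2])⟩
  · obtain ⟨x, hx⟩ := exists_ne (0 : V₀)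
    have hc : j c ≠ 0 := (map_ne_zero j).mpr (by
      rintro rfl
      exact hx ((SemiSim.map_eq_zero _).mp ((e x).trans (zero_smul _ _))))
    exact ⟨Units.mk0 _ hc, H.simMap_eq hQ rfl fun x =>
      (t.map_smulₛₗ c x).symm.trans (congrArg t (e x).symm)⟩

theorem cmt [Nontrivial V] {r k : ℕ} [Fact r.Prime] [CharP F r] {θ : SemiSim B Q} {δ : Sim B₀ Q₀}
    (hk : δ ^ r ^ k = 1) (hc : Commute (Φ θ) (Φ (H.simMap hQ δ))) :
    Cmt t θ (simLin _ _ δ).toLinearMap :=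
  ⟨(simLin _ _ (H.simMap hQ δ)).toLinearMap, H.simMap_apply hQ δ, fun v =>
    congrArg (fun γ : SemiSim B Q => γ.1.1 v) (h.commute_of_unip hΦ (H.simMap hQ δ).2 (k := k)
      (by rw [← Subgroup.coe_pow, ← map_pow, hk, map_one, Subgroup.coe_one]) hc).eq⟩

end RForm

namespace QConj

variable {q n : ℕ} (hq : QConj σ q) (hn : 3 ≤ n) (h : ¬ (n = 3 ∧ q = 2))
  {p r : ℕ} [Fact r.Prime] [CharP F r]

include hq hn h in
theorem conj_injective : Function.Injective (MulAut.conj : PSU n F q →* _) :=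
  ((hq.isHerm _).form.isBar (fun γ => (hq.isHerm _).eq_semiScal hq (hermB_sep _) (by simpa) γ)
    (hq.psuBar_surjective hn h)).inj

theorem balD_of {V₀ Γ : Type*} [AddCommGroup V₀] [Module F₀ V₀] [FiniteDimensional F₀ V₀] [Group Γ]
    {B₀ : V₀ →ₛₗ[σ₀] V₀ →ₗ[F₀] F₀} {Q₀ : V₀ → F₀} {t : V₀ →ₛₗ[j] (Fin n → F)} {μ : F}
    (H : RForm B₀ Q₀ (hermB (Fin n) σ) (fun x => hermB (Fin n) σ x x) t μ) {γ}
    (hj : ∀ a, γ.1.2 a = a ↔ ∃ b, j b = a) (ht : ∀ x, γ.1.1 (t x) = t x)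
    (hp : orderOf γ.1.2 = p) {x y : V₀} (hxy : B₀ x y ≠ 0) (i : Γ →* Sim B₀ Q₀)
    (hi : ∀ δ, ∃ g, ∃ c : F₀, ∀ x, (δ * (i g)⁻¹).1.1.1 x = c • x) (L : Subgroup Γ) [L.Normal]
    (hL : ∀ l ∈ L, hq.psuBar hn h (H.simMap (spanExt_diag _ _) (i l)) ∈ Inn _)
    (h2 : ∀ Ψ : Γ →* MulAut (PSU n F q), (∀ g, Ψ g = 1 ↔ ∃ c : F₀, ∀ x, (i g).1.1.1 x = c • x) →
      NormP Ψ L p)
    (h4 : ∀ θ : SemiSim (hermB (Fin n) σ) fun x => hermB (Fin n) σ x x,
      (∀ l ∈ L, l ^ r ^ 2 = 1 → Cmt t θ (simLin _ _ (i l)).toLinearMap) → Fixes t θ) :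
    BalD p (hq.psuBar hn h γ) := by
  have := hq.finite
  have hH := hq.isHerm (Fin n)
  have hΦ := fun γ => hq.psuBar_eq_one hn h (γ := γ)
  have : Nonempty (Fin n) := ⟨⟨0, by omega⟩⟩
  have : Nontrivial V₀ := ⟨x, 0, by rintro rfl; simp at hxy⟩
  have hk := H.simMap_ker (spanExt_diag _ _) hH.form hΦ
  refine balD_of_hom (hq.conj_injective hn h) ((hq.psuBar hn h).comp ((Sim _ _).subtype.comp
    ((H.simMap (spanExt_diag _ _)).comp i))) L hL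
    (fun g => (H.commute_simMap (spanExt_diag _ _) ht _).map _) (fun k h5 h6 => ?_) (h2 _ fun g => hk _)
    fun θ hθ => ⟨1, ?_⟩
  · obtain ⟨δ, -, rfl⟩ := (H.inf_centralizer (spanExt_diag _ _) hH.form hΦ hj ht hxy (S := ⊤)
      fun _ => trivial).le ⟨(hq.range_eq hn h).le (inn_le_range_matBar h5),
        Subgroup.mem_centralizer_singleton_iff.mpr h6⟩
    obtain ⟨g, hg⟩ := hi δ
    exact ⟨g, (mul_inv_eq_one.mp (by simpa using (hk _).mpr hg)).symm⟩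
  · obtain ⟨θ, rfl⟩ := hq.psuBar_surjective hn h θ
    rw [pow_one, ← hp]
    exact H.pow_eq_scal hH.form hΦ hj (h4 θ fun l hl e => H.cmt (spanExt_diag _ _) hH.form hΦ
      (k := 2) (by rw [← map_pow, e, map_one]) (hθ l hl))

theorem balD_graph [Finite F₀] {ρ : RingAut F} (h1 : orderOf ρ = 2) (h2 : ∀ a, ρ a = σ a)
    (hj : ∀ a, ρ a = a ↔ ∃ b, j b = a) (hr : 2 ≠ r) {x B₀} (hB : hq.GRel hn h j ρ x B₀) :
    BalD 2 x := by
  obtain ⟨γ, t, μ, rfl, e, H, ht⟩ := hB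
  have hG := H.good (hq.isHerm _) (hermB_sep _) fun a => by rw [← h2, (hj _).mpr ⟨a, rfl⟩]
  have : Nonempty (Fin n) := ⟨⟨0, by omega⟩⟩
  obtain ⟨u, v, huv⟩ := hG.exists_pair
  have := j.charP j.injective r
  have h0 : (2 : F₀) ≠ 0 := fun h0 => hr (CharP.eq F₀ (charP_two_of h0) ‹_›)
  refine hq.balD_of hn h (r := r) H (e ▸ hj) ht (e ▸ h1) huv (toSim B₀) (fun δ => ?_)
    (commutator _) (fun l hl => ?_) (fun Ψ => hG.normP h0 (by simpa) Ψ)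
    fun θ => hG.fixes h0 (by simpa) H.emb
  · obtain ⟨g, rfl⟩ := toSim_surjective δ
    exact ⟨g, 1, by simp⟩
  · obtain ⟨g, hg, e⟩ := map_commutator_le (f := (hq.psuBar hn h).comp ((Sim _ _).subtype.comp
      ((H.simMap (spanExt_diag _ _)).comp (toSim B₀)))) (i := (hq.psuBar hn h).comp (ofIsom _ _))
      (by rintro _ ⟨g, rfl⟩; exact (hq.range_eq hn h).ge ⟨_, trivial, rfl⟩) ⟨l, hl, rfl⟩
    exact (e ▸ (hq.psuBar_mem_inn hn h).mpr ⟨1, g, Abelianization.commutator_subset_ker _ hg,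
      by simp⟩ :)

theorem balD_field {q₀ : ℕ} [Fact p.Prime] (hq₀ : QConj σ₀ q₀) (hσ : ∀ a, j (σ₀ a) = σ (j a))
    {ρ : RingAut F} (hj : ∀ a, ρ a = a ↔ ∃ b, j b = a) (hp : orderOf ρ = p) (hpr : p ≠ r) :
    BalD p (hq.psuBar hn h (hq.fieldU n ρ)) := by
  have := hq₀.finite
  have hH := hq₀.isHerm (Fin n)
  have := j.charP j.injective r
  have H := rform_herm (ι := Fin n) hσ
  obtain ⟨u, f, hu, hf, huf, _, hc⟩ := hH.exists_frame (hermB_sep _) (by simpa)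
  have h0 := huf.trans_ne one_ne_zero
  refine hq.balD_of hn h (r := r) H hj (fun x => (Matrix.one_mulVec _).trans
      (funext fun i => (hj _).mpr ⟨_, rfl⟩)) hp h0 ((ofIsom _ _).codRestrict _ fun _ => rfl)
    (fun δ => ?_) (SIsom _) (fun l hl => ?_) (fun Ψ => hH.normP (hermB_sep _) (by simpa) hq₀ hpr Ψ)
    fun θ hθ => hH.form.emb_fix (hermB_sep _) H.hB H.ne hu hf huf hc θ
      (hH.fix_pts (hermB_sep _) H.emb hθ)
  · obtain ⟨a, g, e⟩ := hH.exists_eq_scal_mul (hermB_sep _) (by simp; omega) δ.2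
    exact ⟨g, a, fun x => congrArg (fun γ : SemiSim _ _ => γ.1.1 x) (mul_inv_eq_iff_eq_mul.mpr e)⟩
  · obtain ⟨g, e, hg⟩ := H.exists_isom_det (spanExt_diag _ _) h0 l
    exact (hq.psuBar_mem_inn hn h).mpr ⟨1, g, by rw [MonoidHom.mem_ker, hg, hl, map_one],
      by rw [map_one, one_mul]; exact e⟩

include hq hn h in
theorem balD [hp : Fact p.Prime] (hpr : p ≠ r) {β : MulAut (PSU n F q)} (hord : orderOf β = p)
    (hnot : ¬ IsInnerDiagonalAutPSU β) : BalD p β := by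
  have := hq.finite
  obtain ⟨g, ρ, rfl⟩ := hq.exists_eq_mul hn h β
  have hk := hord ▸ pow_orderOf_eq_one (hq.psuBar hn h (ofIsom _ _ g) * _)
  have h1 : orderOf ρ = p := (congrArg orderOf (one_mul ρ)).symm.trans
    ((hq.isHerm _).form.orderOf_field (fun _ => hq.psuBar_eq_one hn h)
      (γ := ofIsom _ _ g * hq.fieldU n ρ) (fun e => hnot ((hq.isInnerDiagonal_iff hn h).mpr ⟨g, by
        rw [show ρ = 1 from (one_mul ρ).symm.trans e, map_one, map_one, mul_one]; rfl⟩))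
      hp.out (by rwa [map_mul]))
  rcases hp.out.eq_two_or_odd' with rfl | ho
  · obtain ⟨ρ', h2, h3⟩ := hq.exists_ringAut
    obtain rfl := H10.eq_of_orderOf_two h1 h2
    rw [← map_mul] at hk ⊢
    obtain ⟨B₀, hB⟩ := hq.exists_gRel hn h h1 h3 (fixS_iff ρ) (one_mul ρ) hk
    exact hq.balD_graph hn h h1 h3 (fixS_iff ρ) hpr hB
  · have := Fintype.ofFinite F
    have := Fintype.ofFinite (H10.fixS ρ)
    have hF := Nat.card_eq_fintype_card.symm.trans hq.card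
    obtain ⟨k, e⟩ := exists_eq_char_pow hF
    rw [ringChar.eq F r] at e
    obtain ⟨h3, h4⟩ := exists_subfieldU (e ▸ hF) h1 ho
    have hq₀ := qConj_conjQ (Nat.card_eq_fintype_card.symm.trans h4)
    have hσ := hq.map_conj hq₀ (by rw [← pow_mul, Nat.div_mul_cancel h3, e]) ho
      (H10.fixS ρ).subtype
    obtain ⟨α, -, e⟩ := hq.lang hn h hq₀ hσ (γ := hq.fieldU n ρ) (fixS_iff ρ)
      (by rw [← map_pow, ← map_pow, hq.fieldU_field, pow_orderOf_eq_one, map_one, map_one])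
      ⟨g, rfl⟩ (by rwa [hq.fieldU_field, h1])
    exact (e ▸ (hq.balD_field hn h hq₀ hσ (fixS_iff ρ) h1 hpr).conj α :)

end QConj

end Cfsg.Agent.H11
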